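import Groth.Agent.GIT.K688.LinRatio
import Groth.Agent.GIT.K689.PullBun
import Groth.Agent.Books.BorelOrb
import Mathlib.AlgebraicGeometry.FunctionField

/-!
# Functions of a given weight on a line bundle over an integral scheme

* `wt_of_open`: a function which has weight `n` over a non-empty open of an integral base has weight `n`;
* `exists_weight_one`: over an integral affine base the functions of weight one have no common zero outside the
  zero section;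
* `hasWeight_tr`: weights are preserved by the translations by rational points.
-/

set_option autoImplicit false

universe u

open CategoryTheory CategoryTheory.Limits MonoidalCategory CartesianMonoidalCategory MonObj AlgebraicGeometry
  TopologicalSpace Opposite

namespace K676.WtExt

open K689.SchGlue K689.Coord K689.CoordUP K689.Weight K689.Ratio K689.ActBasic K689.LinBunBasic K689.PullBun

section Sch

variable {X V : Scheme.{u}} {p : V ⟶ X} {chart : ∀ U : X.Opens, Set (Γ(V, p ⁻¹ᵁ U))}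

theorem rsec_injective [IsIntegral X] {U W : X.Opens} (h : W ≤ U) [Nonempty W] :
    Function.Injective (rsec h : Γ(X, U) → Γ(X, W)) := by
  have : Nonempty U := ⟨⟨(Classical.arbitrary W).1, h (Classical.arbitrary W).2⟩⟩
  intro f g e
  have h1 : X.germToFunctionField U f = X.germToFunctionField U g := by
    have h2 : ∀ f, X.germToFunctionField W (rsec h f) = X.germToFunctionField U f := by
      intro f
      exact TopCat.Presheaf.germ_res_apply _ _ _ _ _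
    rw [← h2, ← h2, e]
  exact X.germToFunctionField_injective U h1

theorem wt_of_open [IsIntegral X] [IsAffineHom p] (A : Atl p chart) {n : ℕ} {O : X.Opens}
    {f : Γ(V, p ⁻¹ᵁ O)} {W₀ : X.Opens} [Nonempty W₀] (h₀ : W₀ ≤ O) (hf : Wt p chart n W₀ (rs p h₀ f)) :
    Wt p chart n O f := by
  refine Wt.of_local A fun x hx => ?_
  obtain ⟨W, hW, y, hWa, hxW, hy⟩ := A.exists_adm hx
  refine ⟨W, hW, hxW, ?_⟩
  obtain ⟨q, hq⟩ := ((A.adm_coord hy) W hWa le_rfl).2 (rs p hW f)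
  rw [rs_self] at hq
  -- a small affine open
  have hne : ((W : Set X) ∩ W₀).Nonempty := by
    apply nonempty_preirreducible_inter W.2 W₀.2 ⟨x, hxW⟩
    exact ⟨(Classical.arbitrary W₀).1, (Classical.arbitrary W₀).2⟩
  obtain ⟨x₁, hx₁, hx₁'⟩ := hne
  obtain ⟨W₁, hW₁a, hW₁, hx₁W₁⟩ := exists_affine_le (X := X) (U := W ⊓ W₀) (x := x₁) ⟨hx₁, hx₁'⟩
  have hW₁W : W₁ ≤ W := hW₁.trans inf_le_left
  have hW₁0 : W₁ ≤ W₀ := hW₁.trans inf_le_right
  have : Nonempty W₁ := ⟨⟨x₁, hx₁W₁⟩⟩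
  obtain ⟨c, hc⟩ := hf W₁ hW₁0 (rs p hW₁W y) (hy.restrict hW₁W)
  rw [rs_rs] at hc
  have hinj := ((A.adm_coord hy) W₁ hW₁a hW₁W).1
  have h1 : rs p hW₁W (Polynomial.eval₂RingHom (p.app W).hom y q) =
      Polynomial.eval₂RingHom (p.app W₁).hom (rs p hW₁W y) (q.map (X.presheaf.map (homOfLE hW₁W).op).hom) := by
    have h2 : ((V.presheaf.map (homOfLE (p.preimage_mono hW₁W)).op).hom.comp
        (Polynomial.eval₂RingHom (p.app W).hom y)) =
        (Polynomial.eval₂RingHom (p.app W₁).hom (rs p hW₁W y)).comp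
          (Polynomial.mapRingHom (X.presheaf.map (homOfLE hW₁W).op).hom) := by
      apply Polynomial.ringHom_ext
      · intro r
        simp only [RingHom.comp_apply, Polynomial.coe_eval₂RingHom, Polynomial.eval₂_C,
          Polynomial.coe_mapRingHom, Polynomial.map_C]
        exact rs_app hW₁W r
      · simp only [RingHom.comp_apply, Polynomial.coe_eval₂RingHom, Polynomial.eval₂_X,
          Polynomial.coe_mapRingHom, Polynomial.map_X]
    exact congrArg (fun φ => φ q) h2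
  have h3 : q.map (X.presheaf.map (homOfLE hW₁W).op).hom = Polynomial.C c * Polynomial.X ^ n := by
    apply hinj
    rw [← h1, hq, rs_rs]
    refine hc.trans ?_
    simp
  have h4 : q = Polynomial.C (q.coeff n) * Polynomial.X ^ n := by
    ext i
    rw [Polynomial.coeff_C_mul, Polynomial.coeff_X_pow]
    by_cases hi : i = n
    · subst hi; simp
    · rw [if_neg hi, mul_zero]
      apply rsec_injective hW₁W
      have h5 := congrArg (fun r => r.coeff i) h3
      simp only [Polynomial.coeff_map, Polynomial.coeff_C_mul, Polynomial.coeff_X_pow, if_neg hi,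
        mul_zero] at h5
      exact h5.trans (map_zero _).symm
  have h6 : rs p hW f = p.app W (q.coeff n) * y ^ n := by
    rw [← hq]
    conv_lhs => rw [h4]
    simp
  rw [h6]
  exact Wt.of_adm A hy _

/-- Over an integral affine base there are weight-one functions not vanishing over a given point. -/
theorem exists_weight_one [IsIntegral X] [IsAffine X] [IsAffineHom p] (A : Atl p chart) (x : X) :
    ∃ f : Γ(V, p ⁻¹ᵁ ⊤), Wt p chart 1 ⊤ f ∧ x ∈ nv p f := by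
  obtain ⟨W, -, y, hWa, hxW, hy⟩ := A.exists_adm (O := ⊤) (x := x) trivial
  have hT : IsAffineOpen (⊤ : X.Opens) := isAffineOpen_top X
  obtain ⟨s, hsW, hxs⟩ := hT.exists_basicOpen_le (V := W) ⟨x, hxW⟩ trivial
  have hV : IsAffineOpen (p ⁻¹ᵁ (⊤ : X.Opens)) := hT.preimage p
  let t : Γ(V, p ⁻¹ᵁ ⊤) := p.app ⊤ s
  have ht : p ⁻¹ᵁ X.basicOpen s = V.basicOpen t := Scheme.preimage_basicOpen p s
  let y' : Γ(V, V.basicOpen t) := V.presheaf.map (homOfLE (ht.ge.trans (p.preimage_mono hsW))).op y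
  have hloc := hV.isLocalization_basicOpen t
  obtain ⟨n, F, hF⟩ : ∃ (n : ℕ) (F : Γ(V, p ⁻¹ᵁ ⊤)),
      V.presheaf.map (homOfLE (V.basicOpen_le t)).op F =
        V.presheaf.map (homOfLE (V.basicOpen_le t)).op t ^ n * y' := by
    obtain ⟨⟨F, ⟨_, n, rfl⟩⟩, hF⟩ := IsLocalization.surj (Submonoid.powers t) y'
    refine ⟨n, F, ?_⟩
    have h1 : y' * V.presheaf.map (homOfLE (V.basicOpen_le t)).op (t ^ n) =
      V.presheaf.map (homOfLE (V.basicOpen_le t)).op F := hF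
    rw [← h1, map_pow, mul_comm]
  have hDa : IsAffineOpen (X.basicOpen s) := hT.basicOpen s
  have hle : X.basicOpen s ≤ ⊤ := le_top
  have h2 : rs p hle F = p.app (X.basicOpen s) (rsec hle s ^ n) * (rs p hsW y) ^ 1 := by
    have h3 := congrArg (V.presheaf.map (homOfLE ht.le).op) hF
    rw [map_mul, map_pow] at h3
    rw [pow_one, map_pow, ← rs_app]
    simp only [y'] at h3
    simp only [← CommRingCat.comp_apply, ← V.presheaf.map_comp] at h3
    exact h3
  have h4 : Wt p chart 1 (X.basicOpen s) (rs p hle F) := by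
    rw [h2]
    exact Wt.of_adm A (hy.restrict hsW) _
  have : Nonempty (X.basicOpen s) := ⟨⟨x, hxs⟩⟩
  refine ⟨F, wt_of_open A hle h4, ?_⟩
  have h5 : nv p F ∩ X.basicOpen s = X.basicOpen (rsec hle s ^ n) := by
    rw [← nv_rs hle, h2, nv_adm A (hy.restrict hsW)]
  have h6 : x ∈ (X.basicOpen (rsec hle s ^ n) : Set X) := by
    have h7 : IsUnit (rsec hle s ^ n) := (RingedSpace.isUnit_res_basicOpen _ s).pow n
    rw [X.basicOpen_of_isUnit h7]
    exact hxs
  rw [← h5] at h6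
  exact h6.1

end Sch

section Tr

theorem appLE_id {T : Scheme.{u}} {O W : T.Opens} (h : W ≤ (𝟙 T : T ⟶ T) ⁻¹ᵁ O) (h' : W ≤ O) (y : Γ(T, O)) :
    (𝟙 T : T ⟶ T).appLE O W h y = rsec h' y := by
  have h1 : (𝟙 T : T ⟶ T).appLE O W h = T.presheaf.map (homOfLE h').op := by
    rw [Scheme.Hom.appLE, Scheme.Hom.id_app]
    exact Category.id_comp _
  rw [h1]

open Groth.Agent.Books.BorelOrb

variable {S : Scheme.{u}} {G X : Over S} [GrpObj G] {a : AlgGrp.Action G X} (B : GLinSh.LinBun G a)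

theorem tr_π (g : 𝟙_ (Over S) ⟶ G) : tr B.lift g ≫ B.π = B.π ≫ tr a g := by
  rw [comp_tr, tr, sm, sm, Category.assoc, B.lift_π, lift_whiskerLeft_assoc, Category.id_comp]

theorem hasWeight_tr (g : 𝟙_ (Over S) ⟶ G) {n : ℕ} {f : Γ(B.V.left, ⊤)}
    (hf : GLinSh.HasWeight B.atlas.chart n f) :
    GLinSh.HasWeight B.atlas.chart n ((tr B.lift g).left.appTop f) := by
  rw [hasWeight_iff]
  refine Wt.of_local (atl B.atlas) fun x _ => ?_
  obtain ⟨U, hxU, y, hy⟩ := B.atlas.cover x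
  obtain ⟨U', hxU', y', hy'⟩ := B.atlas.cover ((tr a g).left x)
  let W : X.left.Opens := U ⊓ (tr a g).left ⁻¹ᵁ U'
  have hWU : W ≤ U := inf_le_left
  refine ⟨W, le_top, ⟨hxU, hxU'⟩, ?_⟩
  obtain ⟨c, hc⟩ := B.lift_linear U U' y y' hy hy'
  obtain ⟨c', hc'⟩ := hf U' y' hy'
  let j : B.V ⟶ G ⊗ B.V := lift (toUnit B.V ≫ g) (𝟙 B.V)
  let j₀ : X ⟶ G ⊗ X := lift (toUnit X ≫ g) (𝟙 X)
  have hj : j ≫ (G ◁ B.π) = B.π ≫ j₀ := by
    simp only [j, j₀, lift_whiskerLeft, comp_lift, Category.id_comp, Category.comp_id]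
    congr 1
    rw [← Category.assoc, toUnit_unique (B.π ≫ toUnit X) (toUnit B.V)]
  have hjt : j ≫ B.lift.act = tr B.lift g := rfl
  have hjs : j ≫ snd G B.V = 𝟙 B.V := lift_snd _ _
  have hle : B.π.left ⁻¹ᵁ W ≤ j.left ⁻¹ᵁ (GLinSh.liftOpen a B.π U U') := by
    intro v hv
    refine ⟨?_, ?_⟩
    · change (j ≫ (G ◁ B.π) ≫ a.act).left v ∈ U'
      rw [reassoc_of% hj]
      exact hv.2
    · change (j ≫ (G ◁ B.π) ≫ snd G X).left v ∈ U
      rw [whiskerLeft_snd, reassoc_of% hjs]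
      exact hv.1
  have e := congrArg (j.left.appLE (GLinSh.liftOpen a B.π U U') (B.π.left ⁻¹ᵁ W) hle) hc
  rw [map_mul] at e
  have m1 : j.left ≫ B.lift.act.left = (tr B.lift g).left := by rw [← Over.comp_left, hjt]
  have m2 : j.left ≫ (G ◁ B.π).left = B.π.left ≫ j₀.left := by rw [← Over.comp_left, hj, Over.comp_left]
  have m3 : j.left ≫ (snd G B.V).left = 𝟙 _ := by rw [← Over.comp_left, hjs]; rfl
  have q1 : B.π.left ⁻¹ᵁ W ≤ (j.left ≫ B.lift.act.left) ⁻¹ᵁ (B.π.left ⁻¹ᵁ U') :=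
    hle.trans (j.left.preimage_mono (GLinSh.liftOpen_le_act a B.π B.lift B.lift_π))
  have q1' : B.π.left ⁻¹ᵁ W ≤ (tr B.lift g).left ⁻¹ᵁ (B.π.left ⁻¹ᵁ U') := by rw [← m1]; exact q1
  have q2 : B.π.left ⁻¹ᵁ W ≤ (j.left ≫ (G ◁ B.π).left) ⁻¹ᵁ (a.act.left ⁻¹ᵁ U' ⊓ (snd G X).left ⁻¹ᵁ U) :=
    hle.trans (j.left.preimage_mono (GLinSh.liftOpen_le_base a B.π))
  have q2' : B.π.left ⁻¹ᵁ W ≤ (B.π.left ≫ j₀.left) ⁻¹ᵁ (a.act.left ⁻¹ᵁ U' ⊓ (snd G X).left ⁻¹ᵁ U) := by
    rw [← m2]; exact q2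
  have hj₀ : W ≤ j₀.left ⁻¹ᵁ (a.act.left ⁻¹ᵁ U' ⊓ (snd G X).left ⁻¹ᵁ U) := by
    intro w hw
    refine ⟨hw.2, ?_⟩
    change (j₀ ≫ snd G X).left w ∈ U
    rw [lift_snd]
    exact hw.1
  have q3 : B.π.left ⁻¹ᵁ W ≤ (j.left ≫ (snd G B.V).left) ⁻¹ᵁ (B.π.left ⁻¹ᵁ U) :=
    hle.trans (j.left.preimage_mono (GLinSh.liftOpen_le_snd a B.π))
  have q3' : B.π.left ⁻¹ᵁ W ≤ (𝟙 B.V.left) ⁻¹ᵁ (B.π.left ⁻¹ᵁ U) := by rw [← m3]; exact q3
  have t1 := (appLE_appLE _ _ (GLinSh.liftOpen_le_act a B.π B.lift B.lift_π (U := U) (U' := U')) hle q1 y').trans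
    (appLE_hom_congr m1 q1 q1' y')
  have t2 := (appLE_appLE _ _ (GLinSh.liftOpen_le_base a B.π (U := U) (U' := U')) hle q2 c).trans
    (appLE_hom_congr m2 q2 q2' c)
  have t3 := (appLE_appLE _ _ (GLinSh.liftOpen_le_snd a B.π (U := U) (U' := U')) hle q3 y).trans
    (appLE_hom_congr m3 q3 q3' y)
  have t2' : (B.π.left ≫ j₀.left).appLE _ (B.π.left ⁻¹ᵁ W) q2' c =
      B.π.left.app W (j₀.left.appLE _ W hj₀ c) := by
    have h1 := appLE_appLE B.π.left j₀.left hj₀ (le_refl (B.π.left ⁻¹ᵁ W)) q2' c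
    rw [← h1, appLE_self_app]
  have t3' : (𝟙 B.V.left : B.V.left ⟶ B.V.left).appLE (B.π.left ⁻¹ᵁ U) (B.π.left ⁻¹ᵁ W) q3' y =
      rs B.π.left hWU y := by
    exact appLE_id _ _ _
  rw [t1, t2, t3, t2', t3'] at e
  -- the function
  have e2 : rs B.π.left (le_top : W ≤ ⊤) (tt B.π.left ((tr B.lift g).left.appTop f)) =
      (tr B.lift g).left.appLE (B.π.left ⁻¹ᵁ U') (B.π.left ⁻¹ᵁ W) q1' (GLinSh.resTop B.π U' f) := by
    rw [rs_tt]
    have h1 : GLinSh.resTop B.π U' f = rsec (le_top : B.π.left ⁻¹ᵁ U' ≤ ⊤) f := rfl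
    rw [h1, appLE_rsec _ _ _ (show B.π.left ⁻¹ᵁ W ≤ (tr B.lift g).left ⁻¹ᵁ ⊤ from fun v _ => trivial)]
    have h2 : (tr B.lift g).left.appLE ⊤ ⊤ le_top = (tr B.lift g).left.appTop := Scheme.Hom.appLE_eq_app _
    rw [← h2]
    exact rsec_appLE _ _ _ _ _
  rw [e2, hc', map_mul, map_pow, e]
  have hW' : W ≤ (tr a g).left ⁻¹ᵁ U' := inf_le_right
  have e3 : (tr B.lift g).left.appLE (B.π.left ⁻¹ᵁ U') (B.π.left ⁻¹ᵁ W) q1' (B.π.left.app U' c') =
      B.π.left.app W ((tr a g).left.appLE U' W hW' c') := by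
    have m4 : (tr B.lift g).left ≫ B.π.left = B.π.left ≫ (tr a g).left := by
      rw [← Over.comp_left, tr_π, Over.comp_left]
    have l1 : B.π.left ⁻¹ᵁ W ≤ ((tr B.lift g).left ≫ B.π.left) ⁻¹ᵁ U' := q1'
    have l2 : B.π.left ⁻¹ᵁ W ≤ (B.π.left ≫ (tr a g).left) ⁻¹ᵁ U' := B.π.left.preimage_mono hW'
    rw [app_appLE _ _ _ l1, appLE_hom_congr m4 l1 l2]
    have h1 := appLE_appLE B.π.left (tr a g).left hW' (le_refl (B.π.left ⁻¹ᵁ W)) l2 c'
    rw [← h1, appLE_self_app]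
  rw [e3, mul_pow, ← map_pow, ← _root_.mul_assoc, ← map_mul]
  exact Wt.of_adm (atl B.atlas) ((adm_of_mem hy).restrict hWU) _

end Tr

end K676.WtExt
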