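import Groth.Agent.GLinSh.K676.OrbBridge
import Groth.Agent.GLinSh.K676.WtExt

/-!
# Invariant sections of a linearised line bundle over an affine scheme, not vanishing on a closed orbit whose
stabiliser acts trivially on the fibre
-/

set_option autoImplicit false
universe u
open CategoryTheory MonoidalCategory CartesianMonoidalCategory MonObj AlgebraicGeometry Topology Limits
open scoped TensorProduct
open K951.Pts Groth.Agent.Books.BorelOrb Groth.Agent.Books.AffBridge Groth.Agent.Sga3.H219.Coact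
open K686.CoactOf K990.NRQuot K676.OrbBridge

namespace K676.FrameAff

open K689.SchGlue K689.Coord K689.CoordUP K689.Weight K689.Ratio K689.ActBasic K689.LinBunBasic K689.PullBun
open K676.WtExt

attribute [local instance] K951.Pts.algΓ

variable {k : Type u} [Field k]

theorem fn_id_injective (R : Type u) [CommRing R] [Algebra k R] :
    Function.Injective (fn (𝟙 (SpecOver k R))) := by
  have e4 := ConcreteCategory.bijective_of_isIso (Scheme.ΓSpecIso (CommRingCat.of R)).inv
  have e5 : ∀ t, fn (𝟙 (SpecOver k R)) t = (Scheme.ΓSpecIso (CommRingCat.of R)).inv t := by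
    intro t
    rw [fn_apply]
    change ((Scheme.ΓSpecIso (CommRingCat.of R)).inv ≫ Scheme.Hom.appTop (𝟙 (Spec (CommRingCat.of R)))) t = _
    rw [Scheme.Hom.id_appTop, Category.comp_id]
  intro s t hst
  rw [e5, e5] at hst
  exact e4.1 hst

theorem fn_specMap {R S : Type u} [CommRing R] [Algebra k R] [CommRing S] [Algebra k S] (ψ : R →ₐ[k] S) (f : R) :
    fn (specMap k ψ) f = fn (𝟙 (SpecOver k S)) (ψ f) := by
  have := fn_comp_pt (𝟙 (SpecOver k S)) ψ
  rw [Category.id_comp] at this
  exact congrArg (fun φ => φ f) this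

section

variable {G X : Over (Spec (CommRingCat.of k))} [GrpObj G] [IsAffine X.left]
  (a : AlgGrp.Action G X) {A : Type u} [CommRing A] [HopfAlgebra k A] (e : SpecOver k A ≅ G) [IsMonHom e.hom]

/-- The rational point of `Spec A` given by an algebra map. -/
noncomputable def gp (g : A →ₐ[k] k) : 𝟙_ (Over (Spec (CommRingCat.of k))) ⟶ SpecOver k A :=
  ofFn ((Algebra.ofId k _).comp g)

theorem fn_gp (g : A →ₐ[k] k) (W : Over (Spec (CommRingCat.of k))) (b : A) :
    fn (toUnit W ≫ gp g) b = algebraMap k Γ(W.left, ⊤) (g b) := by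
  rw [fn_comp, gp, fn_ofFn]
  change (toUnit W).left.appTop.hom (fnS (𝟙_ (Over (Spec (CommRingCat.of k)))).hom (g b)) = fnS W.hom (g b)
  rw [← fnS_comp_apply, Over.w]

theorem act_eq (g : A →ₐ[k] k) (f : Γ(X.left, ⊤)) :
    letI := cm a e;
    HopfRep.Comod.act k A Γ(X.left, ⊤) g f = (tr a ((gp g ≫ e.hom)⁻¹)).left.appTop f := by
  let := cm a e
  have h1 := congrArg (fun φ => φ f) (fn_lift_r a e (aff X) (toUnit X ≫ gp g))
  simp only [AlgHom.comp_apply] at h1
  rw [lift_r, ε_inv, fn_appTop] at h1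
  have h2 : aff X ≫ (ε X).hom = 𝟙 X := by rw [← ε_inv, Iso.inv_hom_id]
  have h3 : ((toUnit X ≫ gp g) ≫ e.hom)⁻¹ = toUnit X ≫ (gp g ≫ e.hom)⁻¹ := by
    rw [Category.assoc, GrpObj.comp_inv]
  rw [h2, h3] at h1
  refine Eq.trans ?_ h1.symm
  rw [Groth.Agent.Books.ComodPoints.act_apply]
  have h4 : ∀ t : Γ(X.left, ⊤) ⊗[k] A,
      (Algebra.TensorProduct.lift (fn (aff X)) (fn (toUnit X ≫ gp g)) fun _ _ => .all _ _) t =
      TensorProduct.rid k _ (g.toLinearMap.lTensor _ t) := by
    intro t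
    induction t using TensorProduct.induction_on with
    | zero => simp
    | tmul f b =>
      rw [Algebra.TensorProduct.lift_tmul, fn_gp, fn_aff, LinearMap.lTensor_tmul, TensorProduct.rid_tmul,
        Algebra.smul_def, mul_comm]
      rfl
    | add s t hs ht => rw [map_add, map_add, map_add, hs, ht]
  exact (h4 _).symm

omit [IsMonHom e.hom] in
/-- The value of the coaction. -/
theorem fn_rho {R : Type u} [CommRing R] [Algebra k R] (v : Γ(X.left, ⊤) →ₐ[k] R) (x : A →ₐ[k] R)
    (f : Γ(X.left, ⊤)) :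
    (sm a ((specMap k x ≫ e.hom)⁻¹) (specMap k v ≫ (ε X).hom)).left.appTop f =
      fn (𝟙 (SpecOver k R)) ((Algebra.TensorProduct.lift v x fun _ _ => .all _ _) (rho k (r a e) f)) := by
  have h1 := congrArg (fun φ => φ f) (fn_lift_r a e (specMap k v) (specMap k x))
  simp only [AlgHom.comp_apply] at h1
  rw [lift_r, ε_inv, fn_appTop] at h1
  refine h1.trans ?_
  have h2 : (Algebra.TensorProduct.lift (fn (specMap k v)) (fn (specMap k x)) fun _ _ => .all _ _) =
      (fn (𝟙 (SpecOver k R))).comp (Algebra.TensorProduct.lift v x fun _ _ => .all _ _) := by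
    apply Algebra.TensorProduct.ext
    · apply AlgHom.ext
      intro f
      simp [fn_specMap]
    · apply AlgHom.ext
      intro f
      simp [fn_specMap]
  exact congrArg (fun φ => φ (rho k (r a e) f)) h2

end

section Equiv

variable {G X V : Over (Spec (CommRingCat.of k))} [GrpObj G] [IsAffine X.left] [IsAffine V.left]
  (a : AlgGrp.Action G X) (Φ : AlgGrp.Action G V) (π : V ⟶ X) (hπ : Φ.act ≫ π = (G ◁ π) ≫ a.act)
  {A : Type u} [CommRing A] [HopfAlgebra k A] (e : SpecOver k A ≅ G) [IsMonHom e.hom]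

include hπ in
omit [IsAffine X.left] [IsAffine V.left] in
theorem sm_comp {T : Over (Spec (CommRingCat.of k))} (g : T ⟶ G) (v : T ⟶ V) :
    sm Φ g v ≫ π = sm a g (v ≫ π) := by
  rw [sm, sm, Category.assoc, hπ, lift_whiskerLeft_assoc]

include hπ in
theorem isEquiv_fn :
    letI := cm a e; letI := cm Φ e;
    K765.Basic.IsEquiv A (fn (π ≫ aff X)) := by
  let := cm a e
  let := cm Φ e
  intro f
  rw [fn_appTop]
  let R := Γ(V.left, ⊤) ⊗[k] A
  apply fn_id_injective (k := k) R
  let vl : Γ(V.left, ⊤) →ₐ[k] R := Algebra.TensorProduct.includeLeft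
  let xr : A →ₐ[k] R := Algebra.TensorProduct.includeRight
  have h1 := fn_rho Φ e vl xr (π.left.appTop f)
  have hid : (Algebra.TensorProduct.lift vl xr fun _ _ => .all _ _) = AlgHom.id k R := by
    apply Algebra.TensorProduct.ext
    · apply AlgHom.ext
      intro f
      simp [vl]
      rfl
    · apply AlgHom.ext
      intro f
      simp [xr]
      rfl
  rw [hid] at h1
  refine h1.symm.trans ?_
  rw [← K686.Haar.comp_appTop', sm_comp a Φ π hπ]
  have h2 : (specMap k vl ≫ (ε V).hom) ≫ π = specMap k (vl.comp (fn (π ≫ aff X))) ≫ (ε X).hom := by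
    rw [specMap_comp, Category.assoc, Category.assoc]
    congr 1
    rw [← cancel_epi (ε V).inv, Iso.inv_hom_id_assoc, ← Category.assoc]
    have h3 : (ε V).inv ≫ specMap k (fn (π ≫ aff X)) = π ≫ aff X := aff_comp_pt (π ≫ aff X)
    rw [h3, Category.assoc, ← ε_inv, Iso.inv_hom_id, Category.comp_id]
  rw [h2, fn_rho a e]
  congr 1
  have h4 : (Algebra.TensorProduct.lift (vl.comp (fn (π ≫ aff X))) xr fun _ _ => .all _ _) =
      Algebra.TensorProduct.map (fn (π ≫ aff X)) (AlgHom.id k A) := by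
    apply Algebra.TensorProduct.ext
    · apply AlgHom.ext
      intro f
      simp [vl]
      exact congrArg (fun t => (fn (π ≫ aff X) f) ⊗ₜ[k] t) (map_one (AlgHom.id k A)).symm
    · apply AlgHom.ext
      intro f
      simp [xr]
      exact congrArg (fun t => t ⊗ₜ[k] f) (map_one (fn (π ≫ aff X))).symm
  rw [h4]
  rfl

end Equiv

section Main

variable {G X : Over (Spec (CommRingCat.of k))} [GrpObj G]
  {a : AlgGrp.Action G X} (B : GLinSh.LinBun G a)

theorem isAffine_V [IsAffine X.left] : IsAffine B.V.left := isAffine_of_isAffineHom B.π.left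

theorem hasWeight_base (c : Γ(X.left, ⊤)) : GLinSh.HasWeight B.atlas.chart 0 (B.π.left.appTop c) := by
  intro U y hy
  refine ⟨rsec le_top c, ?_⟩
  rw [pow_zero, _root_.mul_one]
  exact rs_app (p := B.π.left) (le_top : U ≤ ⊤) c

theorem hasWeight_base_mul {f : Γ(B.V.left, ⊤)} (hf : GLinSh.HasWeight B.atlas.chart 1 f) (c : Γ(X.left, ⊤)) :
    GLinSh.HasWeight B.atlas.chart 1 (B.π.left.appTop c * f) := by
  have := weight_mul B (hasWeight_base B c) hf
  rwa [zero_add] at this

/-- The functions of weight one. -/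
noncomputable def C1 : Submodule k Γ(B.V.left, ⊤) where
  carrier := {f | GLinSh.HasWeight B.atlas.chart 1 f}
  add_mem' := weight_add B
  zero_mem' := by
    intro U y hy
    refine ⟨0, ?_⟩
    rw [map_zero, zero_mul]
    exact map_zero _
  smul_mem' := by
    intro r f hf
    have h1 : r • f = B.π.left.appTop (fnS X.hom r) * f := by
      rw [Algebra.smul_def]
      congr 1
      change fnS B.V.hom r = _
      rw [← Over.w B.π, fnS_comp_apply]
    rw [h1]
    exact hasWeight_base_mul B hf _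

theorem mem_C1 (f : Γ(B.V.left, ⊤)) : f ∈ C1 B ↔ GLinSh.HasWeight B.atlas.chart 1 f := Iff.rfl

theorem isSubcomod_C1 [IsAlgClosed k] [IsAffine X.left] {A : Type u} [CommRing A] [IsDomain A] [HopfAlgebra k A]
    [Algebra.FiniteType k A] (e : SpecOver k A ≅ G) [IsMonHom e.hom] :
    have := isAffine_V B
    letI := cm B.lift e
    HopfRep.IsSubcomod (k := k) (A := A) (C1 B) := by
  intro _
  let := cm B.lift e
  refine Groth.Agent.Books.ComodPoints.isSubcomod_of_stable
    (Groth.Agent.Books.PointsAC.eq_zero_of_forall_point k A) (C1 B) fun g f hf => ?_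
  rw [act_eq B.lift e g f]
  exact hasWeight_tr B _ hf

variable [IsAlgClosed k] [IsAffine X.left] [IsIntegral X.left]

omit [IsAlgClosed k] in
/-- A rational point of the total space over a rational point of the base, at which some function of weight one is
invertible. -/
theorem exists_point (z : 𝟙_ (Over (Spec (CommRingCat.of k))) ⟶ X) :
    ∃ v : 𝟙_ (Over (Spec (CommRingCat.of k))) ⟶ B.V, v ≫ B.π = z ∧
      ∃ f : Γ(B.V.left, ⊤), GLinSh.HasWeight B.atlas.chart 1 f ∧ pt v ∈ B.V.left.basicOpen f := by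
  obtain ⟨F, hF, hz⟩ := exists_weight_one (atl B.atlas) (pt z)
  let f : Γ(B.V.left, ⊤) := F
  have hft : tt B.π.left f = F := by
    change B.V.left.presheaf.map (homOfLE (le_top : B.π.left ⁻¹ᵁ ⊤ ≤ ⊤)).op F = F
    have : (homOfLE (le_top : B.π.left ⁻¹ᵁ ⊤ ≤ ⊤)) = 𝟙 _ := rfl
    rw [this]
    exact congrArg (fun φ => φ.hom F) (B.V.left.presheaf.map_id _)
  have hf : GLinSh.HasWeight B.atlas.chart 1 f := by
    rw [hasWeight_iff, hft]
    exact hF
  have hzf : pt z ∈ GLinSh.nonvanishing B.π f := by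
    rw [nonvanishing_eq, hft]
    exact hz
  obtain ⟨O, s, hO, hs, hu⟩ := K688.LinRatio.exists_local_lift B.atlas hf z.left (fun t => by
    have ht : t = IsLocalRing.closedPoint k := Subsingleton.elim (α := Spec (CommRingCat.of k)) _ _
    rw [ht]; exact hzf) (IsLocalRing.closedPoint k)
  have hOT : O = ⊤ := by
    rw [eq_top_iff]
    intro t _
    have ht : t = IsLocalRing.closedPoint k := Subsingleton.elim (α := Spec (CommRingCat.of k)) _ _
    rw [ht]; exact hO
  subst hOT
  let T : Scheme.{u} := (𝟙_ (Over (Spec (CommRingCat.of k)))).left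
  have hiso : IsIso (⊤ : T.Opens).ι := inferInstanceAs (IsIso T.topIso.hom)
  let v₀ : T ⟶ B.V.left := inv (⊤ : T.Opens).ι ≫ s
  have hv₀ : v₀ ≫ B.π.left = z.left := by
    simp only [v₀, Category.assoc]
    rw [hs, IsIso.inv_hom_id_assoc]
  let v : 𝟙_ (Over (Spec (CommRingCat.of k))) ⟶ B.V := Over.homMk v₀ (by
    rw [← Over.w B.π, reassoc_of% hv₀, Over.w])
  refine ⟨v, by ext1; exact hv₀, f, hf, ?_⟩
  have h1 : IsUnit (v₀.appTop f) := by
    have : v₀.appTop f = (inv (⊤ : T.Opens).ι).appTop (s.appTop f) := by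
      simp only [v₀]
      rw [Scheme.Hom.comp_appTop]
      rfl
    rw [this]
    exact hu.map _
  have h2 : v₀ ⁻¹ᵁ B.V.left.basicOpen f = ⊤ := by
    have h3 : v₀ ⁻¹ᵁ B.V.left.basicOpen f = T.basicOpen (v₀.appTop f) := Scheme.preimage_basicOpen_top v₀ f
    rw [h3, Scheme.basicOpen_of_isUnit _ h1]
  have h4 : IsLocalRing.closedPoint k ∈ v₀ ⁻¹ᵁ B.V.left.basicOpen f := by rw [h2]; trivial
  exact h4

theorem exists_invSection {A : Type u} [CommRing A] [IsDomain A] [HopfAlgebra k A] [Algebra.FiniteType k A]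
    (e : SpecOver k A ≅ G) [IsMonHom e.hom] (hG : HopfRep.IsLinearlyReductive k A)
    (z : 𝟙_ (Over (Spec (CommRingCat.of k))) ⟶ X) (hz : IsClosed (orb a z))
    (hst : ∀ (T : Over (Spec (CommRingCat.of k))) (g : T ⟶ G) (v : T ⟶ B.V),
      lift g (toUnit T ≫ z) ≫ a.act = toUnit T ≫ z → v ≫ B.π = toUnit T ≫ z → lift g v ≫ B.lift.act = v) :
    ∃ f : Γ(B.V.left, ⊤), B.IsInvSection 1 f ∧ pt z ∈ GLinSh.nonvanishing B.π f := by
  have := isAffine_V B
  let := cm a e
  let := cm B.lift e
  have := isCoactAlg a e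
  have := isCoactAlg B.lift e
  obtain ⟨v, hvz, F, hF, hvF⟩ := exists_point B z
  have hφ := isEquiv_fn a B.lift B.π B.lift_π e
  have hcomp : (evp v).comp (fn (B.π ≫ aff X)) = evp z := by
    apply AlgHom.ext
    intro f
    rw [AlgHom.comp_apply, fn_appTop, ← evp_comp, hvz]
  have hx : GLin.IsClosedOrbit k A ((evp v).comp (fn (B.π ≫ aff X))) := by
    rw [hcomp]
    exact (isClosedOrbit_iff a e z).2 hz
  -- the universal point of the stabiliser
  let J : Ideal A := GLin.stabIdeal k A (evp z)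
  let x : SpecOver k (A ⧸ J) ⟶ SpecOver k A := specMap k (Ideal.Quotient.mkₐ k J)
  have hxz : sm a ((x ≫ e.hom)⁻¹) (toUnit _ ≫ z) = toUnit _ ≫ z := by
    have := isIso_aff X
    rw [← cancel_mono (aff X)]
    apply fn_injective
    apply AlgHom.ext
    intro f
    rw [fn_appTop, fn_orbitHom, fn_appTop, const_appTop]
    rw [← AlgHom.commutes (fn x), ← sub_eq_zero, ← map_sub, fn_specMap]
    have h1 : GLin.orbitHom k A (evp z) f - algebraMap k A (evp z f) ∈ J := by
      rw [← AlgHom.commutes (GLin.orbitHom k A (evp z)), ← map_sub]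
      apply Ideal.mem_map_of_mem
      rw [RingHom.mem_ker, map_sub]
      simp
    have h2 : Ideal.Quotient.mkₐ k J (GLin.orbitHom k A (evp z) f - algebraMap k A (evp z f)) = 0 :=
      Ideal.Quotient.eq_zero_iff_mem.mpr h1
    rw [h2, map_zero]
  have hxv : sm B.lift ((x ≫ e.hom)⁻¹) (toUnit _ ≫ v) = toUnit _ ≫ v :=
    hst _ _ _ hxz (by rw [Category.assoc, hvz])
  have hst' : ∀ c ∈ C1 B, GLin.orbitHom k A (evp v) c - algebraMap k A (evp v c) ∈
      GLin.stabIdeal k A ((evp v).comp (fn (B.π ≫ aff X))) := by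
    intro c _
    rw [hcomp]
    have h1 := fn_orbitHom B.lift e v x c
    rw [hxv, const_appTop, ← AlgHom.commutes (fn x), eq_comm, ← sub_eq_zero, ← map_sub, fn_specMap] at h1
    have h2 := fn_id_injective (k := k) (A ⧸ J) (h1.trans (map_zero _).symm)
    exact Ideal.Quotient.eq_zero_iff_mem.mp h2
  obtain ⟨f, hf1, hf2, hf3⟩ := K676.FrameAlg.exists_invariant_of_stab (A := A) hG hφ (C1 B)
    (isSubcomod_C1 B e) (fun r c hc => by
      rw [fn_appTop]
      exact hasWeight_base_mul B hc r) hx hst'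
    ⟨F, hF, fun h => (evp_eq_zero_iff v F).1 h hvF⟩
  refine ⟨f, ⟨hf1, (rho_eq_iff B.lift e f).1 hf2⟩, ?_⟩
  refine ⟨pt v, ?_, ?_⟩
  · by_contra h
    have := (evp_eq_zero_iff v f).2 h
    rw [hf3] at this
    exact one_ne_zero this
  · rw [← hvz]
    exact (pt_comp v B.π).symm

end Main

end K676.FrameAff
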