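import Groth.Agent.GLinSh.K676.Frame
import Groth.Agent.GLinSh.K676.FrameAff
import Groth.Agent.NRQuot.K990.Restrict

/-!
# Existence of invariant frames over saturated opens of a good quotient
-/

set_option autoImplicit false
universe u
open CategoryTheory MonoidalCategory CartesianMonoidalCategory MonObj AlgebraicGeometry Topology Limits
open Groth.Agent.Books.BorelOrb Groth.Agent.Books.AffBridge K990.NRQuot K676.OrbBridge

namespace K676.FrameEx

open K689.SchGlue K689.Coord K689.CoordUP K689.Weight K689.Ratio K689.ActBasic K689.LinBunBasic K689.PullBun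
open K676.WtExt K676.Frame
open K688.ActRes (op inc exists_aW)

variable {k : Type u} [Field k] [IsAlgClosed k] {G Z M : Over (Spec (CommRingCat.of k))} [GrpObj G]
  {a : AlgGrp.Action G Z} {φ : Z ⟶ M}

omit [IsAlgClosed k] in
theorem exists_lift_pt (O : Z.left.Opens) (z : 𝟙_ (Over (Spec (CommRingCat.of k))) ⟶ Z) (hz : pt z ∈ O) :
    ∃ z' : 𝟙_ (Over (Spec (CommRingCat.of k))) ⟶ op Z O, z' ≫ inc Z O = z := by
  have hr : Set.range z.left ⊆ Set.range (inc Z O).left := by
    have : Set.range (inc Z O).left = O := Scheme.Opens.range_ι O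
    rw [this]
    rintro _ ⟨t, rfl⟩
    have ht : t = IsLocalRing.closedPoint k := Subsingleton.elim (α := Spec (CommRingCat.of k)) _ _
    rw [ht]
    exact hz
  refine ⟨Over.homMk (IsOpenImmersion.lift (inc Z O).left z.left hr) ?_, ?_⟩
  · have h1 : (op Z O).hom = (inc Z O).left ≫ Z.hom := rfl
    rw [h1, ← Category.assoc, IsOpenImmersion.lift_fac, Over.w]
  · ext1
    exact IsOpenImmersion.lift_fac _ _ _

theorem exists_frame [IsAffine G.left] [LocallyOfFiniteType G.hom] [LocallyOfFiniteType Z.hom] [IsIntegral Z.left]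
    {A : Type u} [CommRing A] [IsDomain A] [HopfAlgebra k A] [Algebra.FiniteType k A]
    (e : SpecOver k A ≅ G) [IsMonHom e.hom] (hG : HopfRep.IsLinearlyReductive k A)
    (hq : NRQuot.IsGoodQuot a φ) (B : GLinSh.LinBun G a)
    (z : 𝟙_ (Over (Spec (CommRingCat.of k))) ⟶ Z) (hz : IsClosed (orb a z))
    (hst : ∀ (T : Over (Spec (CommRingCat.of k))) (g : T ⟶ G) (v : T ⟶ B.V),
      lift g (toUnit T ≫ z) ≫ a.act = toUnit T ≫ z → v ≫ B.π = toUnit T ≫ z → lift g v ≫ B.lift.act = v) :
    ∃ (N : M.left.Opens) (f : Γ(B.V.left, B.π.left ⁻¹ᵁ (φ.left ⁻¹ᵁ N))), φ.left (pt z) ∈ N ∧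
      IsFrame B (φ.left ⁻¹ᵁ N) f := by
  have := hq.affine
  obtain ⟨N₀, hN₀, hzN₀, -⟩ := exists_isAffineOpen_mem_and_subset (X := M.left) (x := φ.left (pt z)) (U := ⊤)
    trivial
  let O : Z.left.Opens := φ.left ⁻¹ᵁ N₀
  have hO : IsAffineOpen O := hN₀.preimage φ.left
  have hzO : pt z ∈ O := hzN₀
  obtain ⟨a', he⟩ := exists_aW a φ hq.inv N₀
  have : IsAffine (op Z O).left := hO
  have : Nonempty (op Z O).left := ⟨⟨pt z, hzO⟩⟩
  have : IsIntegral (op Z O).left := isIntegral_of_isOpenImmersion (inc Z O).left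
  obtain ⟨z', hz'⟩ := exists_lift_pt O z hzO
  have : Mono (inc Z O) := inferInstance
  have horb : orb a z ⊆ O := by
    have h1 := orb_subset_fibre a hq.inv z
    intro x hx
    have h2 : φ.left x = pt (z ≫ φ) := h1 hx
    change φ.left x ∈ N₀
    rw [h2, pt_comp]
    exact hzN₀
  have hcl : IsClosed (orb a' z') := by
    have h1 : (a'.orbitMap z').left = orbLift a z O horb := by
      rw [← cancel_mono O.ι, orbLift_ι]
      have h2 : a'.orbitMap z' ≫ inc Z O = a.orbitMap z := by
        rw [orbitMap_eq, orbitMap_eq, sm, sm, Category.assoc, he, lift_whiskerLeft_assoc, Category.assoc, hz']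
      exact congrArg CommaMorphism.left h2
    have h3 : orb a' z' = O.ι ⁻¹' orb a z := by
      rw [← range_orbLift a z O horb, ← h1]
    rw [h3]
    exact hz.preimage O.ι.continuous
  have hst' : ∀ (T : Over (Spec (CommRingCat.of k))) (g : T ⟶ G) (v : T ⟶ pV (inc Z O) B),
      lift g (toUnit T ≫ z') ≫ a'.act = toUnit T ≫ z' → v ≫ pπ (inc Z O) B = toUnit T ≫ z' →
      lift g v ≫ pact a' (inc Z O) he B = v := by
    intro T g v h1 h2
    apply pullback.hom_ext
    · rw [Category.assoc, pact_q, lift_whiskerLeft_assoc]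
      apply hst T g (v ≫ pq (inc Z O) B)
      · have h3 := congrArg (fun m => m ≫ inc Z O) h1
        simp only [Category.assoc, hz'] at h3
        rw [he, lift_whiskerLeft_assoc, Category.assoc, hz'] at h3
        exact h3
      · rw [Category.assoc, pullback.condition, reassoc_of% h2, hz']
    · rw [Category.assoc, pact_π, lift_whiskerLeft_assoc]
      rw [h2]
      exact h1
  obtain ⟨f', hf', hzf'⟩ := K676.FrameAff.exists_invSection (pull a' (inc Z O) he B) e hG z' hcl
    (fun T g v h1 h2 => hst' T g v h1 h2)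
  obtain ⟨f, hwt, hinv, hnv⟩ := exists_transport B O a' he f' hf'
  -- invariance of the locus
  have hloc : ∀ p : (G ⊗ Z).left, a.act.left p ∈ nv B.π.left f ↔ (snd G Z).left p ∈ nv B.π.left f := by
    intro p
    have hφ : φ.left (a.act.left p) = φ.left ((snd G Z).left p) := by
      rw [← Scheme.Hom.comp_apply, ← Scheme.Hom.comp_apply, hq.inv.left]
    have key : (snd G Z).left p ∈ O → (a.act.left p ∈ nv B.π.left f ↔ (snd G Z).left p ∈ nv B.π.left f) := by
      intro hp
      have := isOpenImmersion_whiskerLeft (inc Z O) G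
      have hpr : p ∈ (G ◁ inc Z O).left.opensRange := by
        rw [opensRange_whiskerLeft]
        have : (inc Z O).left.opensRange = O := Scheme.Opens.opensRange_ι O
        rw [this]
        exact hp
      obtain ⟨p', rfl⟩ := hpr
      have h1 : a.act.left ((G ◁ inc Z O).left p') = (inc Z O).left (a'.act.left p') := by
        rw [← Scheme.Hom.comp_apply, ← Scheme.Hom.comp_apply, ← Over.comp_left, ← Over.comp_left, he]
      have h2 : (snd G Z).left ((G ◁ inc Z O).left p') = (inc Z O).left ((snd G (op Z O)).left p') := by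
        rw [← Scheme.Hom.comp_apply, ← Scheme.Hom.comp_apply, ← Over.comp_left, ← Over.comp_left, whiskerLeft_snd]
      rw [h1, h2, hnv, hnv]
      exact nonvanishing_invariant hf'.2 p'
    constructor
    · intro h
      have h1 : φ.left (a.act.left p) ∈ N₀ := nv_subset f h
      rw [hφ] at h1
      exact (key h1).1 h
    · intro h
      exact (key (nv_subset f h)).2 h
  have hzf : pt z ∈ nv B.π.left f := by
    have h1 := (hnv (pt z')).2 hzf'
    have h2 : (inc Z O).left (pt z') = pt z := by rw [← pt_comp, hz']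
    rwa [h2] at h1
  have horbf : orb a z ⊆ nv B.π.left f :=
    orb_subset_of_invariant a (fun p hp => (hloc p).2 hp) z hzf
  let W : Set Z.left := (nv B.π.left f)ᶜ
  have hW : IsClosed W := (isOpen_nv (atl B.atlas) hwt).isClosed_compl
  have hWi : NRQuot.IsInvariantSet a W := fun p hp h => hp ((hloc p).1 h)
  have hφW : IsClosed (φ.left.base '' W) := hq.closed W hW hWi
  have hoi : NRQuot.IsInvariantSet a (orb a z) := by
    have := isInvariantSet_closure_orb a z
    rwa [hz.closure_eq] at this
  have hzW : φ.left (pt z) ∉ φ.left.base '' W := by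
    intro hcon
    have h1 := hq.inter (ULift Bool) (fun b => if b.down then W else orb a z)
      (by rintro ⟨b⟩; cases b <;> simpa) (by rintro ⟨b⟩; cases b <;> simpa)
    have h2 : φ.left (pt z) ∈ ⋂ b : ULift Bool, φ.left.base '' (if b.down then W else orb a z) := by
      rw [Set.mem_iInter]
      rintro ⟨b⟩
      cases b
      · exact ⟨pt z, mem_orb a z, rfl⟩
      · exact hcon
    rw [← h1] at h2
    obtain ⟨x, hx, -⟩ := h2
    rw [Set.mem_iInter] at hx
    have hx1 : x ∈ orb a z := hx ⟨false⟩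
    have hx2 : x ∈ W := hx ⟨true⟩
    exact hx2 (horbf hx1)
  let N : M.left.Opens := N₀ ⊓ ⟨(φ.left.base '' W)ᶜ, hφW.isOpen_compl⟩
  have hN : φ.left ⁻¹ᵁ N ≤ O := fun x hx => hx.1
  refine ⟨N, rs B.π.left hN f, ⟨hzN₀, hzW⟩, hwt.restrict hN, ?_, ?_⟩
  · intro x hx
    rw [nv_rs]
    refine ⟨?_, hx⟩
    by_contra h
    exact hx.2 ⟨x, h, rfl⟩
  · intro T g v h h'
    rw [ev_rs, ev_rs]
    exact hinv T g v _ _

end K676.FrameEx
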