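import Groth.Agent.GLinSh.K676.Frame
import Groth.Agent.NRQuot.K990.Basic

/-!
# Ratios of invariant frames over saturated opens of a good quotient
-/

set_option autoImplicit false
universe u
open CategoryTheory MonoidalCategory CartesianMonoidalCategory MonObj AlgebraicGeometry Topology Limits
open Groth.Agent.Books.BorelOrb

namespace K676.FrameRatio

open K689.SchGlue K689.Coord K689.CoordUP K689.Weight K689.Ratio K689.ActBasic K689.LinBunBasic K689.PullBun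
open K676.WtExt K676.Frame
open K688.ActRes (op inc)

theorem rsec_eq_of_ι {Y : Scheme.{u}} {P W : Y.Opens} (hW : W ≤ P) (h : ⊤ ≤ W.ι ⁻¹ᵁ P) (s t : Γ(Y, P))
    (e : W.ι.appLE P ⊤ h s = W.ι.appLE P ⊤ h t) : rsec hW s = rsec hW t := by
  have h' : ⊤ ≤ W.ι ⁻¹ᵁ W := fun x _ => x.2
  have h1 : ∀ s : Γ(Y, P), W.ι.appLE P ⊤ h s = W.topIso.inv (rsec hW s) := by
    intro s
    rw [← appLE_rsec W.ι hW h' h]
    exact congrArg (fun φ => φ.hom (rsec hW s)) (ι_appLE_top W h')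
  rw [h1, h1] at e
  exact (ConcreteCategory.bijective_of_isIso W.topIso.inv).1 e

section

variable {S : Scheme.{u}} {G X : Over S} [GrpObj G] {a : AlgGrp.Action G X} {B : GLinSh.LinBun G a}

/-- Local lifts of a morphism to the total space at which a frame is invertible. -/
theorem exists_local_lift {O : X.left.Opens} {f : Γ(B.V.left, B.π.left ⁻¹ᵁ O)} (hf : IsFrame B O f)
    {T : Over S} (x : T ⟶ X) (P : T.left.Opens) (hP : P ≤ x.left ⁻¹ᵁ O) (t : T.left) (ht : t ∈ P) :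
    ∃ (W : T.left.Opens) (_ : W ≤ P) (v : op T W ⟶ B.V) (h : ⊤ ≤ v.left ⁻¹ᵁ (B.π.left ⁻¹ᵁ O)), t ∈ W ∧
      v ≫ B.π = inc T W ≫ x ∧ IsUnit (ev v.left h f) := by
  obtain ⟨W₀, hW₀O, -, y, d, -, hxW, hy, hd, -, e⟩ :=
    exists_adm_unit (atl B.atlas) hf.wt (hf.nv (hP ht)) (O' := ⊤) trivial
  let W : T.left.Opens := P ⊓ x.left ⁻¹ᵁ W₀
  have hle : ⊤ ≤ (W.ι ≫ x.left) ⁻¹ᵁ W₀ := fun z _ => z.2.2
  obtain ⟨s, hs, hsp, hsy⟩ := ((atl B.atlas).adm_coord hy).exists_lift (W.ι ≫ x.left) hle 1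
  let v : op T W ⟶ B.V := Over.homMk s (by
    have h3 : s ≫ B.V.hom = (s ≫ B.π.left) ≫ X.hom := by rw [Category.assoc, Over.w]
    rw [h3, hsp, Category.assoc, Over.w]
    rfl)
  have hO : ⊤ ≤ v.left ⁻¹ᵁ (B.π.left ⁻¹ᵁ O) := hs.trans (s.preimage_mono (B.π.left.preimage_mono hW₀O))
  refine ⟨W, inf_le_left, v, hO, ⟨ht, hxW⟩, ?_, ?_⟩
  · ext1; exact hsp
  · have h4 : ev v.left hO f = ev s hs (rs B.π.left hW₀O f) := (ev_rs (p := B.π.left) s hs hW₀O f).symm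
    rw [h4, e, ev_mul, ev_pow, hsy, one_pow, _root_.mul_one, ev_app s hs _ hsp hle]
    exact hd.map _

/-- The ratio of two invariant frames is invariant. -/
theorem ratio_inv' {O : X.left.Opens} {f f' : Γ(B.V.left, B.π.left ⁻¹ᵁ O)} (hf : IsFrame B O f)
    (hf' : ∀ (T : Over S) (g : T ⟶ G) (v : T ⟶ B.V) (h : ⊤ ≤ v.left ⁻¹ᵁ (B.π.left ⁻¹ᵁ O))
      (h' : ⊤ ≤ (sm B.lift g v).left ⁻¹ᵁ (B.π.left ⁻¹ᵁ O)),
      ev (sm B.lift g v).left h' f' = ev v.left h f')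
    {r : Γ(X.left, O)} (hr : f' = B.π.left.app O r * f) (P : (G ⊗ X).left.Opens)
    (h1 : P ≤ a.act.left ⁻¹ᵁ O) (h2 : P ≤ (snd G X).left ⁻¹ᵁ O) :
    a.act.left.appLE O P h1 r = (snd G X).left.appLE O P h2 r := by
  refine section_ext _ _ fun p hp => ?_
  obtain ⟨W, hWP, v, hv, hpW, hvx, hu⟩ := exists_local_lift hf (snd G X) P h2 p hp
  refine ⟨W, hWP, hpW, ?_⟩
  have hι : ⊤ ≤ W.ι ⁻¹ᵁ P := fun z _ => hWP z.2
  apply rsec_eq_of_ι hWP hι
  let t : op (G ⊗ X) W ⟶ G ⊗ X := inc (G ⊗ X) W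
  have hgx : sm B.lift (t ≫ fst G X) v ≫ B.π = t ≫ a.act := by
    rw [sm_π, hvx, ← comp_sm]
    have : sm a (fst G X) (snd G X) = a.act := by rw [sm, lift_fst_snd, Category.id_comp]
    rw [this]
  have hgv : ⊤ ≤ (sm B.lift (t ≫ fst G X) v).left ⁻¹ᵁ (B.π.left ⁻¹ᵁ O) := by
    intro z _
    change (sm B.lift (t ≫ fst G X) v ≫ B.π).left z ∈ O
    rw [hgx]
    exact h1 (hι trivial)
  have e1 := hf.inv _ (t ≫ fst G X) v hv hgv
  have e2 := hf' _ (t ≫ fst G X) v hv hgv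
  have hl1 : ⊤ ≤ (t ≫ a.act).left ⁻¹ᵁ O := fun z _ => h1 (hι trivial)
  have hl2 : ⊤ ≤ (t ≫ snd G X).left ⁻¹ᵁ O := fun z _ => h2 (hι trivial)
  rw [hr, ev_mul, ev_mul, ev_app (p := B.π.left) _ hgv (t ≫ a.act).left (congrArg CommaMorphism.left hgx) hl1,
    ev_app (p := B.π.left) _ hv (t ≫ snd G X).left (congrArg CommaMorphism.left hvx) hl2, e1] at e2
  have e3 := hu.mul_right_cancel e2
  have k1 := appLE_appLE W.ι a.act.left h1 hι hl1 r
  have k2 := appLE_appLE W.ι (snd G X).left h2 hι hl2 r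
  exact k1.trans (e3.trans k2.symm)

theorem ratio_inv {O : X.left.Opens} {f f' : Γ(B.V.left, B.π.left ⁻¹ᵁ O)} (hf : IsFrame B O f)
    (hf' : IsFrame B O f') {r : Γ(X.left, O)} (hr : f' = B.π.left.app O r * f) (P : (G ⊗ X).left.Opens)
    (h1 : P ≤ a.act.left ⁻¹ᵁ O) (h2 : P ≤ (snd G X).left ⁻¹ᵁ O) :
    a.act.left.appLE O P h1 r = (snd G X).left.appLE O P h2 r :=
  ratio_inv' hf hf'.inv hr P h1 h2

end

section Quot

variable {S : Scheme.{u}} {G Z M : Over S} [GrpObj G] {a : AlgGrp.Action G Z} {φ : Z ⟶ M}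
  {B : GLinSh.LinBun G a}

theorem exists_ratio_aux (hq : NRQuot.IsGoodQuot a φ) {N : M.left.Opens}
    {f f' : Γ(B.V.left, B.π.left ⁻¹ᵁ (φ.left ⁻¹ᵁ N))} (hf : IsFrame B (φ.left ⁻¹ᵁ N) f)
    (hf' : IsFrame B (φ.left ⁻¹ᵁ N) f') :
    ∃ h : Γ(M.left, N), f' = B.π.left.app (φ.left ⁻¹ᵁ N) (φ.left.app N h) * f := by
  obtain ⟨r, hr⟩ := exists_ratio (atl B.atlas) hf'.wt hf.wt hf.nv
  have h1 : GIT.IsInvSection a φ N r := ratio_inv hf hf' hr _ inf_le_left inf_le_right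
  have h2 : r ∈ Set.range (φ.left.app N) := by
    rw [(hq.sections N).2]
    exact h1
  obtain ⟨h, rfl⟩ := h2
  exact ⟨h, hr⟩

/-- The ratio of two invariant frames over saturated opens is a unit from the quotient. -/
theorem exists_ratio_unit (hq : NRQuot.IsGoodQuot a φ) {N : M.left.Opens}
    {f f' : Γ(B.V.left, B.π.left ⁻¹ᵁ (φ.left ⁻¹ᵁ N))} (hf : IsFrame B (φ.left ⁻¹ᵁ N) f)
    (hf' : IsFrame B (φ.left ⁻¹ᵁ N) f') :
    ∃ h : Γ(M.left, N), IsUnit h ∧ f' = B.π.left.app (φ.left ⁻¹ᵁ N) (φ.left.app N h) * f := by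
  obtain ⟨h, e⟩ := exists_ratio_aux hq hf hf'
  obtain ⟨h', e'⟩ := exists_ratio_aux hq hf' hf
  refine ⟨h, ?_, e⟩
  apply IsUnit.of_mul_eq_one h'
  apply (hq.sections N).1
  refine ratio_unique (atl B.atlas) hf.wt le_rfl hf.nv _ _ ?_
  rw [rs_self, map_mul, map_mul, map_one, map_one, _root_.one_mul, mul_comm (B.π.left.app _ _), _root_.mul_assoc, ← e,
    ← e']

end Quot

end K676.FrameRatio
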