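import Groth.Agent.GLinSh.K676.BunOfDiv
import Groth.Agent.GLinSh.K676.FrameRatio
import Groth.Agent.GIT.K689.LineBun
import Groth.Agent.Ega2.QCohLocal

/-!
# Generators of the ideal of an invariant divisor coming from the quotient
-/

set_option autoImplicit false
universe u

open CategoryTheory MonoidalCategory CartesianMonoidalCategory MonObj AlgebraicGeometry Topology Limits

namespace K676.GenQuot

open K689.SchGlue K689.Coord K689.CoordUP K689.Weight K689.Ratio K689.ActBasic K689.LinBunBasic K689.PullBun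
open K676.LiftT K676.DivSec K676.BunOfDiv K676.Frame K676.FrameRatio
open Groth.Agent.Books.BorelOrb
open Groth.Agent.Fdesc.LocGen (ores res)
open Groth.Agent.Dix.IdealModCartier (GenOn exists_affine_mem_le exists_genOn)

/-- The total space of the invertible sheaf of an effective Cartier divisor. -/
theorem exists_can {S : Scheme.{u}} (Y : Over S) {D : Y.left.IdealSheafData} (hD : BlowUp.IsEffCartierIdeal D) :
    ∃ (V : Over S) (π : V ⟶ Y) (A : GLinSh.LinAtlas π) (t : Γ(V.left, π.left ⁻¹ᵁ ⊤)),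
      IsCan π.left A.chart D t := by
  have hinv := isInvertible_dual_idealMod hD
  have hM : Coh.IsQCoh (Groth.Agent.Grpsch.PicGrp.dual (ClSub.idealMod D)) :=
    Groth.Agent.Ega2.QCohLocal.isQCoh_of_isInvertible hinv
  refine ⟨K689.LineBun.VM Y hM, K689.LineBun.πM Y hM, K689.LineBun.atlas Y hM hinv,
    K689.LineBun.yy hM (cs D), ?_⟩
  rintro U _ ⟨m, hm, rfl⟩
  obtain ⟨d, hd, e⟩ := exists_genOn_smul hD hm
  refine ⟨d, hd, ?_⟩
  refine (K689.LineBun.rs_yy hM le_top (cs D)).trans ?_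
  rw [e]
  exact K689.LineBun.yy_smul hM d m

variable {S : Scheme.{u}} {G Z M : Over S} [GrpObj G] {a : AlgGrp.Action G Z} {φ : Z ⟶ M}
  {B : GLinSh.LinBun G a} {D : Z.left.IdealSheafData} {t : Γ(B.V.left, B.π.left ⁻¹ᵁ ⊤)}

theorem ev_sm_of_tv (ht : tv t B.lift.act = tv t (snd G B.V)) (T : Over S) (g : T ⟶ G) (v : T ⟶ B.V) :
    tv t (sm B.lift g v) = tv t v := by
  rw [sm, tv_comp, ht, ← tv_comp, lift_snd]

theorem exists_generator (hq : NRQuot.IsGoodQuot a φ) (hc : IsCan B.π.left B.atlas.chart D t)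
    (ht : tv t B.lift.act = tv t (snd G B.V)) {N : M.left.Opens}
    {f : Γ(B.V.left, B.π.left ⁻¹ᵁ (φ.left ⁻¹ᵁ N))} (hf : IsFrame B (φ.left ⁻¹ᵁ N) f) :
    ∃ h : Γ(M.left, N), GenOn D (φ.left.app N h) := by
  have := B.atlas.affine
  have hadm : ∀ (W : Z.left.Opens) (y : Γ(B.V.left, B.π.left ⁻¹ᵁ W)), Adm B.π.left B.atlas.chart W y →
      ∃ d : Γ(Z.left, W), GenOn D d ∧ rs B.π.left le_top t = B.π.left.app W d * y := by
    rintro W _ ⟨U, hW, y, hy, rfl⟩
    obtain ⟨d, hd, e⟩ := hc U y hy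
    refine ⟨rsec hW d, hd.res hW, ?_⟩
    have e1 := congrArg (rs B.π.left hW) e
    rwa [rs_rs, rs_mul, rs_app] at e1
  have hwt : Wt B.π.left B.atlas.chart 1 (φ.left ⁻¹ᵁ N) (rs B.π.left le_top t) := by
    intro W hW y hy
    obtain ⟨d, -, e⟩ := hadm W y hy
    exact ⟨d, by rw [rs_rs, e, pow_one]⟩
  obtain ⟨r, hr⟩ := exists_ratio (atl B.atlas) hwt hf.wt hf.nv
  have hgen : GenOn D r := by
    refine genOn_of_local fun x hx => ?_
    obtain ⟨W, hWO, -, y, d, -, hxW, hy, hd, -, e⟩ :=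
      exists_adm_unit (atl B.atlas) hf.wt (hf.nv hx) (O' := ⊤) trivial
    obtain ⟨d₀, hd₀, e₀⟩ := hadm W y hy
    refine ⟨W, hWO, hxW, ?_⟩
    have e1 := congrArg (rs B.π.left hWO) hr
    rw [rs_rs, rs_mul, rs_app, e, e₀, ← _root_.mul_assoc, ← map_mul] at e1
    have e2 := IsCoord.mul_pow_injective ((atl B.atlas).adm_coord hy) 1 (c := d₀) (c' := rsec hWO r * d)
      (by rw [pow_one] at e1 ⊢; exact e1)
    obtain ⟨u, rfl⟩ := hd
    have e3 : rsec hWO r = (u⁻¹ : Γ(Z.left, W)ˣ) * d₀ := by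
      rw [e2, _root_.mul_comm, _root_.mul_assoc, Units.mul_inv, _root_.mul_one]
    change GenOn D (rsec hWO r)
    rw [e3]
    exact GenOn.unit_mul hd₀ (u⁻¹).isUnit
  have hinv : GIT.IsInvSection a φ N r := by
    refine ratio_inv' hf ?_ hr _ inf_le_left inf_le_right
    intro T g v h1 h2
    rw [ev_rs, ev_rs]
    exact ev_sm_of_tv ht T g v
  have h2 : r ∈ Set.range (φ.left.app N) := by
    rw [(hq.sections N).2]
    exact hinv
  obtain ⟨h, rfl⟩ := h2
  exact ⟨h, hgen⟩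

/-- A function from the quotient in the ideal of an invariant divisor is a multiple of a generator from the
quotient. -/
theorem exists_mul (hq : NRQuot.IsGoodQuot a φ) (hD : InvDiv a D) {N : M.left.Opens} {h : Γ(M.left, N)}
    (hg : GenOn D (φ.left.app N h)) {N' : M.left.Opens} (hN : N' ≤ N) (g : Γ(M.left, N'))
    (hgD : ∀ (W : Z.left.affineOpens) (hW : W.1 ≤ φ.left ⁻¹ᵁ N'), ores hW (φ.left.app N' g : Γ(Z.left, φ.left ⁻¹ᵁ N')) ∈ D.ideal W) :
    ∃ c : Γ(M.left, N'), g = c * rsec hN h := by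
  let O' : Z.left.Opens := φ.left ⁻¹ᵁ N'
  have hO : O' ≤ φ.left ⁻¹ᵁ N := φ.left.preimage_mono hN
  let s : Γ(Z.left, O') := φ.left.app N' g
  let e : Γ(Z.left, O') := rsec hO (φ.left.app N h)
  have he : GenOn D e := hg.res hO
  have hex : ∀ b : Γ(Z.left, O'), (∀ (W : Z.left.affineOpens) (hW : W.1 ≤ O'), ores hW b ∈ D.ideal W) →
      ∃ b' : Γ(ClSub.idealMod D, O'), Groth.Agent.Dix.IdealModCartier.val D b' = b := fun b hb =>
    Groth.Agent.Dix.IdealModCartier.exists_val_eq_of_local D O' b (fun x hx => by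
      obtain ⟨V, hxV, hV⟩ := exists_affine_mem_le O' x hx
      exact ⟨V, hV, hxV, hb V hV⟩)
  obtain ⟨s', hs'⟩ := hex s hgD
  obtain ⟨e', he'⟩ := hex e (fun W hW => by rw [(he W hW).2]; exact Ideal.mem_span_singleton_self _)
  have hgen : Groth.Agent.Fdesc.LocGen.IsGen e' := Groth.Agent.Dix.IdealModCartier.isGen_of_genOn (he' ▸ he)
  obtain ⟨c, hc⟩ := hgen.exists_eq s'
  have hsc : s = c * e := by
    rw [← hs', hc, Groth.Agent.Dix.IdealModCartier.val_smul, he']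
  have heh : e = φ.left.app N' (rsec hN h) := (rs_app hN h)
  have hinv : GIT.IsInvSection a φ N' c := by
    have hb1 : a.act.left ⁻¹ᵁ O' ⊓ (snd G Z).left ⁻¹ᵁ O' ≤ (a.act.left ≫ φ.left) ⁻¹ᵁ N' := inf_le_left
    have hb2 : a.act.left ⁻¹ᵁ O' ⊓ (snd G Z).left ⁻¹ᵁ O' ≤ ((snd G Z).left ≫ φ.left) ⁻¹ᵁ N' := inf_le_right
    have key : ∀ b : Γ(M.left, N'), a.act.left.appLE O' (a.act.left ⁻¹ᵁ O' ⊓ (snd G Z).left ⁻¹ᵁ O') inf_le_left
        (φ.left.app N' b) = (snd G Z).left.appLE O' (a.act.left ⁻¹ᵁ O' ⊓ (snd G Z).left ⁻¹ᵁ O') inf_le_right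
        (φ.left.app N' b) := by
      intro b
      rw [app_appLE _ _ _ hb1, app_appLE _ _ _ hb2]
      exact appLE_hom_congr hq.inv.left hb1 hb2 b
    have k1 := key g
    have k2 := key (rsec hN h)
    rw [← heh] at k2
    change a.act.left.appLE O' _ _ s = (snd G Z).left.appLE O' _ _ s at k1
    rw [hsc, map_mul, map_mul, ← k2] at k1
    refine cancel_of a.act.left hD.eff₁ he inf_le_left ?_
    rw [_root_.mul_comm, k1, _root_.mul_comm]
  have h2 : c ∈ Set.range (φ.left.app N') := by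
    rw [(hq.sections N').2]
    exact hinv
  obtain ⟨c', rfl⟩ := h2
  refine ⟨c', (hq.sections N').1 ?_⟩
  rw [map_mul, ← heh]
  exact hsc

end K676.GenQuot
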