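import Groth.Agent.GLinSh.K676.InvE
import Groth.Agent.GLinSh.K676.GenQuot
import Groth.Agent.GLinSh.K676.FrameEx
import Mathlib.RingTheory.UniqueFactorizationDomain.Kaplansky

/-!
# Trivial action of the stabilisers on the fibres ⟹ the quotient is locally factorial
-/

set_option autoImplicit false
universe u

open CategoryTheory MonoidalCategory CartesianMonoidalCategory MonObj AlgebraicGeometry Topology Limits

namespace K676.Backward

open Groth.Agent.CycB.LocQuot K676.UnAt K676.PrimePt K676.InvE K676.LiftT K676.BunOfDiv K676.GenQuot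
open Groth.Agent.Fdesc.LocGen (ores)
open Groth.Agent.Dix.IdealModCartier (GenOn exists_affine_mem_le)
open K689.SchGlue
open K990.NRQuot

section Gen

variable {X : Scheme.{u}}

theorem mem_primeOf {x ξ : X} (h : ξ ⤳ x) (s : X.presheaf.stalk x) :
    s ∈ (primeOf h).asIdeal ↔ ¬ IsUnit (X.presheaf.stalkSpecializes h s) := by
  rw [primeOf_asIdeal, mem_ker_specMap_iff]

theorem germ_mem_primeOf {x ξ : X} (h : ξ ⤳ x) {U : X.Opens} (hx : x ∈ U) (f : Γ(X, U)) :
    X.presheaf.germ U x hx f ∈ (primeOf h).asIdeal ↔ ξ ∉ X.basicOpen f := by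
  rw [mem_primeOf]
  have h1 : X.presheaf.stalkSpecializes h (X.presheaf.germ U x hx f) =
      X.presheaf.germ U ξ (h.mem_open U.2 hx) f :=
    TopCat.Presheaf.germ_stalkSpecializes_apply _ _ h _
  rw [h1, Scheme.mem_basicOpen]

theorem mem_ideal_cl {e : X} (W : X.affineOpens) (s : Γ(X, W.1)) (h : e ∉ X.basicOpen s) : s ∈ (cl e).ideal W := by
  have h1 : ∀ x : X, x ∈ X.basicOpen s → ¬ e ⤳ x := fun x hx he => h (he.mem_open (X.basicOpen s).2 hx)
  change s ∈ PrimeSpectrum.vanishingIdeal _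
  rw [PrimeSpectrum.mem_vanishingIdeal]
  intro p hp
  by_contra hcon
  have h2 : p ∈ W.2.fromSpec ⁻¹ᵁ X.basicOpen s := by
    rw [W.2.fromSpec_preimage_basicOpen]
    exact hcon
  exact h1 _ h2 (specializes_iff_mem_closure.2 hp)

theorem notMem_basicOpen {D : X.IdealSheafData} {U : X.Opens} {d : Γ(X, U)} (hd : GenOn D d) {x : X} 
    (hxD : x ∈ D.support) : x ∉ X.basicOpen d := by
  intro hx
  have hxU : x ∈ U := X.basicOpen_le d hx
  obtain ⟨W, hxW, hW⟩ := exists_affine_mem_le U x hxU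
  rw [Scheme.IdealSheafData.mem_support_iff_of_mem hxW, (hd W hW).2, Scheme.zeroLocus_span,
    Scheme.mem_zeroLocus_iff] at hxD
  apply hxD _ (Set.mem_singleton _)
  change x ∈ X.basicOpen (X.presheaf.map (homOfLE hW).op d)
  rw [Scheme.basicOpen_res]
  exact ⟨hxW, hx⟩

end Gen

variable {k : Type u} [Field k] [IsAlgClosed k] {G Z M : Over (Spec (CommRingCat.of k))} [GrpObj G]
  {a : AlgGrp.Action G Z} {φ : Z ⟶ M}

/-- A point with closed orbit over the closure of a given point of the quotient. -/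
theorem exists_closed_near [IsAffine G.left] [LocallyOfFiniteType G.hom] [LocallyOfFiniteType Z.hom]
    (hq : NRQuot.IsGoodQuot a φ) (y : M.left) :
    ∃ z : 𝟙_ (Over (Spec (CommRingCat.of k))) ⟶ Z, IsClosed (orb a z) ∧ y ⤳ φ.left (pt z) := by
  have hJ : JacobsonSpace Z.left := LocallyOfFiniteType.jacobsonSpace Z.hom
  obtain ⟨z₀, hz₀⟩ := IsGoodQuot.surjective hq y
  have hne : (φ.left ⁻¹' closure {y}).Nonempty := ⟨z₀, by
    change φ.left z₀ ∈ closure {y}
    have : φ.left z₀ = y := hz₀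
    rw [this]
    exact subset_closure rfl⟩
  obtain ⟨c, hc1, hc2⟩ := nonempty_inter_closedPoints hne
    (isClosed_closure.preimage φ.left.continuous).isLocallyClosed
  obtain ⟨z₁, hz₁⟩ := exists_pt c hc2
  obtain ⟨z, hz, hcl⟩ := exists_closed_orbit a hq (z₁ ≫ φ)
  refine ⟨z, hcl, ?_⟩
  rw [← pt_comp, hz, pt_comp, hz₁]
  exact specializes_iff_mem_closure.2 hc1

theorem ufd_stalk_quot [IsAffine G.left] [Smooth G.hom] [IsIntegral G.left] [Smooth Z.hom]
    [IsIntegral Z.left] {A : Type u} [CommRing A] [IsDomain A] [HopfAlgebra k A] [Algebra.FiniteType k A]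
    (e : Groth.Agent.Books.AffBridge.SpecOver k A ≅ G) [IsMonHom e.hom] (hG : HopfRep.IsLinearlyReductive k A)
    (hq : NRQuot.IsGoodQuot a φ) [IsIntegral M.left]
    (H : ∀ (B : GLinSh.LinBun G a) (z : 𝟙_ (Over (Spec (CommRingCat.of k))) ⟶ Z),
      IsClosed (Set.range (a.orbitMap z).left.base) →
        ∀ (T : Over (Spec (CommRingCat.of k))) (g : T ⟶ G) (v : T ⟶ B.V),
          lift g (toUnit T ≫ z) ≫ a.act = toUnit T ≫ z → v ≫ B.π = toUnit T ≫ z →
            lift g v ≫ B.lift.act = v) (y : M.left) :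
    UniqueFactorizationMonoid (M.left.presheaf.stalk y) := by
  rw [UniqueFactorizationMonoid.iff_exists_prime_mem_of_isPrime]
  intro Q hQ0 hQ
  have hgen := K676.Forward.map_generic hq
  have hsurj : Function.Surjective φ.left := IsGoodQuot.surjective hq
  have hUZ : ∀ z : Z.left, UniqueFactorizationMonoid (Z.left.presheaf.stalk z) := fun z =>
    (K676.Setup.ufd_stalk Z z).2
  obtain ⟨h₀, hh₀, hh₀0⟩ := Submodule.exists_mem_ne_zero_of_ne_bot hQ0
  obtain ⟨z', hz'⟩ := hsurj (ptOf (⟨Q, hQ⟩ : PrimeSpectrum (M.left.presheaf.stalk y)))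
  have sp : φ.left z' ⤳ y := (specializes_of_eq hz').trans (ptOf_specializes _)
  have hsp : (primeOf sp).asIdeal = Q := by
    have h1 : primeOf sp = primeOf (ptOf_specializes (⟨Q, hQ⟩ : PrimeSpectrum (M.left.presheaf.stalk y))) :=
      (primeOf_inj _ _).2 hz'
    rw [h1, primeOf_ptOf]
  have hw0 : M.left.presheaf.stalkSpecializes sp h₀ ≠ 0 := fun h =>
    hh₀0 (sp_injective sp (h.trans (map_zero _).symm))
  have hw : M.left.presheaf.stalkSpecializes sp h₀ ∈ IsLocalRing.maximalIdeal (M.left.presheaf.stalk (φ.left z')) := by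
    rw [IsLocalRing.mem_maximalIdeal, mem_nonunits_iff, ← mem_primeOf, hsp]
    exact hh₀
  obtain ⟨π, hπ, hmem⟩ := exists_pp_of_mem φ.left hgen hUZ z' _ hw0 hw
  have sp' : φ.left (pp hπ) ⤳ φ.left z' := (pp_specializes hπ).map φ.left.continuous
  have sq : φ.left (pp hπ) ⤳ y := sp'.trans sp
  have hP : h₀ ∈ (primeOf sq).asIdeal := by
    rw [mem_primeOf] at hmem ⊢
    have h1 : M.left.presheaf.stalkSpecializes sq h₀ =
        M.left.presheaf.stalkSpecializes sp' (M.left.presheaf.stalkSpecializes sp h₀) :=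
      (congrArg (fun m => m.hom h₀) (TopCat.Presheaf.stalkSpecializes_comp M.left.presheaf sp' sp)).symm
    rw [h1]
    exact hmem
  have hPQ : (primeOf sq).asIdeal ≤ Q := by
    rw [← hsp]
    exact (primeOf_le_iff sq sp).2 sp'
  have hφ : φ.left (pp hπ) ≠ φ.left (genericPoint Z.left) := by
    rw [hgen]
    intro h
    have h1 : primeOf sq = primeOf (genericPoint_specializes y) := (primeOf_inj _ _).2 h
    rw [K108.GenFib.primeOf_generic] at h1
    rw [h1] at hP
    exact hh₀0 hP
  -- the invariant divisor and its line bundle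
  have hD : InvDiv a (cl (pp hπ)) := invDiv hq.inv hπ hφ
  obtain ⟨V, πV, At, t, hc⟩ := exists_can Z hD.eff
  obtain ⟨B, t', hc', ht'⟩ := exists_linBun At hD hc
  obtain ⟨z, hz, hyz⟩ := exists_closed_near hq y
  obtain ⟨N, f, hN, hf⟩ := K676.FrameEx.exists_frame e hG hq B z hz (H B z hz)
  have hyN : y ∈ N := hyz.mem_open N.2 hN
  obtain ⟨h, hh⟩ := exists_generator hq hc' ht' hf
  have hqN : φ.left (pp hπ) ∈ N := sq.mem_open N.2 hyN
  -- the germ of `h` generates the prime of `φ(e)`
  have hmem1 : M.left.presheaf.germ N y hyN h ∈ (primeOf sq).asIdeal := by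
    rw [germ_mem_primeOf]
    intro hcon
    refine notMem_basicOpen hh (x := pp hπ) (mem_support_cl.2 specializes_rfl) ?_
    rw [← Scheme.preimage_basicOpen]
    exact hcon
  have hspan : (primeOf sq).asIdeal = Ideal.span {M.left.presheaf.germ N y hyN h} := by
    apply le_antisymm
    · intro g hg
      obtain ⟨U₁, hyU₁, g₁, rfl⟩ := M.left.presheaf.exists_germ_eq g
      have hle : U₁ ⊓ N ≤ U₁ := inf_le_left
      have hleN : U₁ ⊓ N ≤ N := inf_le_right
      have hyW : y ∈ U₁ ⊓ N := ⟨hyU₁, hyN⟩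
      have e1 : M.left.presheaf.germ U₁ y hyU₁ g₁ = M.left.presheaf.germ (U₁ ⊓ N) y hyW (rsec hle g₁) :=
        (TopCat.Presheaf.germ_res_apply M.left.presheaf (homOfLE hle) y hyW g₁).symm
      have e2 : M.left.presheaf.germ N y hyN h = M.left.presheaf.germ (U₁ ⊓ N) y hyW (rsec hleN h) :=
        (TopCat.Presheaf.germ_res_apply M.left.presheaf (homOfLE hleN) y hyW h).symm
      rw [e1, germ_mem_primeOf] at hg
      obtain ⟨c, hc⟩ := exists_mul hq hD hh hleN (rsec hle g₁) (by
        intro W hW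
        apply mem_ideal_cl
        intro hcon
        apply hg
        have h1 : pp hπ ∈ Z.left.basicOpen (φ.left.app (U₁ ⊓ N) (rsec hle g₁)) := by
          have h2 : Z.left.basicOpen (ores hW (φ.left.app (U₁ ⊓ N) (rsec hle g₁) :
              Γ(Z.left, φ.left ⁻¹ᵁ (U₁ ⊓ N)))) ≤ Z.left.basicOpen (φ.left.app (U₁ ⊓ N) (rsec hle g₁)) := by
            change Z.left.basicOpen (Z.left.presheaf.map (homOfLE hW).op _) ≤ _
            rw [Scheme.basicOpen_res]
            exact inf_le_right
          exact h2 hcon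
        rw [← Scheme.preimage_basicOpen] at h1
        exact h1)
      rw [e1, hc, map_mul, e2]
      exact Ideal.mul_mem_left _ _ (Ideal.mem_span_singleton_self _)
    · rw [Ideal.span_singleton_le_iff_mem]
      exact hmem1
  refine ⟨M.left.presheaf.germ N y hyN h, hPQ hmem1, ?_⟩
  have hne : M.left.presheaf.germ N y hyN h ≠ 0 := by
    intro h0
    rw [h0, Ideal.span_singleton_zero] at hspan
    rw [hspan] at hP
    exact hh₀0 hP
  rw [← Ideal.span_singleton_prime hne, ← hspan]
  exact (primeOf sq).2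

end K676.Backward
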