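import Groth.Agent.GLinSh.K676.LiftT
import Groth.Agent.GIT.K689.InvRatio

/-!
# The linearised line bundle of an invariant effective Cartier divisor
-/

set_option autoImplicit false
universe u

open CategoryTheory MonoidalCategory CartesianMonoidalCategory MonObj AlgebraicGeometry Topology Limits

namespace K676.BunOfDiv

open K689.SchGlue K689.Coord K689.CoordUP K689.Weight K689.ActBasic K689.LinBunBasic K689.PullBun K689.InvRatio
open K676.LiftT K676.DivSec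
open Groth.Agent.Dix.IdealModCartier (GenOn exists_affine_mem_le exists_genOn)

variable {S : Scheme.{u}} {G X V : Over S} [GrpObj G] (a : AlgGrp.Action G X) (π : V ⟶ X)

/-- An invariant effective Cartier divisor. -/
structure InvDiv (D : X.left.IdealSheafData) : Prop where
  eff : BlowUp.IsEffCartierIdeal D
  eq : D.comap a.act.left = D.comap (snd G X).left
  eff₁ : BlowUp.IsEffCartierIdeal (D.comap a.act.left)
  eff₂ : BlowUp.IsEffCartierIdeal (D.comap ((μ[G] ▷ X) ≫ a.act).left)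

variable {a} {D : X.left.IdealSheafData}

theorem InvDiv.exists_unit (h : InvDiv a D) {U U' : X.left.Opens} {d : Γ(X.left, U)} {d' : Γ(X.left, U')}
    (hd : GenOn D d) (hd' : GenOn D d') {P : (G ⊗ X).left.Opens} (h1 : P ≤ a.act.left ⁻¹ᵁ U')
    (h2 : P ≤ (snd G X).left ⁻¹ᵁ U) :
    ∃ u : Γ((G ⊗ X).left, P), IsUnit u ∧ (snd G X).left.appLE U P h2 d = u * a.act.left.appLE U' P h1 d' := by
  have e1 := (Groth.Agent.Dix.IdealModCartier.GenOn.comap a.act.left h.eff₁ hd').res h1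
  have e2 := (Groth.Agent.Dix.IdealModCartier.GenOn.comap (snd G X).left (h.eq ▸ h.eff₁) hd).res h2
  rw [← h.eq] at e2
  exact K676.DivSec.GenOn.exists_unit e2 e1

variable (A : GLinSh.LinAtlas π) {t : Γ(V.left, π.left ⁻¹ᵁ ⊤)} {π}

theorem key (h : InvDiv a D) {U U' : X.left.Opens} {y : Γ(V.left, π.left ⁻¹ᵁ U)} {d : Γ(X.left, U)}
    {d' : Γ(X.left, U')} (hd : GenOn D d) (hd' : GenOn D d') (e : rs π.left le_top t = π.left.app U d * y)
    (hle : GLinSh.liftOpen a π U U' ≤ ((G ◁ π).left ≫ a.act.left) ⁻¹ᵁ U')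
    (hle' : GLinSh.liftOpen a π U U' ≤ (snd G V).left ⁻¹ᵁ (π.left ⁻¹ᵁ ⊤)) :
    ∃ c : Γ((G ⊗ X).left, a.act.left ⁻¹ᵁ U' ⊓ (snd G X).left ⁻¹ᵁ U), IsUnit c ∧
      (snd G V).left.appLE (π.left ⁻¹ᵁ ⊤) (GLinSh.liftOpen a π U U') hle' t =
        ((G ◁ π).left ≫ a.act.left).appLE U' (GLinSh.liftOpen a π U U') hle d' *
          ((G ◁ π).left.appLE _ (GLinSh.liftOpen a π U U') (GLinSh.liftOpen_le_base a π) c *
            (snd G V).left.appLE (π.left ⁻¹ᵁ U) (GLinSh.liftOpen a π U U') (GLinSh.liftOpen_le_snd a π) y) := by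
  obtain ⟨u, hu, e1⟩ := h.exists_unit hd hd' (P := a.act.left ⁻¹ᵁ U' ⊓ (snd G X).left ⁻¹ᵁ U) inf_le_left inf_le_right
  refine ⟨u, hu, ?_⟩
  have s1 : (snd G V).left.appLE (π.left ⁻¹ᵁ U) (GLinSh.liftOpen a π U U') (GLinSh.liftOpen_le_snd a π)
      (rs π.left le_top t) = (snd G V).left.appLE (π.left ⁻¹ᵁ ⊤) (GLinSh.liftOpen a π U U') hle' t :=
    appLE_rsec (snd G V).left (π.left.preimage_mono le_top) (GLinSh.liftOpen_le_snd a π) hle' t
  rw [← s1, e, map_mul]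
  have q1 : GLinSh.liftOpen a π U U' ≤ ((snd G V).left ≫ π.left) ⁻¹ᵁ U := GLinSh.liftOpen_le_snd a π
  have m1 : (snd G V).left ≫ π.left = (G ◁ π).left ≫ (snd G X).left := by
    rw [← Over.comp_left, ← Over.comp_left, whiskerLeft_snd]
  have q2 : GLinSh.liftOpen a π U U' ≤ ((G ◁ π).left ≫ (snd G X).left) ⁻¹ᵁ U := by rw [← m1]; exact q1
  have t3 := (app_appLE (snd G V).left π.left (GLinSh.liftOpen_le_snd a π) q1 d).trans (appLE_hom_congr m1 q1 q2 d)
  have t4 := appLE_appLE (G ◁ π).left (snd G X).left (inf_le_right : a.act.left ⁻¹ᵁ U' ⊓ (snd G X).left ⁻¹ᵁ U ≤ _)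
    (GLinSh.liftOpen_le_base a π) q2 d
  have t5 := appLE_appLE (G ◁ π).left a.act.left (inf_le_left : a.act.left ⁻¹ᵁ U' ⊓ (snd G X).left ⁻¹ᵁ U ≤ _)
    (GLinSh.liftOpen_le_base a π) hle d'
  rw [t3, ← t4, e1, map_mul, t5, ← _root_.mul_assoc]
  congr 1
  exact _root_.mul_comm _ _

include A in
/-- the base change of an effective Cartier ideal along `T ◁ π` -/
theorem isEff_whisker {T : Over S} {b : T ⊗ X ⟶ X} (hb : BlowUp.IsEffCartierIdeal (D.comap b.left)) :
    BlowUp.IsEffCartierIdeal (D.comap ((T ◁ π) ≫ b).left) := by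
  rw [Over.comp_left, Scheme.IdealSheafData.comap_comp]
  have := A.affine
  have hpb : IsPullback (snd T V).left (T ◁ π).left π.left (snd T X).left :=
    (isPullback_snd (G := T) π).map (Over.forget S)
  have : IsAffineHom (T ◁ π).left := MorphismProperty.of_isPullback hpb A.affine
  exact isEff_comap_bundle (bcAtl hpb (atl A)) hb

theorem exists_act (h : InvDiv a D) (hc : IsCan π.left A.chart D t) :
    ∃ m : G ⊗ V ⟶ V, m ≫ π = (G ◁ π) ≫ a.act ∧ ev m.left (tl m.left) t = ev (snd G V).left (tl (snd G V).left) t := by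
  have := A.affine
  obtain ⟨v, hv1, hv2⟩ := exists_lift_t (atl A) hc ((G ◁ π) ≫ a.act).left (isEff_whisker A h.eff₁)
    (ev (snd G V).left (tl (snd G V).left) t) (by
      intro x
      obtain ⟨U, hU, y, hy⟩ := A.cover ((snd G X).left ((G ◁ π).left x))
      obtain ⟨U', hU', y', hy'⟩ := A.cover (a.act.left ((G ◁ π).left x))
      obtain ⟨d, hd, e⟩ := hc U y hy
      obtain ⟨d', hd', e'⟩ := hc U' y' hy'
      have hle : GLinSh.liftOpen a π U U' ≤ ((G ◁ π).left ≫ a.act.left) ⁻¹ᵁ U' := inf_le_left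
      obtain ⟨c, -, hc'⟩ := key h hd hd' e hle (fun _ _ => trivial)
      refine ⟨U', y', GLinSh.liftOpen a π U U', hle, d', _, ⟨hU', hU⟩, hy', e', Eq.trans ?_ hc'⟩
      exact rsec_appLE (snd G V).left le_top _ _ t)
  refine ⟨Over.homMk v ?_, ?_, hv2⟩
  · rw [← Over.w π, ← Category.assoc, hv1, Over.w]
  · ext1
    exact hv1

/-- the value of the canonical section at a point of the total space -/
noncomputable def tv (t : Γ(V.left, π.left ⁻¹ᵁ ⊤)) {W : Over S} (m : W ⟶ V) : Γ(W.left, ⊤) :=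
  ev m.left (tl m.left) t

theorem tv_comp {W W' : Over S} (f : W' ⟶ W) (m : W ⟶ V) : tv t (f ≫ m) = f.left.appTop (tv t m) :=
  ev_comp f.left m.left (tl m.left) (tl _) t

theorem eq_of_tv (hc : IsCan π.left A.chart D t) {W : Over S} (m m' : W ⟶ V) (h : m ≫ π = m' ≫ π)
    (hg : BlowUp.IsEffCartierIdeal (D.comap (m ≫ π).left)) (ht : tv t m = tv t m') : m = m' := by
  have := A.affine
  ext1
  exact eq_of_t (atl A) hc m.left m'.left (congrArg CommaMorphism.left h) hg ht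

theorem exists_action (h : InvDiv a D) (hc : IsCan π.left A.chart D t) :
    ∃ Φ : AlgGrp.Action G V, Φ.act ≫ π = (G ◁ π) ≫ a.act ∧ tv t Φ.act = tv t (snd G V) := by
  have := A.affine
  obtain ⟨m, hm1, hm2⟩ := exists_act A h hc
  have hm2 : tv t m = tv t (snd G V) := hm2
  refine ⟨⟨m, ?_, ?_⟩, hm1, hm2⟩
  · have e1 : (η[G] ▷ V ≫ m) ≫ π = (λ_ V).hom ≫ π := by
      rw [Category.assoc, hm1, ← whisker_exchange_assoc, a.one_act, leftUnitor_naturality]
    refine eq_of_tv A hc _ _ e1 ?_ ?_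
    · rw [e1, Over.comp_left, Scheme.IdealSheafData.comap_comp]
      have hi : IsIso (λ_ V).hom.left := (inferInstance : IsIso ((Over.forget _).map (λ_ V).hom))
      exact isEff_comap_flat (isEff_comap_bundle (atl A) h.eff) (λ_ V).hom.left
    · rw [tv_comp, hm2, ← tv_comp, whiskerRight_snd, leftUnitor_hom]
  · have e1 : (μ[G] ▷ V ≫ m) ≫ π = ((G ⊗ G) ◁ π) ≫ (μ[G] ▷ X) ≫ a.act := by
      rw [Category.assoc, hm1, ← whisker_exchange_assoc]
    have e2 : ((α_ G G V).hom ≫ (G ◁ m) ≫ m) ≫ π = ((G ⊗ G) ◁ π) ≫ (μ[G] ▷ X) ≫ a.act := by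
      rw [Category.assoc, Category.assoc, hm1, ← whiskerLeft_comp_assoc, hm1, whiskerLeft_comp_assoc,
        ← associator_naturality_right_assoc, a.mul_act]
    refine eq_of_tv A hc _ _ (e1.trans e2.symm) ?_ ?_
    · rw [e1]
      exact isEff_whisker A h.eff₂
    · rw [tv_comp, hm2, ← tv_comp, whiskerRight_snd]
      have e3 : (α_ G G V).hom ≫ snd G (G ⊗ V) ≫ snd G V = snd (G ⊗ G) V := associator_hom_snd_snd _ _ _
      rw [← e3, tv_comp, tv_comp (α_ G G V).hom, tv_comp (G ◁ m), hm2, ← tv_comp (G ◁ m), whiskerLeft_snd,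
        tv_comp (snd G (G ⊗ V)) (snd G V), tv_comp (snd G (G ⊗ V)) m, hm2]

/-- The linearised line bundle of an invariant effective Cartier divisor, with its canonical invariant section. -/
theorem exists_linBun (h : InvDiv a D) (hc : IsCan π.left A.chart D t) :
    ∃ B : GLinSh.LinBun G a, ∃ t' : Γ(B.V.left, B.π.left ⁻¹ᵁ ⊤), IsCan B.π.left B.atlas.chart D t' ∧
      tv t' B.lift.act = tv t' (snd G B.V) := by
  have := A.affine
  obtain ⟨Φ, hΦ, ht⟩ := exists_action A h hc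
  refine ⟨⟨V, π, A, Φ, hΦ, ?_⟩, t, hc, ht⟩
  intro U U' y y' hy hy'
  obtain ⟨d, hd, e⟩ := hc U y hy
  obtain ⟨d', hd', e'⟩ := hc U' y' hy'
  have hle : GLinSh.liftOpen a π U U' ≤ ((G ◁ π).left ≫ a.act.left) ⁻¹ᵁ U' := inf_le_left
  obtain ⟨c, -, hc'⟩ := key h hd hd' e hle (fun _ _ => trivial)
  refine ⟨c, ?_⟩
  apply cancel_of ((G ◁ π).left ≫ a.act.left) (isEff_whisker A h.eff₁) hd' hle
  refine Eq.trans ?_ hc'
  have s1 : Φ.act.left.appLE (π.left ⁻¹ᵁ U') (GLinSh.liftOpen a π U U') (GLinSh.liftOpen_le_act a π Φ hΦ)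
      (rs π.left le_top t) = Φ.act.left.appLE (π.left ⁻¹ᵁ ⊤) (GLinSh.liftOpen a π U U') (fun _ _ => trivial) t :=
    appLE_rsec Φ.act.left (π.left.preimage_mono le_top) (GLinSh.liftOpen_le_act a π Φ hΦ) _ t
  have s2 : rsec (le_top : GLinSh.liftOpen a π U U' ≤ ⊤) (tv t Φ.act) =
      Φ.act.left.appLE (π.left ⁻¹ᵁ ⊤) (GLinSh.liftOpen a π U U') (fun _ _ => trivial) t :=
    rsec_appLE Φ.act.left le_top _ _ t
  have s3 : rsec (le_top : GLinSh.liftOpen a π U U' ≤ ⊤) (tv t (snd G V)) =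
      (snd G V).left.appLE (π.left ⁻¹ᵁ ⊤) (GLinSh.liftOpen a π U U') (fun _ _ => trivial) t :=
    rsec_appLE (snd G V).left le_top _ _ t
  rw [← s3, ← ht, s2, ← s1, e', map_mul]
  have q1 : GLinSh.liftOpen a π U U' ≤ (Φ.act.left ≫ π.left) ⁻¹ᵁ U' := GLinSh.liftOpen_le_act a π Φ hΦ
  have m1 : Φ.act.left ≫ π.left = (G ◁ π).left ≫ a.act.left := by
    rw [← Over.comp_left, ← Over.comp_left, hΦ]
  have t3 := (app_appLE Φ.act.left π.left (GLinSh.liftOpen_le_act a π Φ hΦ) q1 d').trans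
    (appLE_hom_congr m1 q1 hle d')
  rw [t3]

end K676.BunOfDiv
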