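import Groth.Agent.Dix.IdealModCartier
import Groth.Agent.Grpsch.PicGrp
import Groth.Agent.Ega1.IdealGen

/-!
# The canonical section of the invertible sheaf of an effective Cartier divisor
-/

set_option autoImplicit false
universe u

open CategoryTheory CategoryTheory.Limits AlgebraicGeometry Opposite TopologicalSpace

namespace K676.DivSec

open Groth.Agent.Fdesc.LocGen Groth.Agent.Grpsch.PicGrp
open Groth.Agent.Dix.IdealModCartier
open Groth.Agent.CohqB.HomSheaf hiding res_res

variable {X : Scheme.{u}}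

theorem genOn_of_local {D : X.IdealSheafData} {U : X.Opens} {a : Γ(X, U)}
    (h : ∀ x ∈ U, ∃ (W : X.Opens) (hW : W ≤ U), x ∈ W ∧ GenOn D (ores hW a)) : GenOn D a := by
  obtain ⟨s, hs⟩ := exists_val_eq_of_local D U a (fun x hx => by
    obtain ⟨W, hW, hxW, h1⟩ := h x hx
    obtain ⟨V, hxV, hV⟩ := exists_affine_mem_le W x hxW
    refine ⟨V, hV.trans hW, hxV, ?_⟩
    have h2 := (h1 V hV).2
    rw [ores_ores] at h2
    rw [h2]
    exact Ideal.mem_span_singleton_self _)
  have hgen : IsGen s := by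
    rw [isGen_iff_forall_exists]
    intro x hx
    obtain ⟨W, hW, hxW, h1⟩ := h x hx
    refine ⟨W, hW, hxW, isGen_of_genOn ?_⟩
    rw [val_res, hs]
    exact h1
  have := genOn_of_isGen hgen
  rwa [hs] at this

theorem GenOn.unit_mul {D : X.IdealSheafData} {U : X.Opens} {a : Γ(X, U)} (h : GenOn D a) {u : Γ(X, U)}
    (hu : IsUnit u) : GenOn D (u * a) := by
  intro W hW
  have hu' : IsUnit (ores hW u) := hu.map _
  rw [map_mul]
  refine ⟨mul_mem hu'.mem_nonZeroDivisors (h W hW).1, ?_⟩
  rw [(h W hW).2]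
  exact (Ideal.span_singleton_mul_left_unit hu' _).symm

/-- Two generators of an effective Cartier ideal differ by a unit. -/
theorem GenOn.exists_unit {D : X.IdealSheafData} {U : X.Opens} {a b : Γ(X, U)} (ha : GenOn D a) (hb : GenOn D b) :
    ∃ u : Γ(X, U), IsUnit u ∧ a = u * b := by
  obtain ⟨s, hs⟩ := exists_val_eq_of_local D U a (fun x hx => by
    obtain ⟨V, hxV, hV⟩ := exists_affine_mem_le U x hx
    exact ⟨V, hV, hxV, by rw [(ha V hV).2]; exact Ideal.mem_span_singleton_self _⟩)
  obtain ⟨t, ht⟩ := exists_val_eq_of_local D U b (fun x hx => by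
    obtain ⟨V, hxV, hV⟩ := exists_affine_mem_le U x hx
    exact ⟨V, hV, hxV, by rw [(hb V hV).2]; exact Ideal.mem_span_singleton_self _⟩)
  have h1 : IsGen s := isGen_of_genOn (hs ▸ ha)
  have h2 : IsGen t := isGen_of_genOn (ht ▸ hb)
  obtain ⟨u, hu, e⟩ := h2.exists_unit h1
  refine ⟨u, hu, ?_⟩
  rw [← hs, e, val_smul, ht]

/-- The canonical section of `O(D)`. -/
noncomputable def cs (D : X.IdealSheafData) : Γ(dual (ClSub.idealMod D), ⊤) := ofHom (ClSub.idealModι D) ⊤

theorem res_cs {D : X.IdealSheafData} {U : X.Opens} {e : Γ(ClSub.idealMod D, U)} (he : IsGen e) :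
    res (dual (ClSub.idealMod D)) le_top (cs D) = val D e • dgen he := by
  refine sec_ext fun V hV m => ?_
  obtain ⟨c, rfl⟩ := (he V hV).2 m
  change (ClSub.idealModι D).app V (c • res _ hV e) =
    ores hV (val D e) • comp (dgen he) V hV (c • res _ hV e)
  rw [comp_dgen]
  change val D (c • res _ hV e) = _
  rw [val_smul, val_res]
  exact _root_.mul_comm _ _

theorem exists_genOn_smul {D : X.IdealSheafData} (hD : BlowUp.IsEffCartierIdeal D) {U : X.Opens}
    {m : Γ(dual (ClSub.idealMod D), U)} (hm : IsGen m) :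
    ∃ d : Γ(X, U), GenOn D d ∧ res (dual (ClSub.idealMod D)) le_top (cs D) = d • m := by
  obtain ⟨d, hd⟩ := hm.exists_eq (res (dual (ClSub.idealMod D)) le_top (cs D))
  refine ⟨d, genOn_of_local fun x hx => ?_, hd⟩
  obtain ⟨W, e, he1, he⟩ := (isInvertible_iff _).1 (isInvertible_idealMod hD) x
  let W' : X.Opens := W ⊓ U
  have he' : IsGen (res (ClSub.idealMod D) (inf_le_left : W' ≤ W) e) := he.res _
  obtain ⟨u, hu, e1⟩ := (isGen_dgen he').exists_unit (hm.res (inf_le_right : W' ≤ U))
  refine ⟨W', inf_le_right, ⟨he1, hx⟩, ?_⟩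
  have e2 := res_cs he'
  have e3 := congrArg (res (dual (ClSub.idealMod D)) (inf_le_right : W' ≤ U)) hd
  rw [res_res, res_smul, e1, smul_smul] at e3
  rw [e2] at e3
  have e4 := (isGen_dgen he').ext e3
  have h5 := genOn_of_isGen he'
  rw [e4] at h5
  obtain ⟨v, hv⟩ := hu
  have h6 := GenOn.unit_mul h5 (v⁻¹).isUnit
  rw [← hv, _root_.mul_comm (ores _ d), ← _root_.mul_assoc, Units.inv_mul, one_mul] at h6
  exact h6

theorem isInvertible_dual_idealMod {D : X.IdealSheafData} (hD : BlowUp.IsEffCartierIdeal D) :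
    PicF.IsInvertible (dual (ClSub.idealMod D)) := isInvertible_dual (isInvertible_idealMod hD)

end K676.DivSec
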