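import Mathlib.RingTheory.UniqueFactorizationDomain.Basic
import Mathlib.RingTheory.Localization.FractionRing
import Mathlib.RingTheory.Localization.NumDen
import Mathlib.RingTheory.UniqueFactorizationDomain.Multiplicity
import Mathlib.Tactic

/-!
# Elements of the fraction field of a factorial ring with prescribed orders at the primes
-/

set_option autoImplicit false

namespace K676.UfdFix

variable {R K : Type*} [CommRing R] [IsDomain R] [Field K] [Algebra R K] [IsFractionRing R K]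

/-- `c` is a unit at the prime `(ϖ)`. -/
def UAt (ϖ : R) (c : K) : Prop :=
  ∃ a b : R, ¬ ϖ ∣ a ∧ ¬ ϖ ∣ b ∧ c * algebraMap R K b = algebraMap R K a

omit [IsDomain R] [IsFractionRing R K] in
theorem UAt.one {ϖ : R} (hϖ : Prime ϖ) : UAt ϖ (1 : K) :=
  ⟨1, 1, fun h => hϖ.not_isUnit (isUnit_of_dvd_one h), fun h => hϖ.not_isUnit (isUnit_of_dvd_one h), by simp⟩

omit [IsDomain R] [IsFractionRing R K] in
theorem UAt.mul {ϖ : R} (hϖ : Prime ϖ) {c d : K} (hc : UAt ϖ c) (hd : UAt ϖ d) : UAt ϖ (c * d) := by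
  obtain ⟨a, b, ha, hb, e⟩ := hc
  obtain ⟨a', b', ha', hb', e'⟩ := hd
  refine ⟨a * a', b * b', fun h => ?_, fun h => ?_, ?_⟩
  · rcases hϖ.dvd_or_dvd h with h | h
    · exact ha h
    · exact ha' h
  · rcases hϖ.dvd_or_dvd h with h | h
    · exact hb h
    · exact hb' h
  · rw [map_mul, map_mul, ← e, ← e']; ring

omit [IsDomain R] in
theorem algebraMap_ne_zero {ϖ b : R} (hb : ¬ ϖ ∣ b) : algebraMap R K b ≠ 0 := by
  intro h
  apply hb
  have : b = 0 := (IsFractionRing.injective R K) (by rw [h, map_zero])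
  rw [this]
  exact dvd_zero _

omit [IsDomain R] in
theorem UAt.ne_zero {ϖ : R} {c : K} (hc : UAt ϖ c) : c ≠ 0 := by
  obtain ⟨a, b, ha, hb, e⟩ := hc
  rintro rfl
  rw [zero_mul] at e
  exact algebraMap_ne_zero (K := K) ha e.symm

omit [IsDomain R] in
theorem UAt.inv {ϖ : R} {c : K} (hc : UAt ϖ c) : UAt ϖ c⁻¹ := by
  have hc0 := hc.ne_zero
  obtain ⟨a, b, ha, hb, e⟩ := hc
  refine ⟨b, a, hb, ha, ?_⟩
  rw [← e, ← mul_assoc, inv_mul_cancel₀ hc0, one_mul]

omit [IsDomain R] in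
theorem UAt.div {ϖ : R} (hϖ : Prime ϖ) {c d : K} (hc : UAt ϖ c) (hd : UAt ϖ d) : UAt ϖ (c / d) := by
  rw [div_eq_mul_inv]; exact hc.mul hϖ hd.inv

omit [IsDomain R] [IsFractionRing R K] in
theorem UAt.congr {ϖ ϖ' : R} (h : Associated ϖ ϖ') {c : K} (hc : UAt ϖ c) : UAt ϖ' c := by
  obtain ⟨a, b, ha, hb, e⟩ := hc
  exact ⟨a, b, fun h' => ha (h.dvd.trans h'), fun h' => hb (h.dvd.trans h'), e⟩

omit [IsDomain R] [IsFractionRing R K] in
theorem uAt_algebraMap {ϖ : R} (hϖ : Prime ϖ) {a : R} (ha : ¬ ϖ ∣ a) : UAt ϖ (algebraMap R K a) :=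
  ⟨a, 1, ha, fun h => hϖ.not_isUnit (isUnit_of_dvd_one h), by simp⟩

omit [IsDomain R] [IsFractionRing R K] in
theorem UAt.pow {ϖ : R} (hϖ : Prime ϖ) {c : K} (hc : UAt ϖ c) (n : ℕ) : UAt ϖ (c ^ n) := by
  induction n with
  | zero => rw [pow_zero]; exact UAt.one hϖ
  | succ n ih => rw [pow_succ]; exact ih.mul hϖ hc

omit [IsDomain R] in
theorem UAt.zpow {ϖ : R} (hϖ : Prime ϖ) {c : K} (hc : UAt ϖ c) (n : ℤ) : UAt ϖ (c ^ n) := by
  cases n with
  | ofNat n => simpa using hc.pow hϖ n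
  | negSucc n => rw [zpow_negSucc]; exact (hc.pow hϖ _).inv

variable [UniqueFactorizationMonoid R]

/-- The order of an element at a prime. -/
theorem exists_zpow {p : R} (hp : Prime p) {c : K} (hc : c ≠ 0) :
    ∃ n : ℤ, UAt p (c / (algebraMap R K p) ^ n) := by
  obtain ⟨a, b, hb, rfl⟩ := IsFractionRing.div_surjective (A := R) c
  have hb0 : b ≠ 0 := nonZeroDivisors.ne_zero hb
  have ha0 : a ≠ 0 := by
    rintro rfl
    apply hc
    simp
  obtain ⟨n, a', ha', rfl⟩ : ∃ (n : ℕ) (a' : R), ¬ p ∣ a' ∧ a = p ^ n * a' := by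
    obtain ⟨a', h1, h2⟩ := (FiniteMultiplicity.of_prime_left hp ha0).exists_eq_pow_mul_and_not_dvd
    exact ⟨_, a', h2, h1⟩
  obtain ⟨m, b', hb', rfl⟩ : ∃ (m : ℕ) (b' : R), ¬ p ∣ b' ∧ b = p ^ m * b' := by
    obtain ⟨b', h1, h2⟩ := (FiniteMultiplicity.of_prime_left hp hb0).exists_eq_pow_mul_and_not_dvd
    exact ⟨_, b', h2, h1⟩
  have hp0 : algebraMap R K p ≠ 0 := by
    intro h
    exact hp.ne_zero ((IsFractionRing.injective R K) (by rw [h, map_zero]))
  have hb'0 := algebraMap_ne_zero (K := K) hb'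
  refine ⟨(n : ℤ) - m, a', b', ha', hb', ?_⟩
  rw [map_mul, map_mul, map_pow, map_pow, zpow_sub₀ hp0, zpow_natCast, zpow_natCast]
  field_simp

/-- Elements with prescribed orders. -/
theorem exists_fix (s : R) (hs : s ≠ 0) : ∀ H : R → K, (∀ ϖ, Prime ϖ → H ϖ ≠ 0) →
    (∀ ϖ, Prime ϖ → ¬ ϖ ∣ s → UAt ϖ (H ϖ)) →
    (∀ ϖ ϖ', Prime ϖ → Associated ϖ ϖ' → UAt ϖ (H ϖ / H ϖ')) →
    ∃ r : K, r ≠ 0 ∧ ∀ ϖ, Prime ϖ → UAt ϖ (r / H ϖ) := by
  induction s using UniqueFactorizationMonoid.induction_on_prime with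
  | h₁ => exact absurd rfl hs
  | h₂ u hu =>
    intro H _ h2 _
    refine ⟨1, one_ne_zero, fun ϖ hϖ => ?_⟩
    exact (UAt.one hϖ).div hϖ (h2 ϖ hϖ fun h => hϖ.not_isUnit (isUnit_of_dvd_unit h hu))
  | h₃ s p hs0 hp ih =>
    intro H h1 h2 h3
    obtain ⟨n, hn⟩ := exists_zpow (K := K) hp (h1 p hp)
    have hp0 : algebraMap R K p ≠ 0 := by
      intro h
      exact hp.ne_zero ((IsFractionRing.injective R K) (by rw [h, map_zero]))
    have hpn : (algebraMap R K p) ^ n ≠ 0 := zpow_ne_zero _ hp0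
    obtain ⟨r, hr, hr'⟩ := ih hs0 (fun ϖ => H ϖ / (algebraMap R K p) ^ n)
      (fun ϖ hϖ => div_ne_zero (h1 ϖ hϖ) hpn) (fun ϖ hϖ hϖs => by
        by_cases hass : ϖ ∣ p
        · have hass' : Associated ϖ p := (hϖ.dvd_prime_iff_associated hp).1 hass
          have e : H ϖ / (algebraMap R K p) ^ n = (H ϖ / H p) * (H p / (algebraMap R K p) ^ n) := by
            have := h1 p hp
            field_simp
          change UAt ϖ (H ϖ / (algebraMap R K p) ^ n)
          rw [e]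
          exact (h3 ϖ p hϖ hass').mul hϖ (hn.congr hass'.symm)
        · have h4 : ¬ ϖ ∣ p * s := fun h => (hϖ.dvd_or_dvd h).elim hass hϖs
          exact (h2 ϖ hϖ h4).div hϖ ((uAt_algebraMap hϖ hass).zpow hϖ n))
      (fun ϖ ϖ' hϖ hass => by
        have hϖ' : Prime ϖ' := hass.prime hϖ
        have e : H ϖ / (algebraMap R K p) ^ n / (H ϖ' / (algebraMap R K p) ^ n) = H ϖ / H ϖ' := by
          have := h1 ϖ' hϖ'
          field_simp
        change UAt ϖ (H ϖ / (algebraMap R K p) ^ n / (H ϖ' / (algebraMap R K p) ^ n))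
        rw [e]
        exact h3 ϖ ϖ' hϖ hass)
    refine ⟨r * (algebraMap R K p) ^ n, mul_ne_zero hr hpn, fun ϖ hϖ => ?_⟩
    have e : r * (algebraMap R K p) ^ n / H ϖ = r / (H ϖ / (algebraMap R K p) ^ n) := by
      have := h1 ϖ hϖ
      field_simp
    rw [e]
    exact hr' ϖ hϖ

/-- An element which is a unit at every prime is a unit. -/
theorem exists_unit_of_forall {c : K} (hc : c ≠ 0) (h : ∀ ϖ : R, Prime ϖ → UAt ϖ c) :
    ∃ u : R, IsUnit u ∧ algebraMap R K u = c := by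
  obtain ⟨a, b, hb, hab, e⟩ : ∃ a b : R, b ≠ 0 ∧ IsRelPrime a b ∧ c * algebraMap R K b = algebraMap R K a := by
    obtain ⟨a, b, hab, e⟩ := IsFractionRing.exists_reduced_fraction (A := R) (K := K) c
    refine ⟨a, b, nonZeroDivisors.ne_zero b.2, hab, ?_⟩
    rw [← e, IsLocalization.mk'_spec]
  have ha : a ≠ 0 := by
    rintro rfl
    rw [map_zero, mul_eq_zero] at e
    rcases e with e | e
    · exact hc e
    · exact hb ((IsFractionRing.injective R K) (by rw [e, map_zero]))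
  have key : ∀ ϖ : R, Prime ϖ → ¬ ϖ ∣ a ∧ ¬ ϖ ∣ b := by
    intro ϖ hϖ
    obtain ⟨a', b', ha', hb', e'⟩ := h ϖ hϖ
    have h1 : a * b' = a' * b := by
      apply IsFractionRing.injective R K
      rw [map_mul, map_mul, ← e, ← e']
      ring
    constructor
    · intro hd
      have h2 : ϖ ∣ a' * b := by rw [← h1]; exact hd.mul_right _
      rcases hϖ.dvd_or_dvd h2 with h3 | h3
      · exact ha' h3
      · exact hϖ.not_isUnit (hab hd h3)
    · intro hd
      have h2 : ϖ ∣ a * b' := by rw [h1]; exact hd.mul_left _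
      rcases hϖ.dvd_or_dvd h2 with h3 | h3
      · exact hϖ.not_isUnit (hab h3 hd)
      · exact hb' h3
  have hua : IsUnit a := by
    by_contra hna
    obtain ⟨ϖ, hϖ, hd⟩ := WfDvdMonoid.exists_irreducible_factor hna ha
    exact (key ϖ hϖ.prime).1 hd
  have hub : IsUnit b := by
    by_contra hnb
    obtain ⟨ϖ, hϖ, hd⟩ := WfDvdMonoid.exists_irreducible_factor hnb hb
    exact (key ϖ hϖ.prime).2 hd
  obtain ⟨ub, rfl⟩ := hub
  refine ⟨a * ((ub⁻¹ : Rˣ) : R), hua.mul (ub⁻¹).isUnit, ?_⟩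
  rw [map_mul, ← e, mul_assoc, ← map_mul]
  simp

end K676.UfdFix
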