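import Groth.Agent.CycB.LocQuot
import Groth.Agent.GLinSh.K676.UfdFix
import Mathlib.AlgebraicGeometry.FunctionField

/-!
# Rational functions which are units at a point; correction of a family of local generators on a locally
factorial scheme
-/

set_option autoImplicit false
universe u

open AlgebraicGeometry CategoryTheory TopologicalSpace
open Groth.Agent.CycB.LocQuot K676.UfdFix

namespace K676.UnAt

variable {X : Scheme.{u}} [IsIntegral X]

theorem algebraMap_sp {x ξ : X} (h : ξ ⤳ x) (a : X.presheaf.stalk x) :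
    algebraMap (X.presheaf.stalk ξ) X.functionField (X.presheaf.stalkSpecializes h a) =
      algebraMap (X.presheaf.stalk x) X.functionField a := by
  change (X.presheaf.stalkSpecializes h ≫
    X.presheaf.stalkSpecializes ((genericPoint_spec X).specializes trivial)) a = _
  rw [TopCat.Presheaf.stalkSpecializes_comp]
  rfl

/-- `c` is a unit at `x`. -/
def IsUn (x : X) (c : X.functionField) : Prop :=
  ∃ u : X.presheaf.stalk x, IsUnit u ∧ algebraMap (X.presheaf.stalk x) X.functionField u = c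

theorem IsUn.ne_zero {x : X} {c : X.functionField} (h : IsUn x c) : c ≠ 0 := by
  obtain ⟨u, hu, rfl⟩ := h
  exact (hu.map (algebraMap (X.presheaf.stalk x) X.functionField)).ne_zero

theorem IsUn.mul {x : X} {c d : X.functionField} (hc : IsUn x c) (hd : IsUn x d) : IsUn x (c * d) := by
  obtain ⟨u, hu, rfl⟩ := hc
  obtain ⟨v, hv, rfl⟩ := hd
  exact ⟨u * v, hu.mul hv, map_mul _ _ _⟩

theorem IsUn.inv {x : X} {c : X.functionField} (hc : IsUn x c) : IsUn x c⁻¹ := by
  have h0 := hc.ne_zero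
  obtain ⟨_, ⟨u, rfl⟩, rfl⟩ := hc
  refine ⟨((u⁻¹ : (X.presheaf.stalk x)ˣ) : X.presheaf.stalk x), (u⁻¹).isUnit, ?_⟩
  apply mul_right_cancel₀ h0
  rw [inv_mul_cancel₀ h0, ← map_mul]
  simp

theorem IsUn.div {x : X} {c d : X.functionField} (hc : IsUn x c) (hd : IsUn x d) : IsUn x (c / d) := by
  rw [div_eq_mul_inv]; exact hc.mul hd.inv

theorem IsUn.specializes {x ξ : X} (h : ξ ⤳ x) {c : X.functionField} (hc : IsUn x c) : IsUn ξ c := by
  obtain ⟨u, hu, rfl⟩ := hc
  exact ⟨X.presheaf.stalkSpecializes h u, hu.map _, algebraMap_sp h u⟩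

theorem isUn_germ {U : X.Opens} [Nonempty U] {x : X} (hx : x ∈ U) {f : Γ(X, U)} (hf : IsUnit f) :
    IsUn x (X.germToFunctionField U f) := by
  refine ⟨X.presheaf.germ U x hx f, hf.map _, ?_⟩
  change (X.presheaf.germ U x hx ≫ X.presheaf.stalkSpecializes ((genericPoint_spec X).specializes trivial)) f = _
  rw [TopCat.Presheaf.germ_stalkSpecializes]

theorem isUn_iff {x ξ : X} (h : ξ ⤳ x) (c : X.functionField) :
    IsUn ξ c ↔ ∃ a b : X.presheaf.stalk x, a ∉ (primeOf h).asIdeal ∧ b ∉ (primeOf h).asIdeal ∧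
      c * algebraMap (X.presheaf.stalk x) X.functionField b = algebraMap (X.presheaf.stalk x) X.functionField a := by
  have hun : ∀ a : X.presheaf.stalk x, a ∉ (primeOf h).asIdeal ↔ IsUnit (X.presheaf.stalkSpecializes h a) := by
    intro a
    rw [primeOf_asIdeal, mem_ker_specMap_iff, not_not]
  constructor
  · rintro ⟨u, hu, rfl⟩
    let := (X.presheaf.stalkSpecializes h).hom.toAlgebra
    have hloc := isLocalization_stalkSpecializes h
    obtain ⟨⟨a, b⟩, hab⟩ := IsLocalization.surj (RingHom.ker (Cyc.specMap x ξ h)).primeCompl u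
    have hab' : u * X.presheaf.stalkSpecializes h b.1 = X.presheaf.stalkSpecializes h a := hab
    have hb : b.1 ∉ (primeOf h).asIdeal := by
      rw [primeOf_asIdeal]; exact b.2
    refine ⟨a, b.1, ?_, hb, ?_⟩
    · rw [hun, ← hab']
      exact hu.mul ((hun _).1 hb)
    · rw [← algebraMap_sp h, ← algebraMap_sp h, ← map_mul, hab']
  · rintro ⟨a, b, ha, hb, e⟩
    obtain ⟨v, hv⟩ := (hun b).1 hb
    have hvb : algebraMap (X.presheaf.stalk ξ) X.functionField (v : X.presheaf.stalk ξ) ≠ 0 :=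
      (v.isUnit.map (algebraMap (X.presheaf.stalk ξ) X.functionField)).ne_zero
    refine ⟨X.presheaf.stalkSpecializes h a * ((v⁻¹ : (X.presheaf.stalk ξ)ˣ) : X.presheaf.stalk ξ),
      ((hun a).1 ha).mul (v⁻¹).isUnit, ?_⟩
    apply mul_right_cancel₀ hvb
    rw [← map_mul, mul_assoc, ← Units.val_mul, inv_mul_cancel, Units.val_one, mul_one, algebraMap_sp, ← e,
      hv, algebraMap_sp]

/-- The point of `X` attached to a prime element of the local ring at `x`. -/
noncomputable def pp {x : X} {ϖ : X.presheaf.stalk x} (hϖ : Prime ϖ) : X :=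
  ptOf ⟨Ideal.span {ϖ}, (Ideal.span_singleton_prime hϖ.ne_zero).2 hϖ⟩

omit [IsIntegral X] in
theorem pp_specializes {x : X} {ϖ : X.presheaf.stalk x} (hϖ : Prime ϖ) : pp hϖ ⤳ x :=
  ptOf_specializes _

omit [IsIntegral X] in
theorem primeOf_pp {x : X} {ϖ : X.presheaf.stalk x} (hϖ : Prime ϖ) :
    (primeOf (pp_specializes hϖ)).asIdeal = Ideal.span {ϖ} := by
  have := primeOf_ptOf (X := X) (x := x) ⟨Ideal.span {ϖ}, (Ideal.span_singleton_prime hϖ.ne_zero).2 hϖ⟩
  exact congrArg PrimeSpectrum.asIdeal this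

theorem uAt_iff {x : X} {ϖ : X.presheaf.stalk x} (hϖ : Prime ϖ) (c : X.functionField) :
    UAt ϖ c ↔ IsUn (pp hϖ) c := by
  rw [isUn_iff (pp_specializes hϖ), primeOf_pp]
  simp only [Ideal.mem_span_singleton]
  rfl

theorem isUn_of_forall {x : X} [UniqueFactorizationMonoid (X.presheaf.stalk x)] {c : X.functionField} (hc : c ≠ 0)
    (h : ∀ (ϖ : X.presheaf.stalk x) (hϖ : Prime ϖ), IsUn (pp hϖ) c) : IsUn x c :=
  exists_unit_of_forall hc fun ϖ hϖ => (uAt_iff hϖ c).2 (h ϖ hϖ)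

theorem exists_away (x : X) (N : X.Opens) (hN : (N : Set X).Nonempty) :
    ∃ s : X.presheaf.stalk x, s ≠ 0 ∧ ∀ (ϖ : X.presheaf.stalk x) (hϖ : Prime ϖ), ¬ ϖ ∣ s → pp hϖ ∈ N := by
  let P₀ : PrimeSpectrum (X.presheaf.stalk x) := ⟨⊥, Ideal.isPrime_bot⟩
  have hη : genericPoint X ∈ N := ((genericPoint_spec X).mem_open_set_iff N.2).2 (by simpa using hN)
  have hgx : genericPoint X ⤳ x := (genericPoint_spec X).specializes trivial
  have h0 : ptOf P₀ = genericPoint X := by
    have h1 : P₀ = primeOf hgx := by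
      apply le_antisymm
      · exact fun _ h => by
          have h2 : _ = (0 : X.presheaf.stalk x) := h
          rw [h2]
          exact Ideal.zero_mem _
      · have h2 : ptOf P₀ ⤳ x := ptOf_specializes P₀
        have h3 : P₀ = primeOf h2 := (primeOf_ptOf P₀).symm
        rw [h3, primeOf_le_iff]
        exact (genericPoint_spec X).specializes trivial
    rw [h1, ptOf_primeOf]
  have hopen : IsOpen ((X.fromSpecStalk x) ⁻¹' (N : Set X)) := N.2.preimage (X.fromSpecStalk x).continuous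
  have hmem : P₀ ∈ (X.fromSpecStalk x) ⁻¹' (N : Set X) := by
    change ptOf P₀ ∈ N
    rw [h0]
    exact hη
  obtain ⟨_, ⟨s, rfl⟩, hs1, hs2⟩ := PrimeSpectrum.isTopologicalBasis_basic_opens.exists_subset_of_mem_open hmem hopen
  refine ⟨s, ?_, ?_⟩
  · rintro rfl
    exact hs1 (Ideal.zero_mem _)
  · intro ϖ hϖ hd
    have h1 : (⟨Ideal.span {ϖ}, (Ideal.span_singleton_prime hϖ.ne_zero).2 hϖ⟩ :
        PrimeSpectrum (X.presheaf.stalk x)) ∈ (PrimeSpectrum.basicOpen s : Set _) :=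
      fun h => hd (Ideal.mem_span_singleton.1 h)
    exact hs2 h1

theorem pp_trans {x y : X} (h : x ⤳ y) [UniqueFactorizationMonoid (X.presheaf.stalk y)]
    {ϖ' : X.presheaf.stalk x} (hϖ' : Prime ϖ') :
    ∃ (ϖ : X.presheaf.stalk y) (hϖ : Prime ϖ), pp hϖ = pp hϖ' := by
  let := (X.presheaf.stalkSpecializes h).hom.toAlgebra
  have hloc := isLocalization_stalkSpecializes h
  let Q := RingHom.ker (Cyc.specMap y x h)
  have hinj : Function.Injective (algebraMap (X.presheaf.stalk y) (X.presheaf.stalk x)) := by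
    intro a b e
    apply IsFractionRing.injective (X.presheaf.stalk y) X.functionField
    have h1 := congrArg (algebraMap (X.presheaf.stalk x) X.functionField) e
    have h2 : ∀ a, algebraMap (X.presheaf.stalk x) X.functionField
        (algebraMap (X.presheaf.stalk y) (X.presheaf.stalk x) a) =
        algebraMap (X.presheaf.stalk y) X.functionField a := fun a => algebraMap_sp h a
    rwa [h2, h2] at h1
  have hPI : (Ideal.span {ϖ'}).IsPrime := (Ideal.span_singleton_prime hϖ'.ne_zero).2 hϖ'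
  let P : Ideal (X.presheaf.stalk y) := (Ideal.span {ϖ'}).comap (algebraMap _ (X.presheaf.stalk x))
  have hP : P.IsPrime := Ideal.IsPrime.comap _
  have hPQ : ∀ t ∈ P, t ∉ Q.primeCompl := by
    intro t ht htQ
    have h1 : IsUnit (algebraMap (X.presheaf.stalk y) (X.presheaf.stalk x) t) :=
      IsLocalization.map_units (X.presheaf.stalk x) (⟨t, htQ⟩ : Q.primeCompl)
    exact hPI.ne_top (Ideal.eq_top_of_isUnit_mem _ ht h1)
  obtain ⟨⟨b₁, t₁⟩, e₁⟩ := IsLocalization.surj Q.primeCompl ϖ'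
  have hb₁ : b₁ ∈ P := by
    change algebraMap _ (X.presheaf.stalk x) b₁ ∈ Ideal.span {ϖ'}
    have e₁' : ϖ' * algebraMap _ (X.presheaf.stalk x) t₁.1 = algebraMap _ (X.presheaf.stalk x) b₁ := e₁
    rw [← e₁']
    exact Ideal.mem_span_singleton.2 (Dvd.intro _ rfl)
  have hb₁0 : b₁ ≠ 0 := by
    intro hb
    have e₁' : ϖ' * algebraMap _ (X.presheaf.stalk x) t₁.1 = algebraMap _ (X.presheaf.stalk x) b₁ := e₁
    rw [hb, map_zero, mul_eq_zero] at e₁'
    rcases e₁' with e | e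
    · exact hϖ'.ne_zero e
    · exact (IsLocalization.map_units (X.presheaf.stalk x) t₁).ne_zero e
  have hP0 : P ≠ ⊥ := fun hb => hb₁0 (by
    have : b₁ ∈ (⊥ : Ideal (X.presheaf.stalk y)) := by rw [← hb]; exact hb₁
    simpa using this)
  obtain ⟨ϖ, hϖP, hϖ⟩ := hP.exists_mem_prime_of_ne_bot hP0
  -- `P = (ϖ)`
  have hPϖ : P = Ideal.span {ϖ} := by
    apply le_antisymm
    · intro a ha
      rw [Ideal.mem_span_singleton]
      obtain ⟨w, hw⟩ := Ideal.mem_span_singleton.1 hϖP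
      obtain ⟨⟨b₂, t₂⟩, e₂⟩ := IsLocalization.surj Q.primeCompl w
      have e₁' : ϖ' * algebraMap _ (X.presheaf.stalk x) t₁.1 = algebraMap _ (X.presheaf.stalk x) b₁ := e₁
      have e₂' : w * algebraMap _ (X.presheaf.stalk x) t₂.1 = algebraMap _ (X.presheaf.stalk x) b₂ := e₂
      have e₃ : ϖ * (t₁.1 * t₂.1) = b₁ * b₂ := by
        apply hinj
        rw [map_mul, map_mul, map_mul, ← e₁', ← e₂', hw]
        ring
      have ht12 : t₁.1 * t₂.1 ∈ Q.primeCompl := mul_mem t₁.2 t₂.2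
      have hd : ϖ ∣ b₁ := by
        have h1 : ϖ ∣ b₁ * b₂ := ⟨_, e₃.symm⟩
        rcases hϖ.dvd_or_dvd h1 with h2 | ⟨b₃, hb₃⟩
        · exact h2
        · exfalso
          have h3 : t₁.1 * t₂.1 = b₁ * b₃ := by
            apply mul_left_cancel₀ hϖ.ne_zero
            rw [e₃, hb₃]; ring
          exact hPQ _ (by rw [h3]; exact P.mul_mem_right _ hb₁) ht12
      obtain ⟨b₃, hb₃⟩ := hd
      obtain ⟨w', hw'⟩ := Ideal.mem_span_singleton.1 ha
      obtain ⟨⟨b₄, t₄⟩, e₄⟩ := IsLocalization.surj Q.primeCompl w'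
      have e₄' : w' * algebraMap _ (X.presheaf.stalk x) t₄.1 = algebraMap _ (X.presheaf.stalk x) b₄ := e₄
      have e₅ : a * (t₁.1 * t₄.1) = ϖ * (b₃ * b₄) := by
        apply hinj
        have h1 : ϖ * (b₃ * b₄) = b₁ * b₄ := by rw [hb₃]; ring
        rw [h1, map_mul, map_mul, map_mul, ← e₁', ← e₄', hw']
        ring
      have h2 : ϖ ∣ a * (t₁.1 * t₄.1) := ⟨_, e₅⟩
      rcases hϖ.dvd_or_dvd h2 with h3 | h3
      · exact h3
      · exfalso
        obtain ⟨c, hc⟩ := h3
        exact hPQ _ (by rw [hc]; exact P.mul_mem_right _ hϖP) (mul_mem t₁.2 t₄.2)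
    · rw [Ideal.span_singleton_le_iff_mem]
      exact hϖP
  refine ⟨ϖ, hϖ, ?_⟩
  have h1 : (⟨Ideal.span {ϖ}, (Ideal.span_singleton_prime hϖ.ne_zero).2 hϖ⟩ :
      PrimeSpectrum (X.presheaf.stalk y)) =
      Spec.map (X.presheaf.stalkSpecializes h) (⟨Ideal.span {ϖ'}, hPI⟩ : PrimeSpectrum (X.presheaf.stalk x)) := by
    apply PrimeSpectrum.ext
    change Ideal.span {ϖ} = P
    exact hPϖ.symm
  have h2 : pp hϖ = X.fromSpecStalk y (⟨Ideal.span {ϖ}, (Ideal.span_singleton_prime hϖ.ne_zero).2 hϖ⟩ :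
      PrimeSpectrum (X.presheaf.stalk y)) := rfl
  rw [h2, h1]
  have h3 := congrArg (fun f => f (⟨Ideal.span {ϖ'}, hPI⟩ : PrimeSpectrum (X.presheaf.stalk x)))
    (Scheme.SpecMap_stalkSpecializes_fromSpecStalk h)
  exact h3

theorem pp_eq_of_associated {x : X} {ϖ ϖ' : X.presheaf.stalk x} (hϖ : Prime ϖ) (hϖ' : Prime ϖ')
    (h : Associated ϖ ϖ') : pp hϖ = pp hϖ' := by
  unfold pp
  congr 2
  exact Ideal.span_singleton_eq_span_singleton.2 h

/-- Local generators on a locally factorial scheme can be corrected at a given point. -/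
theorem exists_correction (y : X) (hUFD : ∀ x : X, UniqueFactorizationMonoid (X.presheaf.stalk x))
    {ι : Type*} (H : ι → X.functionField) (hH : ∀ i, H i ≠ 0) (N : ι → X.Opens)
    (hcomp : ∀ i j x, x ∈ N i → x ∈ N j → IsUn x (H i / H j))
    (hpp : ∀ (ϖ : X.presheaf.stalk y) (hϖ : Prime ϖ), ∃ i, pp hϖ ∈ N i) (i₁ : ι) (hne : (N i₁ : Set X).Nonempty) :
    ∃ r : X.functionField, r ≠ 0 ∧ ∀ i q, q ∈ N i → q ⤳ y → IsUn q (r / H i) := by
  classical
  have := hUFD y
  obtain ⟨s, hs, hs'⟩ := exists_away y (N i₁) hne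
  choose j hj using hpp
  let F : X.presheaf.stalk y → X.functionField := fun ϖ =>
    if hϖ : Prime ϖ then H (j ϖ hϖ) / H i₁ else 1
  have hF : ∀ ϖ (hϖ : Prime ϖ), F ϖ = H (j ϖ hϖ) / H i₁ := fun ϖ hϖ => dif_pos hϖ
  obtain ⟨r, hr, hr'⟩ := exists_fix (K := X.functionField) s hs F (fun ϖ hϖ => by
      rw [hF ϖ hϖ]
      exact div_ne_zero (hH _) (hH _)) (fun ϖ hϖ hd => by
      rw [hF ϖ hϖ, uAt_iff hϖ]
      exact hcomp _ _ _ (hj ϖ hϖ) (hs' ϖ hϖ hd)) (fun ϖ ϖ' hϖ hass => by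
      have hϖ' : Prime ϖ' := hass.prime hϖ
      have e : H (j ϖ hϖ) / H i₁ / (H (j ϖ' hϖ') / H i₁) = H (j ϖ hϖ) / H (j ϖ' hϖ') := by
        have := hH (j ϖ' hϖ')
        have := hH i₁
        field_simp
      rw [hF ϖ hϖ, hF ϖ' hϖ', uAt_iff hϖ, e]
      refine hcomp _ _ _ (hj ϖ hϖ) ?_
      rw [pp_eq_of_associated hϖ hϖ' hass]
      exact hj ϖ' hϖ')
  refine ⟨r * H i₁, mul_ne_zero hr (hH _), fun i q hq hqy => ?_⟩
  have := hUFD q
  refine isUn_of_forall (div_ne_zero (mul_ne_zero hr (hH _)) (hH _)) fun ϖ' hϖ' => ?_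
  obtain ⟨ϖ, hϖ, e⟩ := pp_trans hqy hϖ'
  have h1 : IsUn (pp hϖ) (r / F ϖ) := (uAt_iff hϖ _).1 (hr' ϖ hϖ)
  have h2 : IsUn (pp hϖ) (H (j ϖ hϖ) / H i) := by
    refine hcomp _ _ _ (hj ϖ hϖ) ?_
    rw [e]
    exact (pp_specializes hϖ').mem_open (N i).2 hq
  rw [← e]
  have h3 : r * H i₁ / H i = (r / F ϖ) * (H (j ϖ hϖ) / H i) := by
    rw [hF ϖ hϖ]
    have := hH (j ϖ hϖ)
    have := hH i₁
    have := hH i
    field_simp
  rw [h3]
  exact h1.mul h2

theorem isUn_germ_of_mem {U : X.Opens} [Nonempty U] {x : X} (hx : x ∈ U) {f : Γ(X, U)} (hf : x ∈ X.basicOpen f) :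
    IsUn x (X.germToFunctionField U f) := by
  refine ⟨X.presheaf.germ U x hx f, (X.mem_basicOpen f x hx).1 hf, ?_⟩
  change (X.presheaf.germ U x hx ≫ X.presheaf.stalkSpecializes ((genericPoint_spec X).specializes trivial)) f = _
  rw [TopCat.Presheaf.germ_stalkSpecializes]

theorem germ_rsec {U W : X.Opens} [Nonempty U] [Nonempty W] (h : W ≤ U) (f : Γ(X, U)) :
    X.germToFunctionField W (X.presheaf.map (homOfLE h).op f) = X.germToFunctionField U f :=
  TopCat.Presheaf.germ_res_apply _ _ _ _ _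

/-- A rational function which is a unit at `x` is a unit section near `x`. -/
theorem exists_section_of_isUn {x : X} {c : X.functionField} (hc : IsUn x c) (U : X.Opens) (hx : x ∈ U) :
    ∃ (U' : X.Opens) (_ : U' ≤ U) (_ : x ∈ U') (_ : Nonempty U') (w : Γ(X, U')), IsUnit w ∧
      X.germToFunctionField U' w = c := by
  obtain ⟨u, hu, rfl⟩ := hc
  obtain ⟨W, hxW, f, rfl⟩ := X.presheaf.exists_germ_eq u
  have hxf : x ∈ X.basicOpen f := (X.mem_basicOpen f x hxW).2 hu
  let U' : X.Opens := U ⊓ X.basicOpen f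
  have hle : U' ≤ W := inf_le_right.trans (X.basicOpen_le f)
  have hxU' : x ∈ U' := ⟨hx, hxf⟩
  have hneU : Nonempty U' := ⟨⟨x, hxU'⟩⟩
  have : Nonempty W := ⟨⟨x, hxW⟩⟩
  refine ⟨U', inf_le_left, hxU', hneU, X.presheaf.map (homOfLE hle).op f, ?_, ?_⟩
  · have h1 : IsUnit (X.presheaf.map (homOfLE (X.basicOpen_le f)).op f) := RingedSpace.isUnit_res_basicOpen _ f
    have h2 := h1.map (X.presheaf.map (homOfLE (inf_le_right : U' ≤ X.basicOpen f)).op).hom
    rw [← CommRingCat.comp_apply, ← X.presheaf.map_comp] at h2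
    exact h2
  · rw [germ_rsec]
    change _ = (X.presheaf.germ W x hxW ≫
      X.presheaf.stalkSpecializes ((genericPoint_spec X).specializes trivial)) f
    rw [TopCat.Presheaf.germ_stalkSpecializes]

section FF

variable {Z M : Scheme.{u}} [IsIntegral Z] [IsIntegral M] (φ : Z ⟶ M) (hφ : φ (genericPoint Z) = genericPoint M)

/-- The map of function fields of a dominant morphism. -/
noncomputable def ff : M.functionField ⟶ Z.functionField :=
  M.presheaf.stalkSpecializes (specializes_of_eq hφ) ≫ φ.stalkMap (genericPoint Z)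

theorem ff_germ (U : M.Opens) [Nonempty U] [Nonempty (φ ⁻¹ᵁ U)] (f : Γ(M, U)) :
    ff φ hφ (M.germToFunctionField U f) = Z.germToFunctionField (φ ⁻¹ᵁ U) (φ.app U f) := by
  have h1 : (M.germToFunctionField U ≫ ff φ hφ) = φ.app U ≫ Z.germToFunctionField (φ ⁻¹ᵁ U) := by
    rw [ff, ← Category.assoc, Scheme.germToFunctionField, TopCat.Presheaf.germ_stalkSpecializes,
      Scheme.Hom.germ_stalkMap]
  exact congrArg (fun g => g.hom f) h1

theorem isUn_ff {p : Z} {c : M.functionField} (h : IsUn (φ p) c) : IsUn p (ff φ hφ c) := by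
  obtain ⟨u, hu, rfl⟩ := h
  refine ⟨φ.stalkMap p u, hu.map _, ?_⟩
  have hg : genericPoint Z ⤳ p := (genericPoint_spec Z).specializes trivial
  have h1 := Scheme.Hom.stalkSpecializes_stalkMap φ (genericPoint Z) p hg
  have h2 := congrArg (fun g => g.hom u) h1
  change (Z.presheaf.stalkSpecializes hg) (φ.stalkMap p u) = _
  refine Eq.trans h2.symm ?_
  change (φ.stalkMap (genericPoint Z)) (M.presheaf.stalkSpecializes _ u) = _
  have h3 : (M.presheaf.stalkSpecializes ((genericPoint_spec M).specializes trivial : genericPoint M ⤳ φ p)) ≫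
      M.presheaf.stalkSpecializes (specializes_of_eq hφ) = M.presheaf.stalkSpecializes (hg.map φ.continuous) := by
    rw [TopCat.Presheaf.stalkSpecializes_comp]
  rw [← h3]
  rfl

end FF

end K676.UnAt
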