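import Groth.Agent.GLinSh.K676.LocFrame
import Groth.Agent.GLinSh.K676.UnAt

/-!
# Invariant frames near every point when the quotient is locally factorial
-/

set_option autoImplicit false
universe u
open CategoryTheory MonoidalCategory CartesianMonoidalCategory MonObj AlgebraicGeometry Topology Limits
open Groth.Agent.Books.BorelOrb

namespace K676.Forward

open K689.SchGlue K689.Coord K689.CoordUP K689.Weight K689.Ratio K689.ActBasic K689.LinBunBasic K689.PullBun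
open K676.WtExt K676.Frame K676.FrameRatio K676.LocFrame K676.UnAt

variable {S : Scheme.{u}} {G Z M : Over S} [GrpObj G] {a : AlgGrp.Action G Z} {φ : Z ⟶ M}

/-- The quotient of an integral scheme is integral. -/
theorem isIntegral_quot (hq : NRQuot.IsGoodQuot a φ) [IsIntegral Z.left] : IsIntegral M.left where
  nonempty := ⟨φ.left (Classical.arbitrary Z.left)⟩
  component_integral U hU := by
    have hs := K990.NRQuot.IsGoodQuot.surjective hq
    obtain ⟨y⟩ := hU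
    obtain ⟨z, hz⟩ := hs y.1
    have : Nonempty (φ.left ⁻¹ᵁ U) := ⟨⟨z, by
      change φ.left z ∈ U
      have : φ.left z = y.1 := hz
      rw [this]; exact y.2⟩⟩
    have : IsDomain Γ(Z.left, φ.left ⁻¹ᵁ U) := IsIntegral.component_integral _
    exact (hq.sections U).1.isDomain (φ.left.app U).hom

theorem map_generic (hq : NRQuot.IsGoodQuot a φ) [IsIntegral Z.left] [IsIntegral M.left] :
    φ.left (genericPoint Z.left) = genericPoint M.left := by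
  have hs := K990.NRQuot.IsGoodQuot.surjective hq
  have : IsDominant φ.left := ⟨hs.denseRange⟩
  symm
  apply (genericPoint_spec M.left).eq
  rw [isGenericPoint_def]
  have h1 : closure {φ.left (genericPoint Z.left)} = closure (φ.left '' closure {genericPoint Z.left}) := by
    apply subset_antisymm
    · apply closure_mono
      rw [Set.singleton_subset_iff]
      exact ⟨_, subset_closure rfl, rfl⟩
    · apply closure_minimal _ isClosed_closure
      rintro _ ⟨z, hz, rfl⟩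
      have h2 : genericPoint Z.left ⤳ z := specializes_iff_mem_closure.2 hz
      exact specializes_iff_mem_closure.1 (h2.map φ.left.continuous)
  have h3 : closure {genericPoint Z.left} = Set.univ := genericPoint_closure _
  rw [h1, h3, Set.image_univ]
  exact hs.denseRange.closure_range

variable {B : GLinSh.LinBun G a}

variable (B) (φ) in
/-- The frames over non-empty saturated opens. -/
structure Fr where
  N : M.left.Opens
  f : Γ(B.V.left, B.π.left ⁻¹ᵁ (φ.left ⁻¹ᵁ N))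
  ne : (N : Set M.left).Nonempty
  hf : IsFrame B (φ.left ⁻¹ᵁ N) f

theorem exists_frame_near (hq : NRQuot.IsGoodQuot a φ) [IsIntegral Z.left] [IsIntegral M.left]
    [IsIntegral (G ⊗ Z).left]
    (hUZ : ∀ z : Z.left, UniqueFactorizationMonoid (Z.left.presheaf.stalk z))
    (hUM : ∀ y : M.left, UniqueFactorizationMonoid (M.left.presheaf.stalk y))
    (hM : ∀ (y : M.left) (ϖ : M.left.presheaf.stalk y) (hϖ : Prime ϖ), ∃ i : Fr φ B, pp hϖ ∈ i.N)
    (hZ : ∀ (z : Z.left) (ϖ : Z.left.presheaf.stalk z) (hϖ : Prime ϖ), ∃ i : Fr φ B, φ.left (pp hϖ) ∈ i.N)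
    (i₁ : Fr φ B) (x : Z.left) :
    ∃ (U' : Z.left.Opens) (f : Γ(B.V.left, B.π.left ⁻¹ᵁ U')), x ∈ U' ∧ IsFrame B U' f := by
  have hgen := map_generic hq
  -- ratios
  have hle1 : ∀ i : Fr φ B, φ.left ⁻¹ᵁ (i.N ⊓ i₁.N) ≤ φ.left ⁻¹ᵁ i.N := fun i z hz => hz.1
  have hle2 : ∀ i : Fr φ B, φ.left ⁻¹ᵁ (i.N ⊓ i₁.N) ≤ φ.left ⁻¹ᵁ i₁.N := fun i z hz => hz.2
  have hrat : ∀ i : Fr φ B, ∃ h : Γ(M.left, i.N ⊓ i₁.N), IsUnit h ∧
      rs B.π.left (hle1 i) i.f =
        B.π.left.app (φ.left ⁻¹ᵁ (i.N ⊓ i₁.N)) (φ.left.app (i.N ⊓ i₁.N) h) * rs B.π.left (hle2 i) i₁.f := fun i =>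
    exists_ratio_unit hq (i₁.hf.restrict (hle2 i)) (i.hf.restrict (hle1 i))
  choose h hu hh using hrat
  have hneM : ∀ N N' : M.left.Opens, (N : Set M.left).Nonempty → (N' : Set M.left).Nonempty → Nonempty (N ⊓ N' : M.left.Opens) := by
    intro N N' h1 h2
    obtain ⟨y, hy⟩ := nonempty_preirreducible_inter N.2 N'.2 h1 h2
    exact ⟨⟨y, hy⟩⟩
  have hneZ : ∀ N : M.left.Opens, Nonempty N → Nonempty (φ.left ⁻¹ᵁ N : Z.left.Opens) := by
    rintro N ⟨y⟩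
    obtain ⟨z, hz⟩ := K990.NRQuot.IsGoodQuot.surjective hq y.1
    exact ⟨⟨z, by
      change φ.left z ∈ N
      have : φ.left z = y.1 := hz
      rw [this]; exact y.2⟩⟩
  have hne1 : ∀ i : Fr φ B, Nonempty (i.N ⊓ i₁.N : M.left.Opens) := fun i => hneM _ _ i.ne i₁.ne
  let H : Fr φ B → M.left.functionField := fun i => M.left.germToFunctionField (i.N ⊓ i₁.N) (h i)
  have hH : ∀ i, H i ≠ 0 := fun i => ((hu i).map (M.left.germToFunctionField (i.N ⊓ i₁.N)).hom).ne_zero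
  -- compatibility
  have hcomp : ∀ i j y, y ∈ i.N → y ∈ j.N → IsUn y (H i / H j) := by
    intro i j y hyi hyj
    have hle3 : φ.left ⁻¹ᵁ (i.N ⊓ j.N) ≤ φ.left ⁻¹ᵁ i.N := fun z hz => hz.1
    have hle4 : φ.left ⁻¹ᵁ (i.N ⊓ j.N) ≤ φ.left ⁻¹ᵁ j.N := fun z hz => hz.2
    obtain ⟨t, htu, ht⟩ := exists_ratio_unit hq (j.hf.restrict hle4) (i.hf.restrict hle3)
    have : Nonempty (i.N ⊓ j.N : M.left.Opens) := ⟨⟨y, hyi, hyj⟩⟩
    let W : M.left.Opens := i.N ⊓ j.N ⊓ i₁.N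
    have hneW : Nonempty W := hneM _ _ ⟨y, hyi, hyj⟩ i₁.ne
    have w1 : W ≤ i.N ⊓ i₁.N := fun z hz => ⟨hz.1.1, hz.2⟩
    have w2 : W ≤ j.N ⊓ i₁.N := fun z hz => ⟨hz.1.2, hz.2⟩
    have w3 : W ≤ i.N ⊓ j.N := fun z hz => hz.1
    have w4 : W ≤ i₁.N := fun z hz => hz.2
    have hp : ∀ {N N' : M.left.Opens}, N ≤ N' → φ.left ⁻¹ᵁ N ≤ φ.left ⁻¹ᵁ N' := fun h z hz => h hz
    have key : rsec w1 (h i) = rsec w3 t * rsec w2 (h j) := by
      have := hneZ W hneW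
      apply (hq.sections W).1
      refine ratio_unique (atl B.atlas) i₁.hf.wt (hp w4) (fun z hz => i₁.hf.nv (hp w4 hz)) _ _ ?_
      have e1 := congrArg (rs B.π.left (hp w1)) (hh i)
      have e2 := congrArg (rs B.π.left (hp w3)) ht
      have e3 := congrArg (rs B.π.left (hp w2)) (hh j)
      rw [rs_rs, rs_mul, rs_rs, rs_app] at e1 e3
      rw [rs_mul, rs_app, rs_rs, rs_rs] at e2
      have n1 : rsec (hp w1) (φ.left.app (i.N ⊓ i₁.N) (h i)) = φ.left.app W (rsec w1 (h i)) := rs_app w1 (h i)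
      have n2 : rsec (hp w2) (φ.left.app (j.N ⊓ i₁.N) (h j)) = φ.left.app W (rsec w2 (h j)) := rs_app w2 (h j)
      have n3 : rsec (hp w3) (φ.left.app (i.N ⊓ j.N) t) = φ.left.app W (rsec w3 t) := rs_app w3 t
      rw [n1] at e1
      rw [n2] at e3
      rw [n3] at e2
      rw [map_mul, map_mul, _root_.mul_assoc, ← e3, ← e1]
      exact e2
    have e : H i / H j = M.left.germToFunctionField (i.N ⊓ j.N) t := by
      rw [div_eq_iff (hH j)]
      change M.left.germToFunctionField (i.N ⊓ i₁.N) (h i) = _ * M.left.germToFunctionField (j.N ⊓ i₁.N) (h j)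
      rw [← germ_rsec w1, ← germ_rsec w2, ← germ_rsec w3, ← map_mul]
      exact congrArg _ key
    rw [e]
    exact isUn_germ (show y ∈ i.N ⊓ j.N from ⟨hyi, hyj⟩) htu
  obtain ⟨r, hr, hr'⟩ := exists_correction (φ.left x) hUM H hH (fun i => i.N) hcomp (hM _) i₁ i₁.ne
  -- the chart
  obtain ⟨U, hxU, y, hy⟩ := B.atlas.cover x
  have hUne : (U : Set Z.left).Nonempty := ⟨x, hxU⟩
  have hcoef : ∀ i : Fr φ B, ∃ c : Γ(Z.left, U ⊓ φ.left ⁻¹ᵁ i.N),
      rs B.π.left inf_le_right i.f = B.π.left.app _ c * rs B.π.left inf_le_left y := by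
    intro i
    obtain ⟨c, hc⟩ := i.hf.wt (U ⊓ φ.left ⁻¹ᵁ i.N) inf_le_right (rs B.π.left inf_le_left y)
      ((adm_of_mem hy).restrict _)
    exact ⟨c, by rw [hc, pow_one]⟩
  choose c hc using hcoef
  have hcne : ∀ i : Fr φ B, Nonempty (U ⊓ φ.left ⁻¹ᵁ i.N : Z.left.Opens) := by
    intro i
    obtain ⟨y, hy⟩ := i.ne
    obtain ⟨z⟩ := hneZ i.N ⟨⟨y, hy⟩⟩
    obtain ⟨z', hz'⟩ := nonempty_preirreducible_inter U.2 (φ.left ⁻¹ᵁ i.N).2 hUne ⟨z.1, z.2⟩
    exact ⟨⟨z', hz'⟩⟩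
  let C : Fr φ B → Z.left.functionField := fun i => Z.left.germToFunctionField (U ⊓ φ.left ⁻¹ᵁ i.N) (c i)
  have hCun : ∀ (i : Fr φ B) (p : Z.left), p ∈ U → φ.left p ∈ i.N → IsUn p (C i) := by
    intro i p hpU hpN
    apply isUn_germ_of_mem (⟨hpU, hpN⟩ : p ∈ U ⊓ φ.left ⁻¹ᵁ i.N)
    have h1 : nv B.π.left (rs B.π.left (inf_le_right : U ⊓ φ.left ⁻¹ᵁ i.N ≤ φ.left ⁻¹ᵁ i.N) i.f) =
        Z.left.basicOpen (c i) := by
      rw [hc i]
      have h2 := nv_adm (n := 1) (atl B.atlas) ((adm_of_mem hy).restrict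
        (inf_le_left : U ⊓ φ.left ⁻¹ᵁ i.N ≤ U)) (c i)
      rwa [pow_one] at h2
    have h3 : p ∈ (Z.left.basicOpen (c i) : Set Z.left) := by
      rw [← h1, nv_rs]
      exact ⟨i.hf.nv hpN, hpU, hpN⟩
    exact h3
  have hneZ' : ∀ N : M.left.Opens, (N : Set M.left).Nonempty → Nonempty (φ.left ⁻¹ᵁ N : Z.left.Opens) := by
    rintro N ⟨y, hy⟩
    exact hneZ N ⟨⟨y, hy⟩⟩
  have hrel : ∀ i : Fr φ B, C i = ff φ.left hgen (H i) * C i₁ := by
    intro i
    have := hne1 i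
    have := hneZ _ (hne1 i)
    let W : Z.left.Opens := U ⊓ φ.left ⁻¹ᵁ (i.N ⊓ i₁.N)
    have hneW : Nonempty W := by
      obtain ⟨z⟩ := hneZ _ (hne1 i)
      obtain ⟨z', hz'⟩ := nonempty_preirreducible_inter U.2 (φ.left ⁻¹ᵁ (i.N ⊓ i₁.N)).2 hUne ⟨z.1, z.2⟩
      exact ⟨⟨z', hz'⟩⟩
    have w1 : W ≤ U ⊓ φ.left ⁻¹ᵁ i.N := fun z hz => ⟨hz.1, hz.2.1⟩
    have w2 : W ≤ U ⊓ φ.left ⁻¹ᵁ i₁.N := fun z hz => ⟨hz.1, hz.2.2⟩
    have w3 : W ≤ φ.left ⁻¹ᵁ (i.N ⊓ i₁.N) := fun z hz => hz.2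
    have w4 : W ≤ U := fun z hz => hz.1
    have key : rsec w1 (c i) = rsec w3 (φ.left.app _ (h i)) * rsec w2 (c i₁) := by
      have e1 := congrArg (rs B.π.left w1) (hc i)
      have e2 := congrArg (rs B.π.left w2) (hc i₁)
      have e3 := congrArg (rs B.π.left w3) (hh i)
      rw [rs_rs, rs_mul, rs_app, rs_rs] at e1 e2
      rw [rs_rs, rs_mul, rs_app, rs_rs, e1, e2, ← _root_.mul_assoc, ← map_mul] at e3
      have hadm := (adm_of_mem hy).restrict w4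
      have := IsCoord.mul_pow_injective ((atl B.atlas).adm_coord hadm) 1 (c := rsec w1 (c i))
        (c' := rsec w3 (φ.left.app _ (h i)) * rsec w2 (c i₁)) (by rw [pow_one]; exact e3)
      exact this
    change Z.left.germToFunctionField (U ⊓ φ.left ⁻¹ᵁ i.N) (c i) =
      ff φ.left hgen (M.left.germToFunctionField (i.N ⊓ i₁.N) (h i)) *
        Z.left.germToFunctionField (U ⊓ φ.left ⁻¹ᵁ i₁.N) (c i₁)
    rw [ff_germ, ← germ_rsec w1, ← germ_rsec w2, ← germ_rsec w3, ← map_mul]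
    exact congrArg _ key
  have hC1 : C i₁ ≠ 0 := by
    obtain ⟨⟨z, hz⟩⟩ := hcne i₁
    exact (hCun i₁ z hz.1 hz.2).ne_zero
  have hffr : ff φ.left hgen r ≠ 0 := (map_ne_zero (ff φ.left hgen).hom).2 hr
  -- the corrected coefficient
  have hxun : IsUn x (ff φ.left hgen r * C i₁) := by
    have := hUZ x
    refine isUn_of_forall (mul_ne_zero hffr hC1) fun ϖ hϖ => ?_
    obtain ⟨i, hi⟩ := hZ x ϖ hϖ
    have h1 := hr' i _ hi ((pp_specializes hϖ).map φ.left.continuous)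
    have h2 := isUn_ff φ.left hgen h1
    have h3 := hCun i (pp hϖ) ((pp_specializes hϖ).mem_open U.2 hxU) hi
    have e : ff φ.left hgen r * C i₁ = ff φ.left hgen (r / H i) * C i := by
      rw [hrel i, ← _root_.mul_assoc, ← map_mul, div_mul_cancel₀ _ (hH i)]
    rw [e]
    exact h2.mul h3
  obtain ⟨U', hU'U, hxU', hneU', w, hw, hwc⟩ := exists_section_of_isUn hxun U hxU
  obtain ⟨Or, -, rt, hneOr, hrt, hrtu⟩ := exists_isUnit_germ_eq M.left r hr
  have := hneZ Or hneOr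
  let W₁ : Z.left.Opens := U' ⊓ φ.left ⁻¹ᵁ (i₁.N ⊓ Or)
  have hneW₁ : Nonempty W₁ := by
    obtain ⟨o⟩ := hneOr
    obtain ⟨z⟩ := hneZ _ (hneM i₁.N Or i₁.ne ⟨o.1, o.2⟩)
    obtain ⟨z', hz'⟩ := nonempty_preirreducible_inter U'.2 (φ.left ⁻¹ᵁ (i₁.N ⊓ Or)).2 ⟨x, hxU'⟩ ⟨z.1, z.2⟩
    exact ⟨⟨z', hz'⟩⟩
  have w1 : W₁ ≤ U' := fun z hz => hz.1
  have w2 : W₁ ≤ φ.left ⁻¹ᵁ i₁.N := fun z hz => hz.2.1
  have w3 : W₁ ≤ φ.left ⁻¹ᵁ Or := fun z hz => hz.2.2
  have hwr : rsec w1 w = rsec w3 (φ.left.app Or rt) * rsec (le_inf (w1.trans hU'U) w2) (c i₁) := by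
    apply Z.left.germToFunctionField_injective W₁
    rw [map_mul, germ_rsec w1, germ_rsec w3, germ_rsec (le_inf (w1.trans hU'U) w2), hwc, ← hrt, ff_germ]
  refine ⟨U', _, hxU', isFrame_of_generic i₁.hf hy (hc i₁) (r := φ.left.app Or rt) ?_ hU'U hw W₁ w1 w2 w3 hwr⟩
  intro P h1 h2
  have l1 : P ≤ (a.act.left ≫ φ.left) ⁻¹ᵁ Or := h1
  have l2 : P ≤ ((snd G Z).left ≫ φ.left) ⁻¹ᵁ Or := h2
  rw [app_appLE _ _ _ l1, app_appLE _ _ _ l2]
  exact appLE_hom_congr hq.inv.left l1 l2 rt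

end K676.Forward
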