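import Groth.Agent.GLinSh.K676.UnAt
import Groth.Agent.QGor.K66.FlatOff
import Mathlib.RingTheory.Ideal.KrullsHeightTheorem

/-!
# The points attached to prime elements: codimension, and prime elements over a point of the target
-/

set_option autoImplicit false
universe u
open CategoryTheory AlgebraicGeometry TopologicalSpace
open Groth.Agent.CycB.LocQuot K676.UnAt

namespace K676.PrimePt

theorem isLocalization_sp {X : Scheme.{u}} {x ξ : X} (h : ξ ⤳ x) :
    letI := (X.presheaf.stalkSpecializes h).hom.toAlgebra
    IsLocalization.AtPrime (X.presheaf.stalk ξ) (primeOf h).asIdeal := by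
  letI := (X.presheaf.stalkSpecializes h).hom.toAlgebra
  have h1 : IsLocalization.AtPrime (X.presheaf.stalk ξ) (RingHom.ker (Cyc.specMap x ξ h)) :=
    isLocalization_stalkSpecializes h
  have h2 := primeOf_asIdeal h
  change IsLocalization _ _
  have h3 : (primeOf h).asIdeal.primeCompl = (RingHom.ker (Cyc.specMap x ξ h)).primeCompl := by
    ext a
    change a ∉ (primeOf h).asIdeal ↔ a ∉ RingHom.ker (Cyc.specMap x ξ h)
    rw [h2]
  rw [h3]
  exact h1

theorem dim_pp {X : Scheme.{u}} [IsIntegral X] [IsLocallyNoetherian X] {x : X} {ϖ : X.presheaf.stalk x}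
    (hϖ : Prime ϖ) : ringKrullDim (X.presheaf.stalk (pp hϖ)) ≤ 1 := by
  have h := pp_specializes hϖ
  letI := (X.presheaf.stalkSpecializes h).hom.toAlgebra
  have hloc : IsLocalization.AtPrime (X.presheaf.stalk (pp hϖ)) (primeOf h).asIdeal :=
    isLocalization_sp h
  rw [IsLocalization.AtPrime.ringKrullDim_eq_height (primeOf h).asIdeal]
  have h1 : (primeOf h).asIdeal.height ≤ 1 := by
    apply Ideal.height_le_one_of_isPrincipal_of_mem_minimalPrimes (Ideal.span {ϖ})
    rw [primeOf_pp]
    have : (Ideal.span {ϖ}).IsPrime := (Ideal.span_singleton_prime hϖ.ne_zero).2 hϖ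
    rw [Ideal.minimalPrimes_eq_subsingleton_self]
    rfl
  exact_mod_cast h1

theorem maximalIdeal_pp {X : Scheme.{u}} [IsIntegral X] {x : X} {ϖ : X.presheaf.stalk x} (hϖ : Prime ϖ) :
    IsLocalRing.maximalIdeal (X.presheaf.stalk (pp hϖ)) =
      Ideal.span {X.presheaf.stalkSpecializes (pp_specializes hϖ) ϖ} := by
  have h := pp_specializes hϖ
  letI := (X.presheaf.stalkSpecializes h).hom.toAlgebra
  have hloc : IsLocalization.AtPrime (X.presheaf.stalk (pp hϖ)) (primeOf h).asIdeal :=
    isLocalization_sp h
  have h1 := IsLocalization.AtPrime.map_eq_maximalIdeal (primeOf h).asIdeal (X.presheaf.stalk (pp hϖ))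
  rw [primeOf_pp, Ideal.map_span, Set.image_singleton] at h1
  exact h1.symm

theorem sp_injective {X : Scheme.{u}} [IsIntegral X] {x ξ : X} (h : ξ ⤳ x) :
    Function.Injective (X.presheaf.stalkSpecializes h) := by
  intro a b hab
  apply IsFractionRing.injective (X.presheaf.stalk x) X.functionField
  rw [← algebraMap_sp h, ← algebraMap_sp h, hab]

section Map

variable {Z M : Scheme.{u}} [IsIntegral Z] [IsIntegral M] (f : Z ⟶ M)

theorem ff_alg (hf : f (genericPoint Z) = genericPoint M) (p : Z) (u : M.presheaf.stalk (f p)) :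
    ff f hf (algebraMap (M.presheaf.stalk (f p)) M.functionField u) =
      algebraMap (Z.presheaf.stalk p) Z.functionField (f.stalkMap p u) := by
  have hg : genericPoint Z ⤳ p := (genericPoint_spec Z).specializes trivial
  have h1 := Scheme.Hom.stalkSpecializes_stalkMap f (genericPoint Z) p hg
  have h2 := congrArg (fun g => g.hom u) h1
  change _ = (Z.presheaf.stalkSpecializes hg) (f.stalkMap p u)
  refine Eq.trans ?_ h2
  change (f.stalkMap (genericPoint Z)) (M.presheaf.stalkSpecializes _ _) =
    (f.stalkMap (genericPoint Z)) (M.presheaf.stalkSpecializes _ u)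
  have h3 : (M.presheaf.stalkSpecializes ((genericPoint_spec M).specializes trivial : genericPoint M ⤳ f p)) ≫
      M.presheaf.stalkSpecializes (specializes_of_eq hf) = M.presheaf.stalkSpecializes (hg.map f.continuous) := by
    rw [TopCat.Presheaf.stalkSpecializes_comp]
  rw [← h3]
  rfl

theorem stalkMap_injective (hf : f (genericPoint Z) = genericPoint M) (p : Z) :
    Function.Injective (f.stalkMap p) := by
  intro a b hab
  apply IsFractionRing.injective (M.presheaf.stalk (f p)) M.functionField
  apply (ff f hf).hom.injective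
  have h1 := ff_alg f hf p a
  have h2 := ff_alg f hf p b
  exact h1.trans ((congrArg _ hab).trans h2.symm)

/-- a non-zero element of the maximal ideal of a local ring of `M` vanishes at a prime element point over it -/
theorem exists_pp_of_mem (hf : f (genericPoint Z) = genericPoint M)
    (hU : ∀ z : Z, UniqueFactorizationMonoid (Z.presheaf.stalk z)) (z : Z)
    (w : M.presheaf.stalk (f z)) (hw0 : w ≠ 0) (hw : w ∈ IsLocalRing.maximalIdeal (M.presheaf.stalk (f z))) :
    ∃ (π : Z.presheaf.stalk z) (hπ : Prime π),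
      w ∈ (primeOf ((pp_specializes hπ).map f.continuous)).asIdeal := by
  have h1 : f.stalkMap z w ≠ 0 := by
    intro h
    exact hw0 (stalkMap_injective f hf z (h.trans (map_zero _).symm))
  have h2 : ¬ IsUnit (f.stalkMap z w) := by
    intro h
    have h3 : IsUnit w := isUnit_of_map_unit (f.stalkMap z).hom w h
    exact (IsLocalRing.mem_maximalIdeal _).1 hw h3
  have := hU z
  obtain ⟨π, hπ, hd⟩ := WfDvdMonoid.exists_irreducible_factor h2 h1
  refine ⟨π, hπ.prime, ?_⟩
  rw [← K66.FlatOff.comap_primeOf f (pp_specializes hπ.prime), primeOf_pp, Ideal.mem_comap,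
    Ideal.mem_span_singleton]
  exact hd

/-- a height one point of the target, whose maximal ideal is principal, is the image of a prime element point -/
theorem exists_pp_over (hf : f (genericPoint Z) = genericPoint M) (hs : Function.Surjective f)
    (hU : ∀ z : Z, UniqueFactorizationMonoid (Z.presheaf.stalk z)) (p : M) (ϖ : M.presheaf.stalk p)
    (hm : IsLocalRing.maximalIdeal (M.presheaf.stalk p) = Ideal.span {ϖ}) (h0 : ϖ ≠ 0) :
    ∃ (z : Z) (π : Z.presheaf.stalk z) (hπ : Prime π), f (pp hπ) = p := by
  obtain ⟨z, rfl⟩ := hs p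
  obtain ⟨π, hπ, h1⟩ := exists_pp_of_mem f hf hU z ϖ h0 (by rw [hm]; exact Ideal.mem_span_singleton_self ϖ)
  refine ⟨z, π, hπ, ?_⟩
  have h2 : IsLocalRing.maximalIdeal (M.presheaf.stalk (f z)) ≤
      (primeOf ((pp_specializes hπ).map f.continuous)).asIdeal := by
    rw [hm, Ideal.span_singleton_le_iff_mem]
    exact h1
  have h3 : primeOf ((pp_specializes hπ).map f.continuous) = primeOf (specializes_refl (f z)) := by
    rw [primeOf_refl]
    apply PrimeSpectrum.ext
    exact le_antisymm (IsLocalRing.le_maximalIdeal (primeOf _).2.ne_top) h2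
  exact (primeOf_inj _ _).1 h3

theorem exists_pp_over_pp (hf : f (genericPoint Z) = genericPoint M) (hs : Function.Surjective f)
    (hU : ∀ z : Z, UniqueFactorizationMonoid (Z.presheaf.stalk z)) {y : M} {ϖ : M.presheaf.stalk y}
    (hϖ : Prime ϖ) : ∃ (z : Z) (π : Z.presheaf.stalk z) (hπ : Prime π), f (pp hπ) = pp hϖ :=
  exists_pp_over f hf hs hU (pp hϖ) _ (maximalIdeal_pp hϖ) (by
    intro h
    exact hϖ.ne_zero (sp_injective _ (h.trans (map_zero _).symm)))

end Map

end K676.PrimePt
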