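import Groth.Agent.S1535
import Groth.Agent.S2821
import Groth.Agent.S8082
import Groth.Agent.Sga3B.AlgBc2
import Groth.Agent.Sga3B.CellDim
import Groth.Agent.GIT.K686.HaarRed
import Groth.Agent.Etcore.SmoothRed
import Groth.Agent.Fdesc.GeomAlgClosed
import Groth.Agent.Flat2B.SmoothGeom
import Groth.Agent.Books.AffBridge

/-!
# Standing facts for a connected reductive group acting on a smooth integral scheme
-/

set_option autoImplicit false
universe u
open CategoryTheory MonoidalCategory CartesianMonoidalCategory MonObj AlgebraicGeometry Topology Limits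
open Groth.Agent.Books.AffBridge

namespace K676.Setup

variable {k : Type u} [Field k] [IsAlgClosed k]

theorem isIntegral_tensor (X Y : Over (Spec (CommRingCat.of k))) [IsIntegral X.left]
    [Smooth X.hom] [IsIntegral Y.left] [Smooth Y.hom] : IsIntegral (X ⊗ Y).left := by
  have := Groth.Agent.Fdesc.GeomAlgClosed.geometricallyIrreducible_of_irreducibleSpace X.hom
  have := Groth.Agent.Flat2B.SmoothGeom.geometricallyIntegral_of_smooth X.hom
  have : IsLocallyNoetherian Y.left := LocallyOfFiniteType.isLocallyNoetherian Y.hom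
  change IsIntegral (pullback X.hom Y.hom)
  infer_instance

omit [IsAlgClosed k] in
theorem ufd_stalk (X : Over (Spec (CommRingCat.of k))) [Smooth X.hom] (x : X.left) :
    IsDomain (X.left.presheaf.stalk x) ∧ UniqueFactorizationMonoid (X.left.presheaf.stalk x) := by
  letI : X.left.Over (Spec (CommRingCat.of k)) := ⟨X.hom⟩
  have : Smooth (X.left ↘ Spec (CommRingCat.of k)) := inferInstanceAs (Smooth X.hom)
  have := Groth.Agent.S1535.result k X.left x
  exact Groth.Agent.S2821.result (X.left.presheaf.stalk x)

theorem isDomain_of_iso {G : Over (Spec (CommRingCat.of k))} [IsIntegral G.left]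
    {A : Type u} [CommRing A] [Algebra k A] (e : SpecOver k A ≅ G) : IsDomain A := by
  have h1 : Nontrivial A := by
    by_contra h
    rw [not_nontrivial_iff_subsingleton] at h
    have h2 : IsEmpty (PrimeSpectrum A) := inferInstance
    obtain ⟨x⟩ := (inferInstance : Nonempty G.left)
    exact h2.false (e.inv.left x)
  have hne : Nonempty (SpecOver k A).left := inferInstanceAs (Nonempty (PrimeSpectrum A))
  have hi : IsIso e.hom.left := (inferInstance : IsIso ((Over.forget _).map e.hom))
  have h2 : IsIntegral (SpecOver k A).left := isIntegral_of_isOpenImmersion e.hom.left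
  have h3 : IsDomain Γ(Spec (CommRingCat.of A), ⊤) :=
    inferInstanceAs (IsDomain Γ((SpecOver k A).left, ⊤))
  exact (Scheme.ΓSpecIso (CommRingCat.of A)).symm.commRingCatIsoToRingEquiv.toMulEquiv.isDomain _

theorem exists_hopf [CharZero k] {G : Over (Spec (CommRingCat.of k))} [GrpObj G] (hG : Red.IsReductiveOver k G) :
    ∃ (A : Type u) (_ : CommRing A) (_ : HopfAlgebra k A) (e : SpecOver k A ≅ G), IsMonHom e.hom ∧
      Algebra.FiniteType k A ∧ HopfRep.IsLinearlyReductive k A ∧ IsDomain A := by
  have hr : Red.IsReductive G := Groth.Agent.Sga3B.AlgBc.isReductive_iff.2 hG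
  have h1 : Smooth G.hom := hG.2.1
  have h2 : ConnectedSpace G.left := hG.2.2.1
  have h3 : IsIntegral G.left := Groth.Agent.Sga3B.CellDim.isIntegral_of_connected_grp G
  obtain ⟨C, _, _, e, he, hft, hlr⟩ := K686.HaarRed.exists_hopf_lr (k := k)
    (fun A _ _ _ _ h => (Groth.Agent.S8082.result k A).1 h) hr
  exact ⟨C, _, _, e, he, hft, hlr, isDomain_of_iso e⟩

end K676.Setup
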