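import Groth.Agent.GLinSh.K676.Free
import Groth.Agent.GLinSh.K676.PrimePt
import Groth.Agent.GLinSh.K676.Setup

/-!
# Locally factorial quotient ⟹ the stabilisers act trivially on the fibres of the linearised line bundles
-/

set_option autoImplicit false
universe u
open CategoryTheory MonoidalCategory CartesianMonoidalCategory MonObj AlgebraicGeometry Topology Limits
open Groth.Agent.Books.BorelOrb Groth.Agent.Books.AffBridge K990.NRQuot K676.OrbBridge

namespace K676.ForwardMain

open K676.WtExt K676.Frame K676.FrameEx K676.Forward K676.UnAt K676.PrimePt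

theorem forward
    (k : Type u) [Field k] [IsAlgClosed k] [CharZero k]
    (G Z M : Over (Spec (CommRingCat.of k))) [GrpObj G] (hG : Red.IsReductiveOver k G)
    [Smooth Z.hom] [LocallyOfFiniteType Z.hom] [AlgebraicGeometry.IsIntegral Z.left]
    (a : AlgGrp.Action G Z) (φ : Z ⟶ M) (hq : NRQuot.IsGoodQuot a φ)
    (Z₀ : Over (Spec (CommRingCat.of k))) (j : Z₀ ⟶ Z) [IsOpenImmersion j.left]
    (a₀ : AlgGrp.Action G Z₀) (hj : a₀.act ≫ j = (G ◁ j) ≫ a.act)
    (hsat : Set.range j.left.base = φ.left.base ⁻¹' (φ.left.base '' Set.range j.left.base))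
    (hcodim : ∀ z : Z.left, z ∉ Set.range j.left.base → 2 ≤ ringKrullDim (Z.left.presheaf.stalk z))
    (hfree : IsClosedImmersion (GIT.psi a₀ (𝟙 Z₀)).left)
    (hM : ∀ y : M.left, ∃ (_ : IsDomain (M.left.presheaf.stalk y)), UniqueFactorizationMonoid (M.left.presheaf.stalk y))
    (B : GLinSh.LinBun G a) (z : 𝟙_ (Over (Spec (CommRingCat.of k))) ⟶ Z)
    (T : Over (Spec (CommRingCat.of k))) (g : T ⟶ G) (v : T ⟶ B.V)
    (h1 : lift g (toUnit T ≫ z) ≫ a.act = toUnit T ≫ z) (h2 : v ≫ B.π = toUnit T ≫ z) :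
    lift g v ≫ B.lift.act = v := by
  have : IsAffine G.left := hG.1
  have : Smooth G.hom := hG.2.1
  have : ConnectedSpace G.left := hG.2.2.1
  have : IsIntegral G.left := Groth.Agent.Sga3B.CellDim.isIntegral_of_connected_grp G
  have : IsIntegral (G ⊗ Z).left := K676.Setup.isIntegral_tensor G Z
  have : IsIntegral M.left := isIntegral_quot hq
  have : IsLocallyNoetherian Z.left := LocallyOfFiniteType.isLocallyNoetherian Z.hom
  obtain ⟨A, _, _, e, he, hft, hlr, hdA⟩ := K676.Setup.exists_hopf hG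
  have hUZ : ∀ z : Z.left, UniqueFactorizationMonoid (Z.left.presheaf.stalk z) := fun z =>
    (K676.Setup.ufd_stalk Z z).2
  have hUM : ∀ y : M.left, UniqueFactorizationMonoid (M.left.presheaf.stalk y) := fun y => (hM y).2
  have hgen := map_generic hq
  have hsurj : Function.Surjective φ.left := K990.NRQuot.IsGoodQuot.surjective hq
  have hfr : ∀ p₀ : Z₀.left, ∃ i : Fr φ B, φ.left (j.left p₀) ∈ i.N := fun p₀ =>
    K676.Free.exists_Fr e hlr hq B j hj hsat hfree p₀
  have hrange : ∀ (z : Z.left) (π : Z.left.presheaf.stalk z) (hπ : Prime π), pp hπ ∈ Set.range j.left := by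
    intro z π hπ
    by_contra h
    have h3 := hcodim _ h
    have h4 := h3.trans (dim_pp hπ)
    exact absurd h4 (by decide)
  have hZ : ∀ (z : Z.left) (π : Z.left.presheaf.stalk z) (hπ : Prime π), ∃ i : Fr φ B, φ.left (pp hπ) ∈ i.N := by
    intro z π hπ
    obtain ⟨p₀, hp₀⟩ := hrange z π hπ
    rw [← hp₀]
    exact hfr p₀
  have hMM : ∀ (y : M.left) (π : M.left.presheaf.stalk y) (hπ : Prime π), ∃ i : Fr φ B, pp hπ ∈ i.N := by
    intro y π hπ
    obtain ⟨z', π', hπ', h3⟩ := exists_pp_over_pp φ.left hgen hsurj hUZ hπ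
    rw [← h3]
    exact hZ z' π' hπ'
  -- a first frame
  have hgen0 : genericPoint Z.left ∈ Set.range j.left := by
    by_contra h
    have h3 := hcodim _ h
    have h4 : ringKrullDim (Z.left.presheaf.stalk (genericPoint Z.left)) = 0 :=
      ringKrullDim_eq_zero_of_field Z.left.functionField
    rw [h4] at h3
    exact absurd h3 (by decide)
  obtain ⟨p₁, hp₁⟩ := hgen0
  obtain ⟨i₁, -⟩ := hfr p₁
  obtain ⟨U, f, hU, hf⟩ := exists_frame_near hq hUZ hUM hMM hZ i₁ (pt z)
  have hr : Set.range z.left = {pt z} := by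
    apply Set.eq_singleton_iff_unique_mem.mpr
    refine ⟨⟨_, rfl⟩, ?_⟩
    rintro _ ⟨t, rfl⟩
    exact congrArg z.left (Subsingleton.elim (α := Spec (CommRingCat.of k)) _ _)
  exact IsFrame.stab_trivial hf z (by rw [hr]; exact Set.singleton_subset_iff.2 hU) (pt z) hr
    (toUnit T) g v h1 h2

end K676.ForwardMain
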