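import Groth.Agent.GLinSh.K676.WtExt
import Groth.Agent.GIT.K688.ActRes

/-!
# Invariant frames of a linearised line bundle over opens of the base

`IsFrame B O f`: `f` is a function of weight one over `O`, vanishing nowhere on `O` and invariant.
-/

set_option autoImplicit false

universe u

open CategoryTheory CategoryTheory.Limits MonoidalCategory CartesianMonoidalCategory MonObj AlgebraicGeometry
  TopologicalSpace Opposite

namespace K676.Frame

open K689.SchGlue K689.Coord K689.CoordUP K689.Weight K689.Ratio K689.ActBasic K689.LinBunBasic K689.PullBun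
open Groth.Agent.Books.BorelOrb K676.WtExt
open K688.ActRes (op inc)

theorem appLE_bijective {Y X : Scheme.{u}} (q : Y ⟶ X) [IsOpenImmersion q] (U : X.Opens) (W : Y.Opens)
    (hU : U ≤ q.opensRange) (h : W ≤ q ⁻¹ᵁ U) (h' : q ⁻¹ᵁ U ≤ W) : Function.Bijective (q.appLE U W h) := by
  obtain rfl : W = q ⁻¹ᵁ U := le_antisymm h h'
  rw [Scheme.Hom.appLE_eq_app]
  have := q.isIso_app U hU
  exact ConcreteCategory.bijective_of_isIso _

section Def

variable {S : Scheme.{u}} {G X : Over S} [GrpObj G] {a : AlgGrp.Action G X} (B : GLinSh.LinBun G a)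

/-- An invariant frame over the open `O`. -/
structure IsFrame (O : X.left.Opens) (f : Γ(B.V.left, B.π.left ⁻¹ᵁ O)) : Prop where
  wt : Wt B.π.left B.atlas.chart 1 O f
  nv : (O : Set X.left) ⊆ nv B.π.left f
  inv : ∀ (T : Over S) (g : T ⟶ G) (v : T ⟶ B.V) (h : ⊤ ≤ v.left ⁻¹ᵁ (B.π.left ⁻¹ᵁ O))
    (h' : ⊤ ≤ (sm B.lift g v).left ⁻¹ᵁ (B.π.left ⁻¹ᵁ O)),
    ev (sm B.lift g v).left h' f = ev v.left h f

variable {B}

theorem IsFrame.restrict {O O' : X.left.Opens} {f : Γ(B.V.left, B.π.left ⁻¹ᵁ O)} (hf : IsFrame B O f)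
    (h : O' ≤ O) : IsFrame B O' (rs B.π.left h f) where
  wt := hf.wt.restrict h
  nv := by
    rw [nv_rs]
    exact fun x hx => ⟨hf.nv (h hx), hx⟩
  inv := by
    intro T g v h1 h2
    rw [ev_rs, ev_rs]
    exact hf.inv T g v _ _

theorem sm_π {T : Over S} (g : T ⟶ G) (v : T ⟶ B.V) : sm B.lift g v ≫ B.π = sm a g (v ≫ B.π) := by
  rw [sm, sm, Category.assoc, B.lift_π, lift_whiskerLeft_assoc]

/-- If there is an invariant frame near a point then the stabiliser of the point acts trivially on the fibre. -/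
theorem IsFrame.stab_trivial {O : X.left.Opens} {f : Γ(B.V.left, B.π.left ⁻¹ᵁ O)} (hf : IsFrame B O f)
    {T T' : Over S} (z : T' ⟶ X) (hz : Set.range z.left ⊆ O) (x : X.left) (hx : Set.range z.left = {x})
    (t : T ⟶ T') (g : T ⟶ G) (v : T ⟶ B.V)
    (h1 : sm a g (t ≫ z) = t ≫ z) (h2 : v ≫ B.π = t ≫ z) : sm B.lift g v = v := by
  have hxO : x ∈ O := hz (by rw [hx]; rfl)
  obtain ⟨W, hWO, -, y, d, -, hxW, hy, hd, -, e⟩ := exists_adm_unit (atl B.atlas) hf.wt (hf.nv hxO) (O' := ⊤) trivial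
  have hzW : ⊤ ≤ (t ≫ z).left ⁻¹ᵁ W := by
    intro p _
    change (t ≫ z).left p ∈ W
    have : (t ≫ z).left p ∈ Set.range z.left := ⟨t.left p, by rw [Over.comp_left, Scheme.Hom.comp_apply]⟩
    rw [hx] at this
    rw [this]
    exact hxW
  have hvW : ⊤ ≤ v.left ⁻¹ᵁ (B.π.left ⁻¹ᵁ W) := by
    intro p _
    change (v ≫ B.π).left p ∈ W
    rw [h2]
    exact hzW trivial
  have hsp : sm B.lift g v ≫ B.π = t ≫ z := by rw [sm_π, h2, h1]
  have hgW : ⊤ ≤ (sm B.lift g v).left ⁻¹ᵁ (B.π.left ⁻¹ᵁ W) := by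
    intro p _
    change (sm B.lift g v ≫ B.π).left p ∈ W
    rw [hsp]
    exact hzW trivial
  have hvO : ⊤ ≤ v.left ⁻¹ᵁ (B.π.left ⁻¹ᵁ O) := hvW.trans (v.left.preimage_mono (B.π.left.preimage_mono hWO))
  have hgO : ⊤ ≤ (sm B.lift g v).left ⁻¹ᵁ (B.π.left ⁻¹ᵁ O) :=
    hgW.trans ((sm B.lift g v).left.preimage_mono (B.π.left.preimage_mono hWO))
  have h3 := hf.inv T g v hvO hgO
  rw [← ev_rs (p := B.π.left) _ hgW hWO, ← ev_rs (p := B.π.left) _ hvW hWO, e, pow_one, ev_mul, ev_mul,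
    ev_app (p := B.π.left) (sm B.lift g v).left hgW (t ≫ z).left (congrArg CommaMorphism.left hsp) hzW,
    ev_app (p := B.π.left) v.left hvW (t ≫ z).left (congrArg CommaMorphism.left h2) hzW] at h3
  have h4 := (hd.map ((t ≫ z).left.appLE W ⊤ hzW).hom).mul_left_cancel h3
  ext1
  refine ((atl B.atlas).adm_coord hy).hom_ext _ _ hgW hvW ?_ h4
  have h5 : (sm B.lift g v ≫ B.π).left = (v ≫ B.π).left := by rw [hsp, h2]
  exact h5

end Def

section Transport

variable {S : Scheme.{u}} {G X : Over S} [GrpObj G] {a : AlgGrp.Action G X} (B : GLinSh.LinBun G a)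
  (O : X.left.Opens) (a' : AlgGrp.Action G (op X O)) (he : a'.act ≫ inc X O = (G ◁ inc X O) ≫ a.act)

instance : IsOpenImmersion (pq (inc X O) B).left :=
  MorphismProperty.of_isPullback (isPullback_left (inc X O) B).flip inferInstance

theorem opensRange_pq : (pq (inc X O) B).left.opensRange = B.π.left ⁻¹ᵁ O := by
  apply le_antisymm
  · rintro _ ⟨p, rfl⟩
    change (pq (inc X O) B ≫ B.π).left p ∈ O
    rw [pullback.condition]
    exact ((pπ (inc X O) B).left p).2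
  · intro v hv
    obtain ⟨w, hw, -⟩ := exists_point (isPullback_left (inc X O) B) v ⟨B.π.left v, hv⟩ rfl
    exact ⟨w, hw⟩

theorem pre_eq (W : X.left.Opens) : (pπ (inc X O) B).left ⁻¹ᵁ ((inc X O).left ⁻¹ᵁ W) =
    (pq (inc X O) B).left ⁻¹ᵁ (B.π.left ⁻¹ᵁ W) := by
  have h := (isPullback_left (inc X O) B).w
  rw [← Scheme.Hom.comp_preimage, ← Scheme.Hom.comp_preimage, h]

/-- Invariant sections of weight one over the open `O`, in terms of the original total space. -/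
theorem exists_transport (f' : Γ((pull a' (inc X O) he B).V.left, ⊤))
    (hf' : (pull a' (inc X O) he B).IsInvSection 1 f') :
    ∃ f : Γ(B.V.left, B.π.left ⁻¹ᵁ O), Wt B.π.left B.atlas.chart 1 O f ∧
      (∀ (T : Over S) (g : T ⟶ G) (v : T ⟶ B.V) (h : ⊤ ≤ v.left ⁻¹ᵁ (B.π.left ⁻¹ᵁ O))
        (h' : ⊤ ≤ (sm B.lift g v).left ⁻¹ᵁ (B.π.left ⁻¹ᵁ O)),
        ev (sm B.lift g v).left h' f = ev v.left h f) ∧
      ∀ x : (op X O).left, (inc X O).left x ∈ nv B.π.left f ↔
        x ∈ GLinSh.nonvanishing (pull a' (inc X O) he B).π f' := by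
  let q : pV (inc X O) B ⟶ B.V := pq (inc X O) B
  let q' : pV (inc X O) B ⟶ op X O := pπ (inc X O) B
  have hR := opensRange_pq B O
  have hw : q.left ≫ B.π.left = q'.left ≫ (inc X O).left := (isPullback_left (inc X O) B).w
  have hT : ⊤ ≤ q.left ⁻¹ᵁ (B.π.left ⁻¹ᵁ O) := by
    intro v _
    have : q.left v ∈ q.left.opensRange := ⟨v, rfl⟩
    rw [hR] at this
    exact this
  obtain ⟨f, hf⟩ := (appLE_bijective q.left (B.π.left ⁻¹ᵁ O) ⊤ hR.ge hT le_top).2 f'
  refine ⟨f, ?_, ?_, ?_⟩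
  · rintro W hWO _ ⟨U₀, hU₀, y₀, hy₀, rfl⟩
    let U' : (op X O).left.Opens := (inc X O).left ⁻¹ᵁ W
    have hU'U₀ : U' ≤ (inc X O).left ⁻¹ᵁ U₀ := (inc X O).left.preimage_mono hU₀
    have hy' : q.left.appLE (B.π.left ⁻¹ᵁ U₀) (q'.left ⁻¹ᵁ U') (ple (inc X O) B hU'U₀) y₀ ∈
        (pull a' (inc X O) he B).atlas.chart U' := ⟨U₀, hU'U₀, y₀, hy₀, rfl⟩
    obtain ⟨c', hc'⟩ := hf'.1 U' _ hy'
    have hWr : W ≤ (inc X O).left.opensRange := by
      have : (inc X O).left.opensRange = O := Scheme.Opens.opensRange_ι O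
      rw [this]; exact hWO
    obtain ⟨c, hc⟩ := (appLE_bijective (inc X O).left W U' hWr le_rfl le_rfl).2 c'
    refine ⟨c, ?_⟩
    have hpre : q'.left ⁻¹ᵁ U' = q.left ⁻¹ᵁ (B.π.left ⁻¹ᵁ W) := pre_eq B O W
    have hWr' : B.π.left ⁻¹ᵁ W ≤ q.left.opensRange := by
      rw [hR]; exact B.π.left.preimage_mono hWO
    apply (appLE_bijective q.left (B.π.left ⁻¹ᵁ W) (q'.left ⁻¹ᵁ U') hWr' hpre.le hpre.ge).1
    have l1 : q'.left ⁻¹ᵁ U' ≤ q.left ⁻¹ᵁ (B.π.left ⁻¹ᵁ O) := fun v _ => hT trivial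
    have l2 : q'.left ⁻¹ᵁ U' ≤ q.left ⁻¹ᵁ (B.π.left ⁻¹ᵁ U₀) := ple (inc X O) B hU'U₀
    rw [map_mul, map_pow]
    have k1 : q.left.appLE (B.π.left ⁻¹ᵁ W) (q'.left ⁻¹ᵁ U') hpre.le (rs B.π.left hWO f) =
        GLinSh.resTop (pull a' (inc X O) he B).π U' f' := by
      rw [← hf]
      refine (appLE_rsec _ _ _ l1 _).trans ?_
      exact (rsec_appLE q.left le_top hT l1 f).symm
    have k2 : q.left.appLE (B.π.left ⁻¹ᵁ W) (q'.left ⁻¹ᵁ U') hpre.le (rs B.π.left hU₀ y₀) =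
        q.left.appLE (B.π.left ⁻¹ᵁ U₀) (q'.left ⁻¹ᵁ U') (ple (inc X O) B hU'U₀) y₀ :=
      appLE_rsec _ _ _ l2 _
    have k3 : q.left.appLE (B.π.left ⁻¹ᵁ W) (q'.left ⁻¹ᵁ U') hpre.le (B.π.left.app W c) =
        q'.left.app U' c' := by
      have l3 : q'.left ⁻¹ᵁ U' ≤ (q.left ≫ B.π.left) ⁻¹ᵁ W := hpre.le
      have l4 : q'.left ⁻¹ᵁ U' ≤ (q'.left ≫ (inc X O).left) ⁻¹ᵁ W := le_rfl
      rw [app_appLE _ _ _ l3, appLE_hom_congr hw l3 l4]
      have h1 := appLE_appLE q'.left (inc X O).left (le_refl U') (le_refl (q'.left ⁻¹ᵁ U')) l4 c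
      rw [← h1, appLE_self_app, hc]
    rw [k1, k2, k3]
    exact hc'
  · intro T g v h h'
    have hr : Set.range (v ≫ B.π).left ⊆ Set.range (inc X O).left := by
      have : Set.range (inc X O).left = O := Scheme.Opens.range_ι O
      rw [this]
      rintro _ ⟨t, rfl⟩
      exact h trivial
    let x' : T ⟶ op X O := Over.homMk (IsOpenImmersion.lift (inc X O).left (v ≫ B.π).left hr) (by
      have h1 : (op X O).hom = (inc X O).left ≫ X.hom := rfl
      rw [h1, ← Category.assoc, IsOpenImmersion.lift_fac, Over.w])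
    have hx' : x' ≫ inc X O = v ≫ B.π := by
      ext1
      exact IsOpenImmersion.lift_fac _ _ _
    let v' : T ⟶ pV (inc X O) B := pullback.lift v x' hx'.symm
    have hv' : v' ≫ q = v := pullback.lift_fst _ _ _
    have hgv : sm (plift a' (inc X O) he B) g v' ≫ q = sm B.lift g v := by
      change (lift g v' ≫ pact a' (inc X O) he B) ≫ q = _
      rw [Category.assoc, pact_q, lift_whiskerLeft_assoc, hv']
      rfl
    have key : ∀ (w : T ⟶ pV (inc X O) B) (w₀ : T ⟶ B.V) (_ : w ≫ q = w₀)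
        (hw₀ : ⊤ ≤ w₀.left ⁻¹ᵁ (B.π.left ⁻¹ᵁ O)), ev w₀.left hw₀ f = w.left.appTop f' := by
      rintro w _ rfl hw₀
      have h1 := appLE_appLE w.left q.left hT (le_top : ⊤ ≤ w.left ⁻¹ᵁ ⊤) hw₀ f
      rw [hf] at h1
      refine h1.symm.trans ?_
      have h2 : w.left.appLE ⊤ ⊤ le_top = w.left.appTop := Scheme.Hom.appLE_eq_app _
      rw [h2]
    rw [key _ _ hgv, key _ _ hv']
    have h3 : (sm (plift a' (inc X O) he B) g v').left.appTop f' =
        (lift g v').left.appTop ((plift a' (inc X O) he B).act.left.appTop f') := by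
      rw [sm, Over.comp_left, Scheme.Hom.comp_appTop]
      rfl
    have h4 : (lift g v').left.appTop ((snd G (pV (inc X O) B)).left.appTop f') =
        (lift g v' ≫ snd G (pV (inc X O) B)).left.appTop f' := by
      rw [Over.comp_left, Scheme.Hom.comp_appTop]
      rfl
    have h5 : (plift a' (inc X O) he B).act.left.appTop f' = (snd G (pV (inc X O) B)).left.appTop f' := hf'.2
    rw [h3, h5, h4, lift_snd]
  · intro x
    have hb : q.left ⁻¹ᵁ B.V.left.basicOpen f = (pV (inc X O) B).left.basicOpen f' := by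
      have h1 := Scheme.basicOpen_appLE q.left ⊤ (B.π.left ⁻¹ᵁ O) hT f
      rw [hf, top_inf_eq] at h1
      exact h1.symm
    constructor
    · rintro ⟨w, hw1, hw2⟩
      have hwR : w ∈ q.left.opensRange := by rw [hR]; exact B.V.left.basicOpen_le f hw1
      obtain ⟨w', rfl⟩ := hwR
      refine ⟨w', ?_, ?_⟩
      · have : w' ∈ q.left ⁻¹ᵁ B.V.left.basicOpen f := hw1
        rw [hb] at this
        exact this
      · apply (inc X O).left.isOpenEmbedding.injective
        rw [← hw2, ← Scheme.Hom.comp_apply]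
        change _ = (q.left ≫ B.π.left) w'
        rw [hw]
        rfl
    · rintro ⟨w', hw1, rfl⟩
      refine ⟨q.left w', ?_, ?_⟩
      · have : w' ∈ (pV (inc X O) B).left.basicOpen f' := hw1
        rw [← hb] at this
        exact this
      · change (q.left ≫ B.π.left) w' = _
        rw [hw]
        rfl

end Transport

end K676.Frame
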