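import Groth.Agent.GLin.K765.Coinv

/-!
# Invariant elements of a module of semi-invariants over a closed orbit with trivially acting stabiliser

`C₁ ⊆ C` a sub-comodule stable under multiplication by `R`, `v` a point of `C` over a point `x` of `R` with
closed orbit, the stabiliser of `x` fixing `v` on `C₁`; if some element of `C₁` does not vanish at `v`, then
there is an invariant element of `C₁` with value `1` at `v`.
-/

set_option autoImplicit false

universe u v w w'

open TensorProduct HopfRep GLin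

namespace K676.FrameAlg

open Groth.Agent.Books Groth.Agent.Books.ComodBasic Groth.Agent.Books.ComodHom
open Groth.Agent.Books.ComodInv K765.Basic K765.Coinv K690.Orbits

variable {k : Type u} [Field k] [IsAlgClosed k] {A : Type u} [CommRing A] [IsDomain A]
  [HopfAlgebra k A] [Algebra.FiniteType k A]
variable {R : Type u} [CommRing R] [Algebra k R] [Comod k A R] [IsCoactAlg k A R]
variable {C : Type u} [CommRing C] [Algebra k C] [Comod k A C] [IsCoactAlg k A C]

omit [IsAlgClosed k] [IsDomain A] [Algebra.FiniteType k A] in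
/-- Vanishing on a subcomodule is preserved by moving the point. -/
theorem actPt_eq_zero {C₁ : Submodule k C} (hC₁ : IsSubcomod (k := k) (A := A) C₁) {w : C →ₐ[k] k}
    (hw : ∀ c ∈ C₁, w c = 0) (g : A →ₐ[k] k) {c : C} (hc : c ∈ C₁) : actPt k g w c = 0 := by
  have h1 : orbitHom k A w c = 0 := by
    rw [orbitHom_apply]
    obtain ⟨z, hz⟩ := hC₁ c hc
    rw [← hz, ← LinearMap.comp_apply (w.toLinearMap.rTensor A), ← LinearMap.rTensor_comp]
    have h2 : w.toLinearMap ∘ₗ C₁.subtype = 0 := by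
      ext c
      exact hw c.1 c.2
    rw [h2, LinearMap.rTensor_zero, LinearMap.zero_apply, map_zero]
  rw [actPt, AlgHom.comp_apply, h1, map_zero]

omit [IsAlgClosed k] [IsDomain A] [Algebra.FiniteType k A] in
theorem comul_orbitHom_sub_mem {C₁ : Submodule k C} (hC₁ : IsSubcomod (k := k) (A := A) C₁)
    {v : C →ₐ[k] k} (J : Ideal A)
    (hst : ∀ c ∈ C₁, orbitHom k A v c - algebraMap k A (v c) ∈ J) {c : C} (hc : c ∈ C₁) :
    Coalgebra.comul (R := k) (orbitHom k A v c) - 1 ⊗ₜ[k] orbitHom k A v c ∈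
      J.map (Algebra.TensorProduct.includeLeft : A →ₐ[k] A ⊗[k] A) := by
  have h1 : Coalgebra.comul (R := k) (orbitHom k A v c) =
      (orbitHom k A v).toLinearMap.rTensor A (Comod.coact (k := k) (A := A) c) :=
    isComodHom_orbitHom v c
  have h2 := orbitHom_apply (k := k) (A := A) v c
  rw [h1, h2]
  obtain ⟨z, hz⟩ := hC₁ c hc
  rw [← hz]
  clear hz h1 h2 hc
  induction z using TensorProduct.induction_on with
  | zero => simp
  | tmul c a =>
    have h3 : (orbitHom k A v).toLinearMap.rTensor A (C₁.subtype.rTensor A (c ⊗ₜ[k] a)) -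
        1 ⊗ₜ[k] (TensorProduct.lid k A) (v.toLinearMap.rTensor A (C₁.subtype.rTensor A (c ⊗ₜ[k] a))) =
        (1 ⊗ₜ[k] a) * (Algebra.TensorProduct.includeLeft : A →ₐ[k] A ⊗[k] A)
          (orbitHom k A v c.1 - algebraMap k A (v c.1)) := by
      simp only [LinearMap.rTensor_tmul, Submodule.subtype_apply, AlgHom.toLinearMap_apply,
        TensorProduct.lid_tmul, map_sub, Algebra.TensorProduct.includeLeft_apply, mul_sub,
        Algebra.TensorProduct.tmul_mul_tmul, one_mul, mul_one, AlgHom.commutes,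
        Algebra.TensorProduct.algebraMap_apply]
      congr 1
      rw [Algebra.algebraMap_eq_smul_one, TensorProduct.smul_tmul]
    rw [h3]
    exact Ideal.mul_mem_left _ _ (Ideal.mem_map_of_mem _ (hst c.1 c.2))
  | add y z hy hz =>
    simp only [map_add, TensorProduct.tmul_add]
    have h4 := Ideal.add_mem _ hy hz
    convert h4 using 1
    ring

theorem exists_invariant_of_stab (hG : IsLinearlyReductive k A) {φ : R →ₐ[k] C} (hφ : IsEquiv A φ)
    (C₁ : Submodule k C) (hC₁ : IsSubcomod (k := k) (A := A) C₁)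
    (hR : ∀ (r : R), ∀ c ∈ C₁, φ r * c ∈ C₁) {v : C →ₐ[k] k}
    (hx : IsClosedOrbit k A (v.comp φ))
    (hst : ∀ c ∈ C₁, orbitHom k A v c - algebraMap k A (v c) ∈ stabIdeal k A (v.comp φ))
    (hne : ∃ c ∈ C₁, v c ≠ 0) : ∃ f ∈ C₁, f ∈ fixedPts k A C ∧ v f = 1 := by
  have hff := K765.OrbFlat.faithfullyFlat_of_isClosedOrbit (A := A) hx
  let B := (orbitHom k A (v.comp φ)).range
  have hB : ∀ c ∈ C₁, orbitHom k A v c ∈ B := fun c hc =>
    mem_range_of_comul_sub_mem hx (comul_orbitHom_sub_mem hC₁ _ hst hc)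
  let I : Ideal B :=
    { carrier := {b | ∃ c ∈ C₁, orbitHom k A v c = b.1}
      add_mem' := by
        rintro _ _ ⟨c, hc, h⟩ ⟨c', hc', h'⟩
        exact ⟨c + c', C₁.add_mem hc hc', by rw [map_add, h, h']; rfl⟩
      zero_mem' := ⟨0, C₁.zero_mem, by simp⟩
      smul_mem' := by
        rintro ⟨b, r, rfl⟩ x ⟨c, hc, h⟩
        refine ⟨φ r * c, hR r c hc, ?_⟩
        rw [map_mul, h]
        have h1 := congrArg (fun f => f r) (orbitHom_comp (A := A) hφ v)
        have h2 : orbitHom k A v (φ r) = orbitHom k A (v.comp φ) r := h1.symm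
        rw [h2]
        rfl }
  have hI : I = ⊤ := by
    by_contra hI
    have h1 : I.map (algebraMap B A) ≠ ⊤ := by
      intro h
      apply hI
      have h2 := Ideal.comap_map_eq_self_of_faithfullyFlat (B := A) I
      rw [h, Ideal.comap_top] at h2
      exact h2.symm
    obtain ⟨g, hg⟩ := exists_point_of_ne_top (k := k) _ h1
    have h3 : ∀ c ∈ C₁, actPt k g v c = 0 := by
      intro c hc
      have h4 : (⟨orbitHom k A v c, hB c hc⟩ : B) ∈ I := ⟨c, hc, rfl⟩
      exact (RingHom.mem_ker).1 (hg (Ideal.mem_map_of_mem (algebraMap B A) h4))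
    obtain ⟨c, hc, hvc⟩ := hne
    apply hvc
    have h5 := actPt_eq_zero (A := A) hC₁ h3 (invPt g) hc
    rw [actPt_invPt_actPt] at h5
    exact h5
  have h6 : (1 : B) ∈ I := by rw [hI]; trivial
  obtain ⟨c, hc, h7⟩ := h6
  let := subComod C₁ hC₁
  have h8 : IsComodHom k A ((orbitHom k A v).toLinearMap ∘ₗ C₁.subtype) :=
    IsComodHom.comp (isComodHom_orbitHom v) (isComodHom_subtype C₁ hC₁)
  have h9 : (1 : A) ∈ fixedPts k A A := one_mem_fixedPts
  obtain ⟨f, hf, hf1⟩ := exists_fixed_lift hG h8 h9 (v := (⟨c, hc⟩ : C₁)) h7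
  refine ⟨f.1, f.2, ?_, ?_⟩
  · exact IsComodHom.map_mem_fixedPts (isComodHom_subtype C₁ hC₁) hf
  · have h10 : orbitHom k A v f.1 = 1 := hf1
    rw [← counit_orbitHom (A := A) v f.1, h10, Bialgebra.counit_one]

end K676.FrameAlg
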