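import Groth.Agent.GLinSh.K676.FrameEx
import Groth.Agent.GLinSh.K676.Forward
import Groth.Prelude.Def_W4bk4git07Quot

/-!
# Invariant frames near the image of an invariant open on which the group acts freely
-/

set_option autoImplicit false
universe u
open CategoryTheory MonoidalCategory CartesianMonoidalCategory MonObj AlgebraicGeometry Topology Limits
open Groth.Agent.Books.BorelOrb Groth.Agent.Books.AffBridge K990.NRQuot K676.OrbBridge

namespace K676.Free

open K689.SchGlue K689.Coord K689.CoordUP K689.Weight K689.Ratio K689.ActBasic K689.LinBunBasic K689.PullBun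
open K676.WtExt K676.Frame K676.FrameEx K676.Forward

section Psi

variable {S : Scheme.{u}} {G X : Over S} [GrpObj G] (a : AlgGrp.Action G X)

/-- the orbit map of a section is the base change of `(σ, p₂)` -/
theorem isPullback_orbitMap (x : 𝟙_ (Over S) ⟶ X) :
    IsPullback (lift (𝟙 G) (toUnit G ≫ x)) (a.orbitMap x) (GIT.psi a (𝟙 X)) (lift (𝟙 X) (toUnit X ≫ x)) := by
  have hw : lift (𝟙 G) (toUnit G ≫ x) ≫ GIT.psi a (𝟙 X) = a.orbitMap x ≫ lift (𝟙 X) (toUnit X ≫ x) := by
    rw [GIT.psi, whiskerLeft_id, Category.id_comp]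
    ext1
    · simp [AlgGrp.Action.orbitMap]
    · simp
  refine ⟨⟨hw⟩, ⟨PullbackCone.IsLimit.mk _ (fun s => s.fst ≫ fst G X) ?_ ?_ ?_⟩⟩
  · intro s
    have h := congrArg (fun m => m ≫ snd X X) s.condition
    simp only [GIT.psi, whiskerLeft_id, Category.id_comp, Category.assoc, lift_snd] at h
    have h1 : s.snd ≫ toUnit X = toUnit _ := toUnit_unique _ _
    rw [reassoc_of% h1] at h
    ext1
    · simp
    · rw [Category.assoc, lift_snd, h, ← Category.assoc, toUnit_unique ((s.fst ≫ fst G X) ≫ toUnit G) (toUnit _)]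
  · intro s
    have h := congrArg (fun m => m ≫ snd X X) s.condition
    simp only [GIT.psi, whiskerLeft_id, Category.id_comp, Category.assoc, lift_snd] at h
    have h' := congrArg (fun m => m ≫ fst X X) s.condition
    simp only [GIT.psi, whiskerLeft_id, Category.id_comp, Category.assoc, lift_fst, Category.comp_id] at h'
    rw [comp_orbitMap, sm, ← h']
    have h1 : s.snd ≫ toUnit X = toUnit _ := toUnit_unique _ _
    rw [reassoc_of% h1] at h
    congr 1
    rw [← h]
    ext1 <;> simp
  · intro s m h1 h2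
    rw [← h1]
    simp

theorem free_eq_one (h : Mono (GIT.psi a (𝟙 X))) {T : Over S} (g : T ⟶ G) (x : T ⟶ X)
    (hg : sm a g x = x) : g = 1 := by
  have h1 : lift g x ≫ GIT.psi a (𝟙 X) = lift 1 x ≫ GIT.psi a (𝟙 X) := by
    rw [GIT.psi, whiskerLeft_id, Category.id_comp]
    ext1
    · simp only [Category.assoc, lift_fst]
      exact hg.trans (one_sm a x).symm
    · simp
  have h2 := congrArg (fun m => m ≫ fst G X) ((cancel_mono _).1 h1)
  simpa using h2

end Psi

variable {k : Type u} [Field k] [IsAlgClosed k] {G Z M Z₀ : Over (Spec (CommRingCat.of k))} [GrpObj G]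
  {a : AlgGrp.Action G Z} {φ : Z ⟶ M} {a₀ : AlgGrp.Action G Z₀}

omit [IsAlgClosed k] in
theorem isClosed_orb_of_psi (hfree : IsClosedImmersion (GIT.psi a₀ (𝟙 Z₀)).left)
    (z : 𝟙_ (Over (Spec (CommRingCat.of k))) ⟶ Z₀) : IsClosed (orb a₀ z) := by
  have h := (isPullback_orbitMap a₀ z).map (Over.forget _)
  have h2 : IsClosedImmersion (a₀.orbitMap z).left := MorphismProperty.of_isPullback h hfree
  exact (a₀.orbitMap z).left.isClosedEmbedding.isClosed_range

theorem exists_Fr [IsAffine G.left] [LocallyOfFiniteType G.hom] [LocallyOfFiniteType Z.hom] [IsIntegral Z.left]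
    {A : Type u} [CommRing A] [IsDomain A] [HopfAlgebra k A] [Algebra.FiniteType k A]
    (e : SpecOver k A ≅ G) [IsMonHom e.hom] (hG : HopfRep.IsLinearlyReductive k A)
    (hq : NRQuot.IsGoodQuot a φ) (B : GLinSh.LinBun G a)
    (j : Z₀ ⟶ Z) [IsOpenImmersion j.left] (hj : a₀.act ≫ j = (G ◁ j) ≫ a.act)
    (hsat : Set.range j.left.base = φ.left.base ⁻¹' (φ.left.base '' Set.range j.left.base))
    (hfree : IsClosedImmersion (GIT.psi a₀ (𝟙 Z₀)).left) (p₀ : Z₀.left) :
    ∃ i : Fr φ B, φ.left (j.left p₀) ∈ i.N := by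
  have hlft : LocallyOfFiniteType Z₀.hom := by
    rw [← Over.w j]
    infer_instance
  have hJ : JacobsonSpace Z₀.left := LocallyOfFiniteType.jacobsonSpace Z₀.hom
  obtain ⟨c, hc1, hc2⟩ := nonempty_inter_closedPoints (X := Z₀.left)
    (Z := closure {p₀}) ⟨p₀, subset_closure rfl⟩ isClosed_closure.isLocallyClosed
  obtain ⟨z₀, hz₀⟩ := exists_pt c hc2
  have hspec : p₀ ⤳ c := specializes_iff_mem_closure.2 hc1
  let z := z₀ ≫ j
  have hmono : Mono (GIT.psi a₀ (𝟙 Z₀)) := by
    have : Mono (GIT.psi a₀ (𝟙 Z₀)).left := inferInstance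
    exact Over.mono_of_mono_left _
  have hjm : Mono j := Over.mono_of_mono_left _
  have horb : orb a z = j.left '' orb a₀ z₀ := by
    have h1 : a₀.orbitMap z₀ ≫ j = a.orbitMap z := by
      rw [orbitMap_eq, orbitMap_eq, sm, sm, Category.assoc, hj, lift_whiskerLeft_assoc, Category.assoc]
    have h2 : (a.orbitMap z).left = (a₀.orbitMap z₀).left ≫ j.left := by rw [← h1]; rfl
    change Set.range (a.orbitMap z).left = j.left '' Set.range (a₀.orbitMap z₀).left
    rw [h2, ← Set.range_comp]
    rfl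
  have hcl : IsClosed (orb a z) := by
    have h1 := closure_orb_subset_fibre a hq.inv z
    have h2 : closure (orb a z) ⊆ Set.range j.left := by
      intro x hx
      have h3 : φ.left x = pt (z ≫ φ) := h1 hx
      have h4 : x ∈ φ.left.base ⁻¹' (φ.left.base '' Set.range j.left.base) := by
        refine ⟨pt z, ⟨pt z₀, (pt_comp z₀ j).symm⟩, ?_⟩
        exact (pt_comp z φ).symm.trans h3.symm
      rw [← hsat] at h4
      exact h4
    rw [← closure_subset_iff_isClosed]
    intro x hx
    obtain ⟨w, rfl⟩ := h2 hx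
    rw [horb] at hx ⊢
    have h5 : w ∈ j.left ⁻¹' closure (j.left '' orb a₀ z₀) := hx
    have hemb : IsEmbedding j.left := j.left.isOpenEmbedding.isEmbedding
    rw [← hemb.closure_eq_preimage_closure_image, (isClosed_orb_of_psi hfree z₀).closure_eq] at h5
    exact ⟨w, h5, rfl⟩
  obtain ⟨N, f, hN, hf⟩ := exists_frame e hG hq B z hcl (fun T g v h1 h2 => by
    have h3 : g = 1 := by
      apply free_eq_one a₀ hmono g (toUnit T ≫ z₀)
      rw [← cancel_mono j, sm, Category.assoc, hj, lift_whiskerLeft_assoc, Category.assoc]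
      exact h1
    rw [h3]
    exact one_sm B.lift v)
  have hmem : φ.left (j.left p₀) ∈ N := by
    have h1 : φ.left (j.left p₀) ⤳ φ.left (pt z) := by
      have h2 : pt z = j.left c := by rw [← hz₀]; exact pt_comp z₀ j
      rw [h2]
      exact (hspec.map j.left.continuous).map φ.left.continuous
    exact h1.mem_open N.2 hN
  exact ⟨⟨N, f, ⟨_, hN⟩, hf⟩, hmem⟩

end K676.Free
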