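import Groth.Agent.GLinSh.K676.BunOfDiv
import Groth.Agent.GLinSh.K676.PrimePt
import Groth.Agent.GLinSh.K676.Setup
import Groth.Agent.GLinSh.K676.Forward
import Groth.Agent.Ega1.ReducedSub
import Groth.Agent.FDesc.K108.GenFib
import Groth.Agent.S1684

/-!
# Prime divisors contained in the fibres of an invariant morphism are invariant Cartier divisors
-/

set_option autoImplicit false
universe u

open CategoryTheory MonoidalCategory CartesianMonoidalCategory MonObj AlgebraicGeometry Topology Limits

namespace K676.InvE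

open K689.ActBasic Groth.Agent.CycB.LocQuot K676.UnAt K676.PrimePt K676.BunOfDiv

section Gen

variable {X : Scheme.{u}}

/-- An ideal sheaf with reduced zero scheme is radical. -/
theorem radical_eq (I : X.IdealSheafData) [IsReduced I.subscheme] : I.radical = I := by
  apply Scheme.IdealSheafData.ext
  funext U
  change (I.ideal U).radical = I.ideal U
  have h1 : _root_.IsReduced Γ(I.subscheme, I.subschemeι ⁻¹ᵁ U.1) := IsReduced.component_reduced _
  have h2 : _root_.IsReduced (Γ(X, U.1) ⧸ I.ideal U) :=
    isReduced_of_injective (I.subschemeObjIso U).inv.hom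
      (ConcreteCategory.bijective_of_isIso (I.subschemeObjIso U).inv).1
  exact ((Ideal.isRadical_iff_quotient_reduced _).2 h2).radical

theorem eq_of_support_eq {I J : X.IdealSheafData} [IsReduced I.subscheme] [IsReduced J.subscheme]
    (h : (I.support : Set X) = J.support) : I = J := by
  rw [← radical_eq I, ← radical_eq J, ← Scheme.IdealSheafData.vanishingIdeal_support,
    ← Scheme.IdealSheafData.vanishingIdeal_support]
  congr 1
  exact TopologicalSpace.Closeds.ext h

theorem isReduced_comap_smooth (I : X.IdealSheafData) [IsReduced I.subscheme] {Y : Scheme.{u}} (f : Y ⟶ X) [Smooth f] :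
    IsReduced (I.comap f).subscheme := by
  have h1 : IsReduced (pullback f I.subschemeι) :=
    Groth.Agent.Etcore.SmoothRed.isReduced_of_smooth (pullback.snd f I.subschemeι)
  exact isReduced_of_isOpenImmersion (I.comapIso f).hom

theorem irreducibleSpace_subscheme (I : X.IdealSheafData) (h : IsIrreducible (I.support : Set X)) :
    IrreducibleSpace I.subscheme := by
  have h1 : IsIrreducible (Set.range I.subschemeι) := by rw [Scheme.IdealSheafData.range_subschemeι]; exact h
  have h2 := Subtype.irreducibleSpace h1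
  let e := I.subschemeι.isEmbedding.toHomeomorph
  have : Nonempty I.subscheme := ⟨e.symm ⟨_, h1.nonempty.some_mem⟩⟩
  exact e.isOpenEmbedding.irreducibleSpace

/-- The reduced closed subscheme on the closure of a point. -/
noncomputable def cl (e : X) : X.IdealSheafData := Scheme.IdealSheafData.vanishingIdeal ⟨closure {e}, isClosed_closure⟩

theorem support_cl (e : X) : ((cl e).support : Set X) = closure {e} := by
  rw [cl, Scheme.IdealSheafData.coe_support_vanishingIdeal]
  rfl

theorem mem_support_cl {e x : X} : x ∈ (cl e).support ↔ e ⤳ x := by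
  change x ∈ ((cl e).support : Set X) ↔ _
  rw [support_cl, specializes_iff_mem_closure]

instance isIntegral_cl (e : X) : IsIntegral (cl e).subscheme := by
  have h1 : IsReduced (cl e).subscheme := Groth.Agent.Ega1.ReducedSub.isReduced_subscheme_vanishingIdeal _
  have h2 := irreducibleSpace_subscheme (cl e) (by
    rw [support_cl]; exact isIrreducible_singleton.closure)
  exact isIntegral_of_irreducibleSpace_of_isReduced _

theorem generic_cl (e : X) : (cl e).subschemeι (genericPoint (cl e).subscheme) = e := by
  have h1 : e ⤳ (cl e).subschemeι (genericPoint (cl e).subscheme) := by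
    rw [← mem_support_cl]
    change _ ∈ ((cl e).support : Set X)
    rw [← Scheme.IdealSheafData.range_subschemeι]
    exact ⟨_, rfl⟩
  have h2 : e ∈ Set.range (cl e).subschemeι := by
    rw [Scheme.IdealSheafData.range_subschemeι, support_cl]
    exact subset_closure rfl
  obtain ⟨e', he'⟩ := h2
  have h4 : (cl e).subschemeι (genericPoint (cl e).subscheme) ⤳ (cl e).subschemeι e' :=
    ((genericPoint_spec _).specializes trivial).map (cl e).subschemeι.continuous
  have h3 : (cl e).subschemeι (genericPoint (cl e).subscheme) ⤳ e := h4.trans (specializes_of_eq he')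
  exact (h3.antisymm h1).eq

/-- The generizations of a prime element point: itself and the generic point. -/
theorem eq_or_eq_generic [IsIntegral X] {x : X} [UniqueFactorizationMonoid (X.presheaf.stalk x)]
    {π : X.presheaf.stalk x} (hπ : Prime π) {c : X} (hc : c ⤳ pp hπ) : c = pp hπ ∨ c = genericPoint X := by
  by_cases h : (primeOf (hc.trans (pp_specializes hπ))).asIdeal = ⊥
  · right
    have h1 : primeOf (hc.trans (pp_specializes hπ)) = primeOf (genericPoint_specializes x) := by
      rw [K108.GenFib.primeOf_generic]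
      exact PrimeSpectrum.ext h
    exact (primeOf_inj _ _).1 h1
  · left
    have hle : primeOf (hc.trans (pp_specializes hπ)) ≤ primeOf (pp_specializes hπ) :=
      (primeOf_le_iff _ _).2 hc
    obtain ⟨q, hq, hqp⟩ := Ideal.IsPrime.exists_mem_prime_of_ne_bot
      (primeOf (hc.trans (pp_specializes hπ))).2 h
    have h1 : q ∈ Ideal.span {π} := by
      rw [← primeOf_pp hπ]
      exact hle hq
    rw [Ideal.mem_span_singleton] at h1
    have h2 : π ∈ (primeOf (hc.trans (pp_specializes hπ))).asIdeal := by
      obtain ⟨u, hu⟩ := (hπ.associated_of_dvd hqp h1).symm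
      have h5 : q * u ∈ (primeOf (hc.trans (pp_specializes hπ))).asIdeal := Ideal.mul_mem_right _ _ hq
      rw [hu] at h5
      exact h5
    have h3 : primeOf (hc.trans (pp_specializes hπ)) = primeOf (pp_specializes hπ) := by
      apply le_antisymm hle
      change (primeOf (pp_specializes hπ)).asIdeal ≤ _
      rw [primeOf_pp, Ideal.span_singleton_le_iff_mem]
      exact h2
    exact (primeOf_inj _ _).1 h3

theorem pp_ne_generic [IsIntegral X] {x : X} {π : X.presheaf.stalk x} (hπ : Prime π) : pp hπ ≠ genericPoint X := by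
  intro h
  have h1 : primeOf (pp_specializes hπ) = primeOf (genericPoint_specializes x) := (primeOf_inj _ _).2 h
  rw [K108.GenFib.primeOf_generic] at h1
  have h2 := primeOf_pp hπ
  rw [h1] at h2
  have h3 : π ∈ (⊥ : Ideal (X.presheaf.stalk x)) := by
    change π ∈ (⊥ : PrimeSpectrum (X.presheaf.stalk x)).asIdeal
    rw [h2]
    exact Ideal.mem_span_singleton_self π
  exact hπ.ne_zero h3

theorem dim_pp_eq [IsIntegral X] [IsLocallyNoetherian X] {x : X} {ϖ : X.presheaf.stalk x}
    (hϖ : Prime ϖ) : ringKrullDim (X.presheaf.stalk (pp hϖ)) = 1 := by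
  have h := pp_specializes hϖ
  letI := (X.presheaf.stalkSpecializes h).hom.toAlgebra
  have hloc : IsLocalization.AtPrime (X.presheaf.stalk (pp hϖ)) (primeOf h).asIdeal :=
    isLocalization_sp h
  refine le_antisymm (dim_pp hϖ) ?_
  rw [IsLocalization.AtPrime.ringKrullDim_eq_height (primeOf h).asIdeal]
  have h1 : (primeOf h).asIdeal.height ≠ 0 := by
    rw [Ne, Ideal.height_eq_zero_iff_eq_bot, primeOf_pp, Ideal.span_singleton_eq_bot]
    exact hϖ.ne_zero
  have h2 : 1 ≤ (primeOf h).asIdeal.height := Order.one_le_iff_ne_zero.2 h1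
  exact_mod_cast h2

end Gen

section Act

variable {k : Type u} [Field k] [IsAlgClosed k]

theorem isIntegral_tensor' (X Y : Over (Spec (CommRingCat.of k))) [IsIntegral X.left]
    [Smooth X.hom] [IsIntegral Y.left] [LocallyOfFiniteType Y.hom] : IsIntegral (X ⊗ Y).left := by
  have := Groth.Agent.Fdesc.GeomAlgClosed.geometricallyIrreducible_of_irreducibleSpace X.hom
  have := Groth.Agent.Flat2B.SmoothGeom.geometricallyIntegral_of_smooth X.hom
  have : IsLocallyNoetherian Y.left := LocallyOfFiniteType.isLocallyNoetherian Y.hom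
  change IsIntegral (pullback X.hom Y.hom)
  infer_instance

variable {G Z M : Over (Spec (CommRingCat.of k))} [GrpObj G] {a : AlgGrp.Action G Z} {φ : Z ⟶ M}

/-- the morphism to the point acting trivially: `x ↦ (1, x)` -/
noncomputable def unitSec (G Z : Over (Spec (CommRingCat.of k))) [GrpObj G] : Z ⟶ G ⊗ Z := lift 1 (𝟙 Z)

omit [IsAlgClosed k] in
theorem unitSec_act : unitSec G Z ≫ a.act = 𝟙 Z := lift_one_act a (𝟙 Z)

omit [IsAlgClosed k] in
theorem unitSec_snd : unitSec G Z ≫ snd G Z = 𝟙 Z := lift_snd _ _

omit [IsAlgClosed k] in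
theorem left_apply_of_comp_eq_id {W : Over (Spec (CommRingCat.of k))} {s : Z ⟶ W} {f : W ⟶ Z} (h : s ≫ f = 𝟙 Z)
    (z : Z.left) : f.left (s.left z) = z := by
  rw [← Scheme.Hom.comp_apply, ← Over.comp_left, h]
  rfl

/-- Prime divisors mapping to a non-generic point under an invariant morphism are invariant. -/
theorem act_mem_of_snd_mem [Smooth G.hom] [IsIntegral G.left] [LocallyOfFiniteType Z.hom] [IsIntegral Z.left]
    (hinv : GIT.IsInvariant a φ) {e : Z.left}
    (he : ∀ c : Z.left, c ⤳ e → c = e ∨ c = genericPoint Z.left)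
    (hφ : φ.left e ≠ φ.left (genericPoint Z.left)) (p : (G ⊗ Z).left) (hp : e ⤳ (snd G Z).left p) :
    e ⤳ a.act.left p := by
  let E : Over (Spec (CommRingCat.of k)) := Over.mk ((cl e).subschemeι ≫ Z.hom)
  let i : E ⟶ Z := Over.homMk (cl e).subschemeι rfl
  have hEi : IsIntegral E.left := isIntegral_cl e
  have hElft : LocallyOfFiniteType E.hom := inferInstanceAs (LocallyOfFiniteType ((cl e).subschemeι ≫ Z.hom))
  have hGE : IsIntegral (G ⊗ E).left := isIntegral_tensor' G E
  have hrange : ∀ q : (G ⊗ Z).left, e ⤳ (snd G Z).left q → ∃ q' : (G ⊗ E).left, (G ◁ i).left q' = q := by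
    intro q hq
    have h1 : (snd G Z).left q ∈ Set.range (cl e).subschemeι := by
      rw [Scheme.IdealSheafData.range_subschemeι]
      exact mem_support_cl.2 hq
    obtain ⟨x, hx⟩ := h1
    obtain ⟨w, -, hw⟩ := exists_point (isPullback_snd_left (G := G) i) x q hx
    exact ⟨w, hw⟩
  let ξ : (G ⊗ Z).left := (G ◁ i).left (genericPoint (G ⊗ E).left)
  have hξ : ∀ q : (G ⊗ Z).left, e ⤳ (snd G Z).left q → ξ ⤳ q := by
    intro q hq
    obtain ⟨q', rfl⟩ := hrange q hq
    exact ((genericPoint_spec _).specializes trivial).map (G ◁ i).left.continuous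
  let u : (G ⊗ Z).left := (unitSec G Z).left e
  have hu1 : a.act.left u = e := left_apply_of_comp_eq_id unitSec_act e
  have hu2 : (snd G Z).left u = e := left_apply_of_comp_eq_id unitSec_snd e
  have h1 : ξ ⤳ u := hξ u (by rw [hu2])
  have h2 : (snd G Z).left ξ = e := by
    have h3 : (snd G Z).left ξ ⤳ e := by
      have := h1.map (snd G Z).left.continuous
      rwa [hu2] at this
    have h4 : e ⤳ (snd G Z).left ξ := by
      have h5 : (snd G Z).left ξ = (cl e).subschemeι ((snd G E).left (genericPoint (G ⊗ E).left)) := by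
        have h6 : (G ◁ i).left ≫ (snd G Z).left = (snd G E).left ≫ i.left := by
          rw [← Over.comp_left, ← Over.comp_left, whiskerLeft_snd]
        change ((G ◁ i).left ≫ (snd G Z).left) (genericPoint (G ⊗ E).left) = _
        rw [h6]
        rfl
      rw [h5, ← mem_support_cl]
      change _ ∈ ((cl e).support : Set Z.left)
      rw [← Scheme.IdealSheafData.range_subschemeι]
      exact ⟨_, rfl⟩
    exact (h3.antisymm h4).eq
  have h3 : a.act.left ξ ⤳ e := by
    have := h1.map a.act.left.continuous
    rwa [hu1] at this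
  have h4 : a.act.left ξ = e := by
    rcases he _ h3 with h | h
    · exact h
    · exfalso
      apply hφ
      have h5 : φ.left (a.act.left ξ) = φ.left ((snd G Z).left ξ) :=
        congrArg (fun m : (G ⊗ Z).left ⟶ M.left => m ξ) hinv.left
      rw [h, h2] at h5
      exact h5.symm
  have h5 := (hξ p hp).map a.act.left.continuous
  rwa [h4] at h5

theorem act_mem_iff [Smooth G.hom] [IsIntegral G.left] [LocallyOfFiniteType Z.hom] [IsIntegral Z.left]
    (hinv : GIT.IsInvariant a φ) {e : Z.left}
    (he : ∀ c : Z.left, c ⤳ e → c = e ∨ c = genericPoint Z.left)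
    (hφ : φ.left e ≠ φ.left (genericPoint Z.left)) (p : (G ⊗ Z).left) :
    e ⤳ a.act.left p ↔ e ⤳ (snd G Z).left p := by
  constructor
  · intro h
    have h1 := act_mem_of_snd_mem hinv he hφ ((shear a).left p) (by
      rw [← Scheme.Hom.comp_apply, ← Over.comp_left, shear_snd]
      exact h)
    rwa [← Scheme.Hom.comp_apply, ← Over.comp_left, act_shear] at h1
  · exact act_mem_of_snd_mem hinv he hφ p

theorem invDiv [Smooth G.hom] [IsIntegral G.left] [Smooth Z.hom] [IsIntegral Z.left]
    (hinv : GIT.IsInvariant a φ) {z : Z.left} {π : Z.left.presheaf.stalk z} (hπ : Prime π)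
    (hφ : φ.left (pp hπ) ≠ φ.left (genericPoint Z.left)) : InvDiv a (cl (pp hπ)) := by
  have hU : ∀ z : Z.left, IsDomain (Z.left.presheaf.stalk z) ∧ UniqueFactorizationMonoid (Z.left.presheaf.stalk z) :=
    fun z => K676.Setup.ufd_stalk Z z
  have hln : IsLocallyNoetherian Z.left := LocallyOfFiniteType.isLocallyNoetherian Z.hom
  have hGZ : IsIntegral (G ⊗ Z).left := isIntegral_tensor' G Z
  have hGG : IsIntegral (G ⊗ G).left := isIntegral_tensor' G G
  have hGGs : Smooth (G ⊗ G).hom := by
    change Smooth (pullback.fst G.hom G.hom ≫ G.hom)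
    infer_instance
  have hGGZ : IsIntegral ((G ⊗ G) ⊗ Z).left := isIntegral_tensor' (G ⊗ G) Z
  have := (hU z).2
  have he : ∀ c : Z.left, c ⤳ pp hπ → c = pp hπ ∨ c = genericPoint Z.left := fun c hc => eq_or_eq_generic hπ hc
  have heff : BlowUp.IsEffCartierIdeal (cl (pp hπ)) :=
    Groth.Agent.S1684.result Z.left (cl (pp hπ)) (by rw [generic_cl]; exact dim_pp_eq hπ) (fun x _ => hU x)
  have hgen : genericPoint Z.left ∉ (cl (pp hπ)).support := by
    rw [mem_support_cl]
    intro h
    exact pp_ne_generic hπ (h.antisymm ((genericPoint_spec Z.left).specializes trivial)).eq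
  have key : ∀ {W : Over (Spec (CommRingCat.of k))} [IsIntegral W.left] {s : Z ⟶ W} {f : W ⟶ Z} (h : s ≫ f = 𝟙 Z),
      f.left (genericPoint W.left) = genericPoint Z.left := by
    intro W _ s f h
    have h1 : genericPoint W.left ⤳ s.left (genericPoint Z.left) := (genericPoint_spec _).specializes trivial
    have h2 := h1.map f.left.continuous
    rw [left_apply_of_comp_eq_id h] at h2
    exact (h2.antisymm ((genericPoint_spec Z.left).specializes trivial)).eq
  have hsm : Smooth (snd G Z).left := by
    change Smooth (pullback.snd G.hom Z.hom)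
    infer_instance
  have hact : a.act.left = (shear a).left ≫ (snd G Z).left := by rw [← Over.comp_left, shear_snd]
  have hsi : IsIso (shear a).left := (inferInstance : IsIso ((Over.forget _).map (shear a)))
  have hsa : Smooth a.act.left := by rw [hact]; infer_instance
  refine ⟨heff, ?_, ?_, ?_⟩
  · have h1 := isReduced_comap_smooth (cl (pp hπ)) a.act.left
    have h2 := isReduced_comap_smooth (cl (pp hπ)) (snd G Z).left
    apply eq_of_support_eq
    ext p
    rw [Scheme.IdealSheafData.support_comap, Scheme.IdealSheafData.support_comap]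
    change a.act.left p ∈ (cl (pp hπ)).support ↔ (snd G Z).left p ∈ (cl (pp hπ)).support
    rw [mem_support_cl, mem_support_cl]
    exact act_mem_iff hinv he hφ p
  · apply K676.LiftT.isEff_comap_of_integral heff
    rw [key (unitSec_act (G := G) (Z := Z) (a := a))]
    exact hgen
  · apply K676.LiftT.isEff_comap_of_integral heff
    have h1 : lift (lift (1 : Z ⟶ G) (1 : Z ⟶ G)) (𝟙 Z) ≫ (μ[G] ▷ Z) ≫ a.act = 𝟙 Z := by
      have h2 : lift (lift (1 : Z ⟶ G) (1 : Z ⟶ G)) (𝟙 Z) ≫ (μ[G] ▷ Z) = lift (1 : Z ⟶ G) (𝟙 Z) := by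
        rw [lift_whiskerRight]
        congr 1
        have h3 : (1 : Z ⟶ G) * 1 = lift (1 : Z ⟶ G) (1 : Z ⟶ G) ≫ μ[G] := rfl
        rw [← h3, _root_.mul_one]
      rw [← Category.assoc, h2]
      exact lift_one_act a (𝟙 Z)
    rw [key h1]
    exact hgen

end Act

end K676.InvE
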