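import Groth.Agent.GLinSh.K676.DivSec
import Groth.Agent.GIT.K689.CoordUP
import Groth.Agent.GIT.K689.Weight
import Mathlib.AlgebraicGeometry.FunctionField
import Groth.Agent.Lefpen.H720.IncUniq
import Groth.Agent.Divis.IdealComap

/-!
# Morphisms to the total space of the line bundle of an effective Cartier divisor
-/

set_option autoImplicit false
universe u

open CategoryTheory CategoryTheory.Limits AlgebraicGeometry Opposite TopologicalSpace

namespace K676.LiftT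

open K689.SchGlue K689.Coord K689.CoordUP K689.Weight
open Groth.Agent.Dix.IdealModCartier (GenOn exists_affine_mem_le exists_genOn)

variable {V X : Scheme.{u}} {p : V ⟶ X} [IsAffineHom p] {chart : ∀ U : X.Opens, Set (Γ(V, p ⁻¹ᵁ U))}
  {D : X.IdealSheafData}

theorem mem_basicOpen_of_genOn {U : X.Opens} {d : Γ(X, U)} (hd : GenOn D d) {x : X} (hx : x ∈ U)
    (hxD : x ∉ D.support) : x ∈ X.basicOpen d := by
  obtain ⟨W, hxW, hW⟩ := exists_affine_mem_le U x hx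
  rw [Scheme.IdealSheafData.mem_support_iff_of_mem hxW, (hd W hW).2, Scheme.zeroLocus_span,
    Scheme.mem_zeroLocus_iff] at hxD
  push Not at hxD
  obtain ⟨f, hf, hf'⟩ := hxD
  rw [Set.mem_singleton_iff] at hf
  subst hf
  have h1 : X.basicOpen (X.presheaf.map (homOfLE hW).op d) ≤ X.basicOpen d := by
    rw [Scheme.basicOpen_res]
    exact inf_le_right
  exact h1 hf'

theorem appLE_ne_zero {U : X.Opens} {d : Γ(X, U)} (hd : GenOn D d) {T : Scheme.{u}} [IsIntegral T] (b : T ⟶ X)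
    {O : T.Opens} (hb : O ≤ b ⁻¹ᵁ U) (hO : genericPoint T ∈ O) (hg : b (genericPoint T) ∉ D.support) :
    b.appLE U O hb d ≠ 0 := by
  intro h
  have h1 : genericPoint T ∈ T.basicOpen (b.appLE U O hb d) := by
    rw [Scheme.Hom.appLE, CommRingCat.comp_apply, Scheme.basicOpen_res, ← Scheme.preimage_basicOpen]
    exact ⟨hO, mem_basicOpen_of_genOn hd (hb hO) hg⟩
  rw [h, Scheme.basicOpen_zero] at h1
  exact h1

variable (p chart D) in
/-- `t` is the canonical section of the line bundle of the divisor `D`. -/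
def IsCan (t : Γ(V, p ⁻¹ᵁ ⊤)) : Prop :=
  ∀ (U : X.Opens) (y : Γ(V, p ⁻¹ᵁ U)), y ∈ chart U → ∃ d : Γ(X, U), GenOn D d ∧ rs p le_top t = p.app U d * y

omit [IsAffineHom p] in
theorem tl {T : Scheme.{u}} (v : T ⟶ V) : (⊤ : T.Opens) ≤ v ⁻¹ᵁ (p ⁻¹ᵁ ⊤) := fun _ _ => trivial

omit [IsAffineHom p] in
theorem appTop_eq_ev (t : Γ(V, p ⁻¹ᵁ ⊤)) {T : Scheme.{u}} (v : T ⟶ V) {U : X.Opens} (h : ⊤ ≤ v ⁻¹ᵁ (p ⁻¹ᵁ U)) :
    ev v (tl v) t = ev v h (rs p le_top t) := by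
  rw [ev_rs]

/-- The pullback of an effective Cartier ideal is effective Cartier, if local equations stay nonzerodivisors. -/
theorem isEff_comap_of {Y : Scheme.{u}} (f : Y ⟶ X)
    (h : ∀ y : Y, ∃ (W : X.affineOpens) (d : Γ(X, W.1)) (W' : Y.affineOpens) (hle : W'.1 ≤ f ⁻¹ᵁ W.1),
      y ∈ W'.1 ∧ D.ideal W = Ideal.span {d} ∧ f.appLE W.1 W'.1 hle d ∈ nonZeroDivisors Γ(Y, W'.1)) :
    BlowUp.IsEffCartierIdeal (D.comap f) := by
  intro y
  obtain ⟨W, d, W', hle, hy, h1, h2⟩ := h y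
  refine ⟨W', hy, _, h2, ?_⟩
  rw [Groth.Agent.Divis.IdealComap.ideal_comap D f W W' hle, h1, Ideal.map_span, Set.image_singleton]

theorem isEff_comap_of_integral (hD : BlowUp.IsEffCartierIdeal D) {T : Scheme.{u}} [IsIntegral T] (b : T ⟶ X)
    (hg : b (genericPoint T) ∉ D.support) : BlowUp.IsEffCartierIdeal (D.comap b) := by
  refine isEff_comap_of b fun y => ?_
  obtain ⟨W, d, hW, hd⟩ := exists_genOn hD (b y)
  obtain ⟨W', hyW', hW'⟩ := exists_affine_mem_le (b ⁻¹ᵁ W.1) y hW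
  refine ⟨W, d, W', hW', hyW', ?_, ?_⟩
  · have := (hd W le_rfl).2
    rwa [show Groth.Agent.Fdesc.LocGen.ores (le_refl W.1) d = d from
      Groth.Agent.Fdesc.LocGen.ores_refl d] at this
  · have : Nonempty W'.1 := ⟨⟨y, hyW'⟩⟩
    have : IsDomain Γ(T, W'.1) := IsIntegral.component_integral _
    refine mem_nonZeroDivisors_of_ne_zero (appLE_ne_zero hd b hW' ?_ hg)
    exact ((genericPoint_spec T).mem_open_set_iff W'.1.2).2 ⟨y, trivial, hyW'⟩

theorem isEff_comap_flat (hD : BlowUp.IsEffCartierIdeal D) {Y : Scheme.{u}} (f : Y ⟶ X) [Flat f] :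
    BlowUp.IsEffCartierIdeal (D.comap f) := by
  refine isEff_comap_of f fun y => ?_
  obtain ⟨W, d, hW, hd⟩ := exists_genOn hD (f y)
  obtain ⟨W', hyW', hW'⟩ := exists_affine_mem_le (f ⁻¹ᵁ W.1) y hW
  have h1 := hd W le_rfl
  rw [show Groth.Agent.Fdesc.LocGen.ores (le_refl W.1) d = d from
      Groth.Agent.Fdesc.LocGen.ores_refl d] at h1
  exact ⟨W, d, W', hW', hyW', h1.2,
    Groth.Agent.Lefpen.H720.IncUniq.appLE_mem_nonZeroDivisors f W.2 W'.2 hW' h1.1⟩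

theorem isEff_comap_open (hD : BlowUp.IsEffCartierIdeal D) (O : X.Opens) :
    BlowUp.IsEffCartierIdeal (D.comap O.ι) := isEff_comap_flat hD O.ι

/-- The pullback of an effective Cartier ideal to a line bundle is effective Cartier. -/
theorem isEff_comap_bundle (A : Atl p chart) (hD : BlowUp.IsEffCartierIdeal D) :
    BlowUp.IsEffCartierIdeal (D.comap p) := by
  refine isEff_comap_of p fun v => ?_
  obtain ⟨U, hU, y, hy⟩ := A.cover (p v)
  obtain ⟨W₀, d₀, hW₀, hd₀⟩ := exists_genOn hD (p v)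
  obtain ⟨W, hvW, hW⟩ := exists_affine_mem_le (U ⊓ W₀.1) (p v) ⟨hU, hW₀⟩
  have hd := hd₀ W (hW.trans inf_le_right)
  refine ⟨W, _, ⟨p ⁻¹ᵁ W.1, W.2.preimage p⟩, le_rfl, hvW, hd.2, ?_⟩
  have hb := A.coord U y hy W.1 W.2 (hW.trans inf_le_left)
  let E : Polynomial Γ(X, W.1) ≃+* Γ(V, p ⁻¹ᵁ W.1) := RingEquiv.ofBijective _ hb
  rw [Scheme.Hom.appLE_eq_app]
  set d := Groth.Agent.Fdesc.LocGen.ores (hW.trans inf_le_right) d₀ with hdd
  have h1 : p.app W.1 d = E (Polynomial.C d) := by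
    change _ = Polynomial.eval₂RingHom _ _ _
    rw [Polynomial.coe_eval₂RingHom, Polynomial.eval₂_C]
  rw [h1, mem_nonZeroDivisors_iff_right]
  intro z hz
  obtain ⟨q, rfl⟩ := E.surjective z
  rw [← map_mul, map_eq_zero_iff _ E.injective] at hz
  rw [map_eq_zero_iff _ E.injective]
  ext n
  have h2 := congrArg (fun r => Polynomial.coeff r n) hz
  simp only [Polynomial.coeff_mul_C, Polynomial.coeff_zero] at h2
  rw [Polynomial.coeff_zero]
  exact (mem_nonZeroDivisors_iff_right.1 hd.1) _ h2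

omit [IsAffineHom p] in
theorem cancel_of {T : Scheme.{u}} (b : T ⟶ X) (hb : BlowUp.IsEffCartierIdeal (D.comap b)) {U : X.Opens}
    {d : Γ(X, U)} (hd : GenOn D d) {O : T.Opens} (hO : O ≤ b ⁻¹ᵁ U) {x y : Γ(T, O)}
    (h : b.appLE U O hO d * x = b.appLE U O hO d * y) : x = y := by
  have h1 := (Groth.Agent.Dix.IdealModCartier.GenOn.comap b hb hd).res hO
  apply h1.cancel
  rw [_root_.mul_comm x, _root_.mul_comm y]
  exact h

theorem eq_of_t_small {t : Γ(V, p ⁻¹ᵁ ⊤)} {U : X.Opens} {y : Γ(V, p ⁻¹ᵁ U)} (hy : IsCoord p U y)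
    {d : Γ(X, U)} (hd : GenOn D d) (e : rs p le_top t = p.app U d * y)
    {T : Scheme.{u}} (v v' : T ⟶ V) (hv : ⊤ ≤ v ⁻¹ᵁ (p ⁻¹ᵁ U)) (h : v ≫ p = v' ≫ p)
    (hg : BlowUp.IsEffCartierIdeal (D.comap (v ≫ p)))
    (ht : ev v (tl v) t = ev v' (tl v') t) : v = v' := by
  have hb : ⊤ ≤ (v ≫ p) ⁻¹ᵁ U := hv
  have hv' : ⊤ ≤ v' ⁻¹ᵁ (p ⁻¹ᵁ U) := by
    change ⊤ ≤ (v' ≫ p) ⁻¹ᵁ U
    rw [← h]
    exact hb
  rw [appTop_eq_ev t v hv, appTop_eq_ev t v' hv', e, ev_mul, ev_mul, ev_app v hv (v ≫ p) rfl hb,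
    ev_app v' hv' (v ≫ p) h.symm hb] at ht
  exact hy.hom_ext v v' hv hv' h (cancel_of (v ≫ p) hg hd hb ht)

/-- Uniqueness of a morphism with given value of the canonical section. -/
theorem eq_of_t (A : Atl p chart) {t : Γ(V, p ⁻¹ᵁ ⊤)} (hc : IsCan p chart D t)
    {T : Scheme.{u}} (v v' : T ⟶ V) (h : v ≫ p = v' ≫ p)
    (hg : BlowUp.IsEffCartierIdeal (D.comap (v ≫ p)))
    (ht : ev v (tl v) t = ev v' (tl v') t) : v = v' := by
  have hch := fun x : T => A.cover ((v ≫ p) x)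
  choose U hxU y hy using hch
  refine hom_ext_opens (fun x : T => (v ≫ p) ⁻¹ᵁ U x) (fun x => ⟨x, hxU x⟩) v v' fun x => ?_
  let O : T.Opens := (v ≫ p) ⁻¹ᵁ U x
  obtain ⟨d, hd, e⟩ := hc _ _ (hy x)
  refine eq_of_t_small (A.coord _ _ (hy x)) hd e (O.ι ≫ v) (O.ι ≫ v') (fun z _ => z.2) ?_ ?_ ?_
  · rw [Category.assoc, Category.assoc, h]
  · rw [Category.assoc, Scheme.IdealSheafData.comap_comp]
    exact isEff_comap_open hg O
  · rw [ev_comp _ _ (tl v), ev_comp _ _ (tl v'), ht]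

/-- Existence of a morphism with given value of the canonical section, if this value is locally divisible. -/
theorem exists_lift_t (A : Atl p chart) {t : Γ(V, p ⁻¹ᵁ ⊤)} (hc : IsCan p chart D t)
    {T : Scheme.{u}} (w : T ⟶ X) (hg : BlowUp.IsEffCartierIdeal (D.comap w)) (s : Γ(T, ⊤))
    (hloc : ∀ x : T, ∃ (U : X.Opens) (y : Γ(V, p ⁻¹ᵁ U)) (O : T.Opens) (hO : O ≤ w ⁻¹ᵁ U) (d : Γ(X, U)) (c : Γ(T, O)),
      x ∈ O ∧ y ∈ chart U ∧ rs p le_top t = p.app U d * y ∧ rsec le_top s = w.appLE U O hO d * c) :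
    ∃ v : T ⟶ V, v ≫ p = w ∧ ev v (tl v) t = s := by
  choose U y O hO d c hxO hy e hs using hloc
  have hlift : ∀ x : T, ∃ v : (O x : Scheme.{u}) ⟶ V, v ≫ p = (O x).ι ≫ w ∧
      ev v (tl v) t = (O x).ι.appTop s := by
    intro x
    have hb : ⊤ ≤ ((O x).ι ≫ w) ⁻¹ᵁ U x := fun z _ => hO x z.2
    obtain ⟨v, hv, h1, h2⟩ := (A.coord _ _ (hy x)).exists_lift ((O x).ι ≫ w) hb ((O x).topIso.inv (c x))
    refine ⟨v, h1, ?_⟩
    rw [appTop_eq_ev t v hv, e x, ev_mul, ev_app v hv _ h1 hb, h2]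
    have h3 : ((O x).ι ≫ w).appLE (U x) ⊤ hb = w.appLE (U x) (O x) (hO x) ≫ (O x).topIso.inv := by
      rw [← ι_appLE_top (O x) (fun z _ => z.2)]
      exact (Scheme.Hom.appLE_comp_appLE _ _ _ _ _ _ _).symm
    rw [h3, CommRingCat.comp_apply, ← map_mul, ← hs x]
    have h4 := topIso_ι_appTop (O x) s
    rw [← h4, Iso.hom_inv_id_apply]
  choose v hv1 hv2 using hlift
  obtain ⟨σ, hσ⟩ := glue_opens O (fun x => ⟨x, hxO x⟩) v (fun i j => by
    refine eq_of_t A hc _ _ ?_ ?_ ?_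
    · rw [Category.assoc, Category.assoc, hv1, hv1, ← Category.assoc, ← Category.assoc, Scheme.homOfLE_ι,
        Scheme.homOfLE_ι]
    · rw [Category.assoc, hv1, ← Category.assoc, Scheme.homOfLE_ι, Scheme.IdealSheafData.comap_comp]
      exact isEff_comap_open hg _
    · rw [ev_comp _ _ (tl (v i)), ev_comp _ _ (tl (v j)), hv2, hv2,
        ← CommRingCat.comp_apply, ← CommRingCat.comp_apply, ← Scheme.Hom.comp_appTop, ← Scheme.Hom.comp_appTop,
        Scheme.homOfLE_ι, Scheme.homOfLE_ι])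
  refine ⟨σ, ?_, ?_⟩
  · refine hom_ext_opens O (fun x => ⟨x, hxO x⟩) _ _ fun x => ?_
    rw [← Category.assoc, hσ, hv1]
  · refine section_ext _ _ fun x _ => ⟨O x, le_top, hxO x, ?_⟩
    apply rsec_eq_of_ι_appTop
    rw [← hv2, ← ev_comp (O x).ι σ (tl σ) (tl _)]
    congr 1
    exact hσ x

end K676.LiftT
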