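import Groth.Agent.GLinSh.K676.FrameRatio

/-!
# Local frames obtained by extending an invariant frame generically
-/

set_option autoImplicit false
universe u
open CategoryTheory MonoidalCategory CartesianMonoidalCategory MonObj AlgebraicGeometry Topology Limits
open Groth.Agent.Books.BorelOrb

namespace K676.LocFrame

open K689.SchGlue K689.Coord K689.CoordUP K689.Weight K689.Ratio K689.ActBasic K689.LinBunBasic K689.PullBun
open K676.WtExt K676.Frame K676.FrameRatio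
open K688.ActRes (op inc)

variable {S : Scheme.{u}} {G X : Over S} [GrpObj G] {a : AlgGrp.Action G X} {B : GLinSh.LinBun G a}

/-- The action in coordinates, on points. -/
theorem lin_eval {U U' : X.left.Opens} {y : Γ(B.V.left, B.π.left ⁻¹ᵁ U)} {y' : Γ(B.V.left, B.π.left ⁻¹ᵁ U')}
    {c : Γ((G ⊗ X).left, a.act.left ⁻¹ᵁ U' ⊓ (snd G X).left ⁻¹ᵁ U)}
    (hc : B.lift.act.left.appLE (B.π.left ⁻¹ᵁ U') (GLinSh.liftOpen a B.π U U')
        (GLinSh.liftOpen_le_act a B.π B.lift B.lift_π) y' =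
      (G ◁ B.π).left.appLE _ (GLinSh.liftOpen a B.π U U') (GLinSh.liftOpen_le_base a B.π) c *
        (snd G B.V).left.appLE (B.π.left ⁻¹ᵁ U) (GLinSh.liftOpen a B.π U U') (GLinSh.liftOpen_le_snd a B.π) y)
    {T : Over S} (g : T ⟶ G) (v : T ⟶ B.V) (h : ⊤ ≤ v.left ⁻¹ᵁ (B.π.left ⁻¹ᵁ U))
    (h' : ⊤ ≤ (sm B.lift g v).left ⁻¹ᵁ (B.π.left ⁻¹ᵁ U'))
    (hm : ⊤ ≤ (lift g (v ≫ B.π)).left ⁻¹ᵁ (a.act.left ⁻¹ᵁ U' ⊓ (snd G X).left ⁻¹ᵁ U)) :
    ev (sm B.lift g v).left h' y' =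
      (lift g (v ≫ B.π)).left.appLE _ ⊤ hm c * ev v.left h y := by
  let l : T ⟶ G ⊗ B.V := lift g v
  have m1 : l.left ≫ B.lift.act.left = (sm B.lift g v).left := rfl
  have m2' : l ≫ (G ◁ B.π) = lift g (v ≫ B.π) := lift_whiskerLeft _ _ _
  have m2 : l.left ≫ (G ◁ B.π).left = (lift g (v ≫ B.π)).left := congrArg CommaMorphism.left m2'
  have m3 : l.left ≫ (snd G B.V).left = v.left := congrArg CommaMorphism.left (lift_snd g v)
  have hl : ⊤ ≤ l.left ⁻¹ᵁ (GLinSh.liftOpen a B.π U U') := by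
    intro p _
    have h1 : (G ◁ B.π).left (l.left p) ∈ a.act.left ⁻¹ᵁ U' ⊓ (snd G X).left ⁻¹ᵁ U := by
      have h2 : (l.left ≫ (G ◁ B.π).left) p ∈ a.act.left ⁻¹ᵁ U' ⊓ (snd G X).left ⁻¹ᵁ U := by
        rw [m2]; exact hm trivial
      exact h2
    exact h1
  have e := congrArg (l.left.appLE (GLinSh.liftOpen a B.π U U') ⊤ hl) hc
  rw [map_mul] at e
  have q1 : ⊤ ≤ (l.left ≫ B.lift.act.left) ⁻¹ᵁ (B.π.left ⁻¹ᵁ U') := h'
  have q2 : ⊤ ≤ (l.left ≫ (G ◁ B.π).left) ⁻¹ᵁ (a.act.left ⁻¹ᵁ U' ⊓ (snd G X).left ⁻¹ᵁ U) := by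
    rw [m2]; exact hm
  have q3 : ⊤ ≤ (l.left ≫ (snd G B.V).left) ⁻¹ᵁ (B.π.left ⁻¹ᵁ U) := by rw [m3]; exact h
  have t1 := appLE_appLE _ _ (GLinSh.liftOpen_le_act a B.π B.lift B.lift_π (U := U) (U' := U')) hl q1 y'
  have t2 := (appLE_appLE _ _ (GLinSh.liftOpen_le_base a B.π (U := U) (U' := U')) hl q2 c).trans
    (appLE_hom_congr m2 q2 hm c)
  have t3 := (appLE_appLE _ _ (GLinSh.liftOpen_le_snd a B.π (U := U) (U' := U')) hl q3 y).trans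
    (appLE_hom_congr m3 q3 h y)
  rw [t1, t2, t3] at e
  exact e

variable [IsIntegral (G ⊗ X).left]

/-- A local frame from a generic frame. -/
theorem isFrame_of_generic {O₁ : X.left.Opens} {f₁ : Γ(B.V.left, B.π.left ⁻¹ᵁ O₁)} (hf₁ : IsFrame B O₁ f₁)
    {U : X.left.Opens} {y : Γ(B.V.left, B.π.left ⁻¹ᵁ U)} (hy : y ∈ B.atlas.chart U)
    {c₁ : Γ(X.left, U ⊓ O₁)}
    (hc₁ : rs B.π.left inf_le_right f₁ = B.π.left.app (U ⊓ O₁) c₁ * rs B.π.left inf_le_left y)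
    {Or : X.left.Opens} {r : Γ(X.left, Or)}
    (hr : ∀ (P : (G ⊗ X).left.Opens) (h1 : P ≤ a.act.left ⁻¹ᵁ Or) (h2 : P ≤ (snd G X).left ⁻¹ᵁ Or),
      a.act.left.appLE Or P h1 r = (snd G X).left.appLE Or P h2 r)
    {U' : X.left.Opens} (hU' : U' ≤ U) {w : Γ(X.left, U')} (hw : IsUnit w)
    (W₁ : X.left.Opens) [Nonempty W₁] (h1 : W₁ ≤ U') (h2 : W₁ ≤ O₁) (h3 : W₁ ≤ Or)
    (hwr : rsec h1 w = rsec h3 r * rsec (le_inf (h1.trans hU') h2) c₁) :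
    IsFrame B U' (B.π.left.app U' w * rs B.π.left hU' y) := by
  have hadm : Adm B.π.left B.atlas.chart U' (rs B.π.left hU' y) := (adm_of_mem hy).restrict hU'
  obtain ⟨c, hc⟩ := B.lift_linear U U y y hy hy
  -- the key identity
  let Ω : (G ⊗ X).left.Opens := a.act.left ⁻¹ᵁ U' ⊓ (snd G X).left ⁻¹ᵁ U'
  let Ω' : (G ⊗ X).left.Opens := a.act.left ⁻¹ᵁ W₁ ⊓ (snd G X).left ⁻¹ᵁ W₁
  have hΩ' : Ω' ≤ Ω := fun p hp => ⟨h1 hp.1, h1 hp.2⟩
  have hΩU : Ω ≤ a.act.left ⁻¹ᵁ U ⊓ (snd G X).left ⁻¹ᵁ U := fun p hp => ⟨hU' hp.1, hU' hp.2⟩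
  have hne : Nonempty Ω' := by
    let x : W₁ := Classical.arbitrary W₁
    let m : X ⟶ G ⊗ X := lift (1 : X ⟶ G) (𝟙 X)
    have e1 : a.act.left (m.left x.1) = x.1 := by
      rw [← Scheme.Hom.comp_apply, ← Over.comp_left, lift_one_act]; rfl
    have e2 : (snd G X).left (m.left x.1) = x.1 := by
      rw [← Scheme.Hom.comp_apply, ← Over.comp_left, lift_snd]; rfl
    refine ⟨⟨m.left x.1, ?_, ?_⟩⟩
    · change a.act.left (m.left x.1) ∈ W₁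
      rw [e1]; exact x.2
    · change (snd G X).left (m.left x.1) ∈ W₁
      rw [e2]; exact x.2
  have key : a.act.left.appLE U' Ω inf_le_left w * rsec hΩU c = (snd G X).left.appLE U' Ω inf_le_right w := by
    apply rsec_injective hΩ'
    -- over `Ω'`
    let T : Over S := op (G ⊗ X) Ω'
    let t : T ⟶ G ⊗ X := inc (G ⊗ X) Ω'
    have hιt : ⊤ ≤ Ω'.ι ⁻¹ᵁ Ω' := fun p _ => p.2
    have hx : ⊤ ≤ (t ≫ snd G X).left ⁻¹ᵁ U := fun p _ => hU' (h1 p.2.2)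
    have hgx : ⊤ ≤ (t ≫ a.act).left ⁻¹ᵁ U := fun p _ => hU' (h1 p.2.1)
    obtain ⟨s, hs, hsp, hsy⟩ := ((atl B.atlas).coord U y hy).exists_lift (t ≫ snd G X).left hx 1
    let v : T ⟶ B.V := Over.homMk s (by
      have h3 : s ≫ B.V.hom = (s ≫ B.π.left) ≫ X.hom := by rw [Category.assoc, Over.w]
      rw [h3, hsp, Over.w])
    have hvx : v ≫ B.π = t ≫ snd G X := by ext1; exact hsp
    have hgvx : sm B.lift (t ≫ fst G X) v ≫ B.π = t ≫ a.act := by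
      rw [sm_π, hvx, ← comp_sm]
      have : sm a (fst G X) (snd G X) = a.act := by rw [sm, lift_fst_snd, Category.id_comp]
      rw [this]
    have hlift : lift (t ≫ fst G X) (v ≫ B.π) = t := by
      rw [hvx, ← comp_lift, lift_fst_snd, Category.comp_id]
    have hvU : ⊤ ≤ v.left ⁻¹ᵁ (B.π.left ⁻¹ᵁ U) := hs
    have hgvU : ⊤ ≤ (sm B.lift (t ≫ fst G X) v).left ⁻¹ᵁ (B.π.left ⁻¹ᵁ U) := by
      intro p _
      change (sm B.lift (t ≫ fst G X) v ≫ B.π).left p ∈ U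
      rw [hgvx]
      exact hgx trivial
    have hm : ⊤ ≤ (lift (t ≫ fst G X) (v ≫ B.π)).left ⁻¹ᵁ (a.act.left ⁻¹ᵁ U ⊓ (snd G X).left ⁻¹ᵁ U) := by
      rw [hlift]
      exact fun p _ => ⟨hU' (h1 p.2.1), hU' (h1 p.2.2)⟩
    have hvUO : ⊤ ≤ v.left ⁻¹ᵁ (B.π.left ⁻¹ᵁ (U ⊓ O₁)) := by
      intro p _
      change (v ≫ B.π).left p ∈ U ⊓ O₁
      rw [hvx]
      exact ⟨hU' (h1 p.2.2), h2 p.2.2⟩
    have hgvUO : ⊤ ≤ (sm B.lift (t ≫ fst G X) v).left ⁻¹ᵁ (B.π.left ⁻¹ᵁ (U ⊓ O₁)) := by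
      intro p _
      change (sm B.lift (t ≫ fst G X) v ≫ B.π).left p ∈ U ⊓ O₁
      rw [hgvx]
      exact ⟨hU' (h1 p.2.1), h2 p.2.1⟩
    have e1 := hf₁.inv T (t ≫ fst G X) v
      (hvUO.trans (v.left.preimage_mono (B.π.left.preimage_mono inf_le_right)))
      (hgvUO.trans ((sm B.lift (t ≫ fst G X) v).left.preimage_mono (B.π.left.preimage_mono inf_le_right)))
    rw [← ev_rs (p := B.π.left) _ hvUO inf_le_right, ← ev_rs (p := B.π.left) _ hgvUO inf_le_right, hc₁, ev_mul, ev_mul,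
      ev_rs, ev_rs] at e1
    have e2 := lin_eval hc (t ≫ fst G X) v hvU hgvU hm
    have hsy' : ev v.left hvU y = 1 := hsy
    rw [hsy', _root_.mul_one] at e2
    have e3 : ev v.left (hvUO.trans (v.left.preimage_mono (B.π.left.preimage_mono inf_le_left))) y = 1 := hsy
    have hl1 : ⊤ ≤ (t ≫ a.act).left ⁻¹ᵁ (U ⊓ O₁) := fun p _ => ⟨hU' (h1 p.2.1), h2 p.2.1⟩
    have hl2 : ⊤ ≤ (t ≫ snd G X).left ⁻¹ᵁ (U ⊓ O₁) := fun p _ => ⟨hU' (h1 p.2.2), h2 p.2.2⟩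
    rw [e3, _root_.mul_one, ev_app (p := B.π.left) _ hgvUO (t ≫ a.act).left (congrArg CommaMorphism.left hgvx) hl1,
      ev_app (p := B.π.left) _ hvUO (t ≫ snd G X).left (congrArg CommaMorphism.left hvx) hl2] at e1
    have ht : ⊤ ≤ t.left ⁻¹ᵁ (a.act.left ⁻¹ᵁ U ⊓ (snd G X).left ⁻¹ᵁ U) :=
      fun p _ => ⟨hU' (h1 p.2.1), hU' (h1 p.2.2)⟩
    have e2' : ev (sm B.lift (t ≫ fst G X) v).left hgvU y = t.left.appLE _ ⊤ ht c := by
      rw [e2]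
      exact appLE_hom_congr (congrArg CommaMorphism.left hlift) _ _ c
    have e4 : (t ≫ a.act).left.appLE (U ⊓ O₁) ⊤ hl1 c₁ * t.left.appLE _ ⊤ ht c =
        (t ≫ snd G X).left.appLE (U ⊓ O₁) ⊤ hl2 c₁ := by
      rw [← e2']
      exact e1
    -- conclude
    have hΩι : ⊤ ≤ t.left ⁻¹ᵁ Ω := fun p _ => hΩ' p.2
    refine rsec_eq_of_ι hΩ' hΩι _ _ ?_
    change t.left.appLE Ω ⊤ hΩι _ = t.left.appLE Ω ⊤ hΩι _
    have hw1 : ⊤ ≤ (t ≫ a.act).left ⁻¹ᵁ U' := fun p _ => h1 p.2.1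
    have hw2 : ⊤ ≤ (t ≫ snd G X).left ⁻¹ᵁ U' := fun p _ => h1 p.2.2
    have hr1 : ⊤ ≤ (t ≫ a.act).left ⁻¹ᵁ Or := fun p _ => h3 p.2.1
    have hr2 : ⊤ ≤ (t ≫ snd G X).left ⁻¹ᵁ Or := fun p _ => h3 p.2.2
    have k1 : t.left.appLE Ω ⊤ hΩι (a.act.left.appLE U' Ω inf_le_left w) =
        (t ≫ a.act).left.appLE U' ⊤ hw1 w := appLE_appLE _ _ _ _ _ _
    have k2 : t.left.appLE Ω ⊤ hΩι ((snd G X).left.appLE U' Ω inf_le_right w) =
        (t ≫ snd G X).left.appLE U' ⊤ hw2 w := appLE_appLE _ _ _ _ _ _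
    have k3 : t.left.appLE Ω ⊤ hΩι (rsec hΩU c) = t.left.appLE _ ⊤ ht c :=
      appLE_rsec _ _ _ _ _
    -- rewrite `w` over `W₁`
    have hW1 : ⊤ ≤ (t ≫ a.act).left ⁻¹ᵁ W₁ := fun p _ => p.2.1
    have hW2 : ⊤ ≤ (t ≫ snd G X).left ⁻¹ᵁ W₁ := fun p _ => p.2.2
    have j1 : (t ≫ a.act).left.appLE U' ⊤ hw1 w =
        (t ≫ a.act).left.appLE Or ⊤ hr1 r * (t ≫ a.act).left.appLE (U ⊓ O₁) ⊤ hl1 c₁ := by
      refine (appLE_rsec (t ≫ a.act).left h1 hW1 hw1 w).symm.trans ?_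
      rw [hwr, map_mul]
      exact congrArg₂ (· * ·) (appLE_rsec _ _ _ _ _) (appLE_rsec _ _ _ _ _)
    have j2 : (t ≫ snd G X).left.appLE U' ⊤ hw2 w =
        (t ≫ snd G X).left.appLE Or ⊤ hr2 r * (t ≫ snd G X).left.appLE (U ⊓ O₁) ⊤ hl2 c₁ := by
      refine (appLE_rsec (t ≫ snd G X).left h1 hW2 hw2 w).symm.trans ?_
      rw [hwr, map_mul]
      exact congrArg₂ (· * ·) (appLE_rsec _ _ _ _ _) (appLE_rsec _ _ _ _ _)
    have j3 : (t ≫ a.act).left.appLE Or ⊤ hr1 r = (t ≫ snd G X).left.appLE Or ⊤ hr2 r := by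
      have i1 := appLE_appLE t.left a.act.left (show Ω' ≤ a.act.left ⁻¹ᵁ Or from fun p hp => h3 hp.1) hιt hr1 r
      have i2 := appLE_appLE t.left (snd G X).left (show Ω' ≤ (snd G X).left ⁻¹ᵁ Or from fun p hp => h3 hp.2) hιt
        hr2 r
      rw [hr Ω' (fun p hp => h3 hp.1) (fun p hp => h3 hp.2)] at i1
      exact i1.symm.trans i2
    refine (map_mul _ _ _).trans ?_
    refine Eq.trans ?_ k2.symm
    refine (congrArg₂ (· * ·) k1 k3).trans ?_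
    rw [j2, ← e4, ← j3, ← _root_.mul_assoc]
    exact congrArg (· * t.left.appLE _ ⊤ ht c) j1
  refine ⟨?_, ?_, ?_⟩
  · have := Wt.of_adm (n := 1) (atl B.atlas) hadm w
    rwa [pow_one] at this
  · have h4 := nv_adm (n := 1) (atl B.atlas) hadm w
    rw [pow_one] at h4
    rw [h4, X.left.basicOpen_of_isUnit hw]
  · intro T g v h h'
    have hm : ⊤ ≤ (lift g (v ≫ B.π)).left ⁻¹ᵁ Ω := by
      intro p _
      refine ⟨?_, ?_⟩
      · change (lift g (v ≫ B.π) ≫ a.act).left p ∈ U'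
        have : lift g (v ≫ B.π) ≫ a.act = sm B.lift g v ≫ B.π := (sm_π g v).symm
        rw [this]
        exact h' trivial
      · change (lift g (v ≫ B.π) ≫ snd G X).left p ∈ U'
        rw [lift_snd]
        exact h trivial
    have hvU : ⊤ ≤ v.left ⁻¹ᵁ (B.π.left ⁻¹ᵁ U) := h.trans (v.left.preimage_mono (B.π.left.preimage_mono hU'))
    have hgvU : ⊤ ≤ (sm B.lift g v).left ⁻¹ᵁ (B.π.left ⁻¹ᵁ U) :=
      h'.trans ((sm B.lift g v).left.preimage_mono (B.π.left.preimage_mono hU'))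
    have e1 := lin_eval hc g v hvU hgvU (hm.trans ((lift g (v ≫ B.π)).left.preimage_mono hΩU))
    rw [ev_mul, ev_mul, ev_rs, ev_rs, e1]
    have hx1 : ⊤ ≤ (lift g (v ≫ B.π) ≫ a.act).left ⁻¹ᵁ U' := fun p _ => (hm (show p ∈ (⊤ : T.left.Opens) from trivial)).1
    have hx2 : ⊤ ≤ (lift g (v ≫ B.π) ≫ snd G X).left ⁻¹ᵁ U' := fun p _ => (hm (show p ∈ (⊤ : T.left.Opens) from trivial)).2
    rw [ev_app (p := B.π.left) _ h' (lift g (v ≫ B.π) ≫ a.act).left (congrArg CommaMorphism.left (sm_π g v)) hx1,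
      ev_app (p := B.π.left) _ h (lift g (v ≫ B.π) ≫ snd G X).left
        (congrArg CommaMorphism.left (lift_snd g (v ≫ B.π)).symm) hx2]
    have e2 := congrArg ((lift g (v ≫ B.π)).left.appLE Ω ⊤ hm) key
    rw [map_mul] at e2
    have k1 : (lift g (v ≫ B.π)).left.appLE Ω ⊤ hm (a.act.left.appLE U' Ω inf_le_left w) =
        (lift g (v ≫ B.π) ≫ a.act).left.appLE U' ⊤ hx1 w := appLE_appLE _ _ _ _ _ _
    have k2 : (lift g (v ≫ B.π)).left.appLE Ω ⊤ hm ((snd G X).left.appLE U' Ω inf_le_right w) =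
        (lift g (v ≫ B.π) ≫ snd G X).left.appLE U' ⊤ hx2 w := appLE_appLE _ _ _ _ _ _
    have k3 : (lift g (v ≫ B.π)).left.appLE Ω ⊤ hm (rsec hΩU c) =
        (lift g (v ≫ B.π)).left.appLE _ ⊤ (hm.trans ((lift g (v ≫ B.π)).left.preimage_mono hΩU)) c :=
      appLE_rsec _ _ _ _ _
    rw [k1, k2, k3] at e2
    rw [← e2, _root_.mul_assoc]

end K676.LocFrame
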