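import Groth.Agent.GIT.K686.CoactOf
import Groth.Agent.GLinSh.K676.FrameAlg
import Groth.Agent.NRQuot.K990.ClosedOrbit
import Groth.Agent.Books.ComodPoints

/-!
# Orbit maps of rational points of an affine scheme with an action, on functions
-/

set_option autoImplicit false
universe u
open CategoryTheory MonoidalCategory CartesianMonoidalCategory MonObj AlgebraicGeometry Topology Limits
open scoped TensorProduct
open K951.Pts Groth.Agent.Books.BorelOrb Groth.Agent.Books.AffBridge Groth.Agent.Sga3.H219.Coact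
open K686.CoactOf K990.NRQuot

namespace K676.OrbBridge

attribute [local instance] K951.Pts.algΓ

variable {k : Type u} [Field k]

section Pt

variable {X : Over (Spec (CommRingCat.of k))}

theorem bij_unit : Function.Bijective
    (Algebra.ofId k Γ((𝟙_ (Over (Spec (CommRingCat.of k)))).left, ⊤)) := by
  have h1 : (Algebra.ofId k Γ((𝟙_ (Over (Spec (CommRingCat.of k)))).left, ⊤) : k → _) =
      (Scheme.ΓSpecIso (CommRingCat.of k)).inv := by
    funext r
    change fnS (𝟙_ (Over (Spec (CommRingCat.of k)))).hom r = _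
    have h2 : (𝟙_ (Over (Spec (CommRingCat.of k)))).hom = 𝟙 (Spec (CommRingCat.of k)) := rfl
    rw [h2]
    change ((Scheme.ΓSpecIso (CommRingCat.of k)).inv ≫ Scheme.Hom.appTop (𝟙 (Spec (CommRingCat.of k)))) r = _
    rw [Scheme.Hom.id_appTop, Category.comp_id]
  rw [h1]
  exact ConcreteCategory.bijective_of_isIso (Scheme.ΓSpecIso (CommRingCat.of k)).inv

/-- Evaluation of functions at a rational point. -/
noncomputable def evp (x : 𝟙_ (Over (Spec (CommRingCat.of k))) ⟶ X) : Γ(X.left, ⊤) →ₐ[k] k :=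
  (AlgEquiv.ofBijective _ bij_unit).symm.toAlgHom.comp (fn (x ≫ aff X))

theorem fn_unit_aff (x : 𝟙_ (Over (Spec (CommRingCat.of k))) ⟶ X) :
    fn (x ≫ aff X) = (Algebra.ofId k Γ((𝟙_ (Over (Spec (CommRingCat.of k)))).left, ⊤)).comp (evp x) := by
  apply AlgHom.ext
  intro f
  exact ((AlgEquiv.ofBijective _ bij_unit).apply_symm_apply (fn (x ≫ aff X) f)).symm

theorem fn_const (x : 𝟙_ (Over (Spec (CommRingCat.of k))) ⟶ X) (W : Over (Spec (CommRingCat.of k))) :
    fn (toUnit W ≫ x ≫ aff X) = (Algebra.ofId k Γ(W.left, ⊤)).comp (evp x) := by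
  apply AlgHom.ext
  intro f
  rw [fn_comp, fn_unit_aff]
  have h1 : ∀ r : k, (toUnit W).left.appTop.hom
      (Algebra.ofId k Γ((𝟙_ (Over (Spec (CommRingCat.of k)))).left, ⊤) r) = Algebra.ofId k Γ(W.left, ⊤) r := by
    intro r
    change (toUnit W).left.appTop.hom (fnS (𝟙_ (Over (Spec (CommRingCat.of k)))).hom r) = fnS W.hom r
    rw [← fnS_comp_apply, Over.w]
  exact h1 _

theorem fn_appTop {W : Over (Spec (CommRingCat.of k))} (w : W ⟶ X) (f : Γ(X.left, ⊤)) :
    fn (w ≫ aff X) f = w.left.appTop f := by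
  rw [fn_comp, fn_aff]
  rfl

theorem const_appTop (x : 𝟙_ (Over (Spec (CommRingCat.of k))) ⟶ X) (W : Over (Spec (CommRingCat.of k)))
    (f : Γ(X.left, ⊤)) : (toUnit W ≫ x).left.appTop f = algebraMap k Γ(W.left, ⊤) (evp x f) := by
  rw [← fn_appTop, Category.assoc, fn_const]
  rfl

theorem evp_comp {V : Over (Spec (CommRingCat.of k))} (v : 𝟙_ (Over (Spec (CommRingCat.of k))) ⟶ V) (π : V ⟶ X)
    (f : Γ(X.left, ⊤)) : evp (v ≫ π) f = evp v (π.left.appTop f) := by
  apply bij_unit.1
  have h1 := congrArg (fun φ => φ f) (fn_unit_aff (v ≫ π))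
  have h2 := congrArg (fun φ => φ (π.left.appTop f)) (fn_unit_aff v)
  simp only [AlgHom.comp_apply] at h1 h2
  rw [← h1, ← h2, fn_appTop, fn_appTop, Over.comp_left, Scheme.Hom.comp_appTop]
  rfl

theorem evp_eq_zero_iff (x : 𝟙_ (Over (Spec (CommRingCat.of k))) ⟶ X) (f : Γ(X.left, ⊤)) :
    evp x f = 0 ↔ pt x ∉ X.left.basicOpen f := by
  have h1 : x.left.appTop f = Algebra.ofId k Γ((𝟙_ (Over (Spec (CommRingCat.of k)))).left, ⊤) (evp x f) := by
    rw [← fn_appTop, fn_unit_aff]; rfl
  have h2 : pt x ∈ X.left.basicOpen f ↔ IsLocalRing.closedPoint k ∈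
      (𝟙_ (Over (Spec (CommRingCat.of k)))).left.basicOpen (x.left.appTop f) := by
    have h3 : x.left ⁻¹ᵁ X.left.basicOpen f = (𝟙_ (Over (Spec (CommRingCat.of k)))).left.basicOpen (x.left.appTop f) :=
      Scheme.preimage_basicOpen_top x.left f
    rw [← h3]
    exact Iff.rfl
  rw [h2, h1]
  constructor
  · intro h
    rw [h, map_zero, Scheme.basicOpen_zero]
    exact fun h => h
  · intro h
    by_contra hne
    apply h
    have h4 : IsUnit (Algebra.ofId k Γ((𝟙_ (Over (Spec (CommRingCat.of k)))).left, ⊤) (evp x f)) :=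
      (isUnit_iff_ne_zero.mpr hne).map _
    rw [Scheme.basicOpen_of_isUnit _ h4]
    trivial

end Pt

section Orb

variable {G X : Over (Spec (CommRingCat.of k))} [GrpObj G] [IsAffine X.left]
  (a : AlgGrp.Action G X) {A : Type u} [CommRing A] [HopfAlgebra k A] (e : SpecOver k A ≅ G) [IsMonHom e.hom]

/-- The comodule structure on the functions given by `x · g = g⁻¹ x`. -/
@[reducible] noncomputable def cm : HopfRep.Comod k A Γ(X.left, ⊤) := comod (r a e) (hone a e) (hmul a e)

theorem isCoactAlg : letI := cm a e; GLin.IsCoactAlg k A Γ(X.left, ⊤) := by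
  let := cm a e
  exact { coact_mul := fun f g => map_mul (rho k (r a e)) f g, coact_one := map_one (rho k (r a e)) }

theorem fn_orbitHom (x : 𝟙_ (Over (Spec (CommRingCat.of k))) ⟶ X) {W : Over (Spec (CommRingCat.of k))}
    (g : W ⟶ SpecOver k A) (f : Γ(X.left, ⊤)) :
    letI := cm a e; letI := isCoactAlg a e;
    (sm a ((g ≫ e.hom)⁻¹) (toUnit W ≫ x)).left.appTop f = fn g (GLin.orbitHom k A (evp x) f) := by
  let := cm a e
  have := isCoactAlg a e
  have h1 := congrArg (fun φ => φ f) (fn_lift_r a e (toUnit W ≫ x ≫ aff X) g)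
  simp only [AlgHom.comp_apply] at h1
  rw [lift_r, ε_inv, fn_appTop] at h1
  have h2 : (toUnit W ≫ x ≫ aff X) ≫ (ε X).hom = toUnit W ≫ x := by
    rw [Category.assoc, Category.assoc, ← ε_inv, Iso.inv_hom_id, Category.comp_id]
  rw [h2] at h1
  refine h1.trans ?_
  rw [K690.Orbits.orbitHom_apply]
  have h3 : ∀ t : Γ(X.left, ⊤) ⊗[k] A,
      (Algebra.TensorProduct.lift (fn (toUnit W ≫ x ≫ aff X)) (fn g) fun _ _ => .all _ _) t =
      fn g ((TensorProduct.lid k A) ((evp x).toLinearMap.rTensor A t)) := by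
    intro t
    induction t using TensorProduct.induction_on with
    | zero => simp
    | tmul f b =>
      rw [Algebra.TensorProduct.lift_tmul, fn_const, LinearMap.rTensor_tmul, TensorProduct.lid_tmul,
        map_smul, Algebra.smul_def]
      rfl
    | add s t hs ht => rw [map_add, map_add, map_add, map_add, hs, ht]
  exact h3 _

/-- Closed orbits. -/
theorem isClosedOrbit_iff (x : 𝟙_ (Over (Spec (CommRingCat.of k))) ⟶ X) :
    letI := cm a e; letI := isCoactAlg a e;
    GLin.IsClosedOrbit k A (evp x) ↔ IsClosed (orb a x) := by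
  let := cm a e
  have := isCoactAlg a e
  let m : SpecOver k A ⟶ X := sm a ((𝟙 _ ≫ e.hom)⁻¹) (toUnit _ ≫ x)
  have hm : m ≫ aff X = specMap k (GLin.orbitHom k A (evp x)) := by
    apply fn_injective
    apply AlgHom.ext
    intro f
    rw [fn_appTop]
    refine (fn_orbitHom a e x (𝟙 _) f).trans ?_
    have h1 := fn_comp_pt (𝟙 (SpecOver k A)) (GLin.orbitHom k A (evp x))
    rw [Category.id_comp] at h1
    exact (congrArg (fun φ => φ f) h1).symm
  have h1 : Set.range (PrimeSpectrum.comap (GLin.orbitHom k A (evp x)).toRingHom) =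
      (aff X).left '' Set.range m.left := by
    have h2 : Set.range (specMap k (GLin.orbitHom k A (evp x))).left = (aff X).left '' Set.range m.left := by
      rw [← hm, Over.comp_left, Scheme.Hom.comp_base, TopCat.coe_comp, Set.range_comp]
    exact h2
  have h3 : Set.range m.left = orb a x := by
    have h4 : m = (e.hom)⁻¹ ≫ a.orbitMap x := by
      rw [comp_orbitMap]
      simp only [m, Category.id_comp]
    have h5 : IsIso (e.hom)⁻¹ := by
      have : (e.hom)⁻¹ = e.hom ≫ (𝟙 G)⁻¹ := by rw [GrpObj.comp_inv, Category.comp_id]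
      rw [this, Hom.inv_def]
      infer_instance
    have h6 : Function.Surjective (e.hom)⁻¹.left := by
      have : IsIso (e.hom)⁻¹.left :=
        inferInstanceAs (IsIso ((Over.forget (Spec (CommRingCat.of k))).map (e.hom)⁻¹))
      exact (e.hom)⁻¹.left.homeomorph.surjective
    rw [h4, Over.comp_left, Scheme.Hom.comp_base, TopCat.coe_comp, h6.range_comp]
  have h7 : IsIso (aff X).left := by
    have := isIso_aff X
    exact inferInstanceAs (IsIso ((Over.forget (Spec (CommRingCat.of k))).map (aff X)))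
  have h8 : IsHomeomorph (aff X).left := (aff X).left.homeomorph.isHomeomorph
  rw [GLin.IsClosedOrbit, h1, h3]
  exact (h8.isClosedEmbedding.isClosed_iff_image_isClosed).symm

end Orb

end K676.OrbBridge
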